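import Mathlib
import Cfsg.Agent.Schreier.Basic
import Cfsg.Agent.Schreier.Tools
set_option linter.all false

/-!
# Perfect groups of automorphisms on root subgroups
-/

set_option autoImplicit false

namespace Cfsg.Agent.Schreier.BNField

open Cfsg.Agent.Schreier.Basic Cfsg.Agent.Schreier.Tools

variable {K : Type*} [Group K]

/-- A homomorphism of a perfect subgroup to a commutative monoid is trivial. -/
theorem monoidHom_eq_one {A M : Type*} [Group A] [CommMonoid M] {D : Subgroup A} (hD : ⁅D, D⁆ = D) (f : D →* M)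
    (d : D) : f d = 1 := by
  have h1 := hom_eq_one hD f.toHomUnits d
  have h2 := congrArg (fun u : Mˣ => (u : M)) h1
  exact h2

/-- A perfect group of automorphisms acts trivially on a cyclic section of an invariant subgroup. -/
theorem apply_eq_of_cyclic {D : Subgroup (MulAut K)} (hD : ⁅D, D⁆ = D) {B : Subgroup K} (hB : Inv D B)
    {Z : Type*} [Group Z] [IsCyclic Z] (χ : B →* Z)
    (hk : ∀ (φ : MulAut K) (hφ : φ ∈ D) (b : B), χ b = 1 → χ ⟨φ b, hB.apply_mem hφ b.2⟩ = 1)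
    (φ : MulAut K) (hφ : φ ∈ D) (b : B) : χ ⟨φ b, hB.apply_mem hφ b.2⟩ = χ b := by
  classical
  have hcyc : IsCyclic χ.range := inferInstance
  obtain ⟨⟨z, b₀, hb₀⟩, hz⟩ := hcyc.exists_generator
  -- every element of the range is a power of `z = χ b₀`
  have hz' : ∀ b : B, ∃ k : ℤ, χ b = χ b₀ ^ k := by
    intro b
    obtain ⟨k, hk⟩ := Subgroup.mem_zpowers_iff.1 (hz ⟨χ b, b, rfl⟩)
    refine ⟨k, ?_⟩
    have := congrArg Subtype.val hk
    rw [hb₀]
    exact this.symm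
  have hcongr : ∀ (φ : MulAut K) (hφ : φ ∈ D) (b c : B), χ b = χ c →
      χ ⟨φ b, hB.apply_mem hφ b.2⟩ = χ ⟨φ c, hB.apply_mem hφ c.2⟩ := by
    intro φ hφ b c hbc
    have h1 : χ (b * c⁻¹) = 1 := by rw [map_mul, map_inv, hbc, mul_inv_cancel]
    have h2 := hk φ hφ _ h1
    have h3 : (⟨φ ((b * c⁻¹ : B) : K), hB.apply_mem hφ (b * c⁻¹).2⟩ : B) =
        ⟨φ b, hB.apply_mem hφ b.2⟩ * ⟨φ c, hB.apply_mem hφ c.2⟩⁻¹ := by
      apply Subtype.ext
      simp [map_mul, map_inv]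
    rw [h3, map_mul, map_inv, mul_inv_eq_one] at h2
    exact h2
  have hzpow : ∀ (φ : MulAut K) (hφ : φ ∈ D) (b : B) (k : ℤ),
      χ ⟨φ ((b ^ k : B) : K), hB.apply_mem hφ (b ^ k).2⟩ = χ ⟨φ b, hB.apply_mem hφ b.2⟩ ^ k := by
    intro φ hφ b k
    rw [← map_zpow]
    congr 1
    apply Subtype.ext
    simp [map_zpow]
  have hex : ∀ ψ : D, ∃ k : ℤ, χ ⟨(ψ : MulAut K) b₀, hB.apply_mem ψ.2 b₀.2⟩ = χ b₀ ^ k := fun ψ => hz' _
  choose k hkk using hex
  have hgen : ∀ (ψ : D) (b : B) (m : ℤ), χ b = χ b₀ ^ m →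
      χ ⟨(ψ : MulAut K) b, hB.apply_mem ψ.2 b.2⟩ = χ b₀ ^ (k ψ * m) := by
    intro ψ b m hm
    rw [hcongr ψ ψ.2 b (b₀ ^ m) (by rw [hm, map_zpow]), hzpow ψ ψ.2, hkk, zpow_mul]
  let g : D →* ZMod (orderOf (χ b₀)) :=
    { toFun := fun ψ => (k ψ : ZMod (orderOf (χ b₀)))
      map_one' := by
        rw [← Int.cast_one, ZMod.intCast_eq_intCast_iff, ← zpow_eq_zpow_iff_modEq, ← hkk, zpow_one]
        rfl
      map_mul' := fun ψ ψ' => by
        rw [← Int.cast_mul, ZMod.intCast_eq_intCast_iff, ← zpow_eq_zpow_iff_modEq, ← hkk]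
        exact hgen ψ ⟨(ψ' : MulAut K) b₀, hB.apply_mem ψ'.2 b₀.2⟩ (k ψ') (hkk ψ') }
  have h1 : (k ⟨φ, hφ⟩ : ZMod (orderOf (χ b₀))) = 1 := monoidHom_eq_one hD g ⟨φ, hφ⟩
  rw [← Int.cast_one, ZMod.intCast_eq_intCast_iff, ← zpow_eq_zpow_iff_modEq, zpow_one] at h1
  obtain ⟨m, hm⟩ := hz' b
  rw [hgen ⟨φ, hφ⟩ b m hm, zpow_mul, h1, hm]

/-- **Field lemma.**  A perfect group of automorphisms acts trivially on an invariant section `X/Y` parametrised by
a finite field `F` when an invariant subgroup `B` acts by scalars spanning `F`. -/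
theorem trMod_of_field {D : Subgroup (MulAut K)} (hD : ⁅D, D⁆ = D) {B X Y : Subgroup K} (hB : Inv D B)
    (hX : Inv D X) (hY : Inv D Y) (hYX : Y ≤ X) (hXY : ∀ u ∈ X, ∀ y ∈ Y, u * y * u⁻¹ ∈ Y)
    (hBY : ∀ b ∈ B, ∀ y ∈ Y, b * y * b⁻¹ ∈ Y)
    {F : Type*} [Field F] [Finite F] (x : F → K) (hx : ∀ t, x t ∈ X)
    (hadd : ∀ t₁ t₂, (x (t₁ + t₂))⁻¹ * (x t₁ * x t₂) ∈ Y) (hinj : ∀ t, x t ∈ Y → t = 0)
    (hsurj : ∀ u ∈ X, ∃ t, (x t)⁻¹ * u ∈ Y)
    (χ : K → F) (hχ : ∀ b ∈ B, ∀ t, (x (χ b * t))⁻¹ * (b * x t * b⁻¹) ∈ Y)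
    (hgen : AddSubgroup.closure (χ '' (B : Set K)) = ⊤) : TrMod D X Y := by
  classical
  -- the relation `E u t`: `u ≡ x t mod Y`
  let E : K → F → Prop := fun u t => (x t)⁻¹ * u ∈ Y
  have hnc : ∀ u ∈ X, ∀ y ∈ Y, u⁻¹ * y * u ∈ Y := fun u hu y hy => by
    simpa using hXY u⁻¹ (inv_mem hu) y hy
  have E_self : ∀ t, E (x t) t := fun t => by
    show (x t)⁻¹ * x t ∈ Y
    rw [inv_mul_cancel]; exact one_mem _
  have E_uniq : ∀ u t t', E u t → E u t' → t = t' := by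
    intro u t t' h h'
    have h1 : (x t)⁻¹ * x t' ∈ Y := by
      have := mul_mem h (inv_mem h')
      have h2 : (x t)⁻¹ * u * ((x t')⁻¹ * u)⁻¹ = (x t)⁻¹ * x t' := by group
      rwa [h2] at this
    have h3 := hadd t (t' - t)
    rw [add_sub_cancel] at h3
    have h4 : x (t' - t) ∈ Y := by
      have h5 : x (t' - t) = ((x t)⁻¹ * x t') * ((x t')⁻¹ * (x t * x (t' - t))) := by group
      rw [h5]
      exact mul_mem h1 h3
    have := hinj _ h4
    exact (sub_eq_zero.1 this).symm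
  have E_mul : ∀ u v t s, E u t → E v s → E (u * v) (t + s) := by
    intro u v t s hu hv
    show (x (t + s))⁻¹ * (u * v) ∈ Y
    have h1 : (x (t + s))⁻¹ * (u * v) = ((x (t + s))⁻¹ * (x t * x s)) *
        ((x s)⁻¹ * ((x t)⁻¹ * u) * x s) * ((x s)⁻¹ * v) := by group
    rw [h1]
    exact mul_mem (mul_mem (hadd t s) (hnc _ (hx s) _ hu)) hv
  have E_congr : ∀ u v t, u⁻¹ * v ∈ Y → E u t → E v t := by
    intro u v t huv hu
    show (x t)⁻¹ * v ∈ Y
    have h1 : (x t)⁻¹ * v = (x t)⁻¹ * u * (u⁻¹ * v) := by group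
    rw [h1]
    exact mul_mem hu huv
  have E_same : ∀ u v t, E u t → E v t → u⁻¹ * v ∈ Y := by
    intro u v t hu hv
    have h1 : u⁻¹ * v = ((x t)⁻¹ * u)⁻¹ * ((x t)⁻¹ * v) := by group
    rw [h1]
    exact mul_mem (inv_mem hu) hv
  have E_conj : ∀ b ∈ B, ∀ u t, E u t → E (b * u * b⁻¹) (χ b * t) := by
    intro b hb u t hu
    apply E_congr _ _ _ _ (hχ b hb t)
    have h1 : (b * x t * b⁻¹)⁻¹ * (b * u * b⁻¹) = b * ((x t)⁻¹ * u) * b⁻¹ := by group
    rw [h1]
    exact hBY b hb _ hu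
  have E_mem : ∀ u t, E u t → u ∈ X := by
    intro u t hu
    have h1 : u = x t * ((x t)⁻¹ * u) := by group
    rw [h1]
    exact mul_mem (hx t) (hYX hu)
  have E_zero : ∀ u, E u 0 ↔ u ∈ Y := by
    have h0 : x 0 ∈ Y := by
      have := hadd 0 0
      rw [add_zero] at this
      have h1 : (x 0)⁻¹ * (x 0 * x 0) = x 0 := by group
      rwa [h1] at this
    intro u
    constructor
    · intro h
      have h1 : u = x 0 * ((x 0)⁻¹ * u) := by group
      rw [h1]
      exact mul_mem h0 h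
    · intro h
      exact mul_mem (inv_mem h0) h
  -- the character
  have hχ0 : ∀ b ∈ B, χ b ≠ 0 := by
    intro b hb h
    have h1 := E_conj b hb (x 1) 1 (E_self 1)
    rw [h, zero_mul, E_zero] at h1
    have h2 := hBY b⁻¹ (inv_mem hb) _ h1
    have h3 : b⁻¹ * (b * x 1 * b⁻¹) * b⁻¹⁻¹ = x 1 := by group
    rw [h3] at h2
    exact one_ne_zero (hinj _ h2)
  have hχmul : ∀ b ∈ B, ∀ c ∈ B, χ (b * c) = χ b * χ c := by
    intro b hb c hc
    have h1 := E_conj (b * c) (mul_mem hb hc) (x 1) 1 (E_self 1)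
    have h2 := E_conj b hb _ _ (E_conj c hc (x 1) 1 (E_self 1))
    have h3 : b * (c * x 1 * c⁻¹) * b⁻¹ = b * c * x 1 * (b * c)⁻¹ := by group
    rw [h3] at h2
    have := E_uniq _ _ _ h1 h2
    rwa [mul_one, mul_one] at this
  have hχ1 : χ 1 = 1 := by
    have h1 := E_conj 1 (one_mem _) (x 1) 1 (E_self 1)
    rw [one_mul, inv_one, mul_one, mul_one] at h1
    exact E_uniq _ _ _ h1 (E_self 1)
  let χ' : B →* Fˣ :=
    { toFun := fun b => Units.mk0 (χ b) (hχ0 b b.2)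
      map_one' := by
        apply Units.ext
        exact hχ1
      map_mul' := fun b c => by
        apply Units.ext
        exact hχmul b b.2 c c.2 }
  have hχD : ∀ φ ∈ D, ∀ b ∈ B, χ (φ b) = χ b := by
    intro φ hφ b hb
    have hcyc : IsCyclic Fˣ := inferInstance
    have h1 := apply_eq_of_cyclic hD hB χ' (fun ψ hψ c hc => ?_) φ hφ ⟨b, hb⟩
    · exact congrArg Units.val h1
    · have hc' : χ c = 1 := congrArg Units.val hc
      apply Units.ext
      show χ (ψ c) = 1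
      -- `u = ψ⁻¹ (x 1)`
      have hu : ψ⁻¹ (x 1) ∈ X := hX.apply_mem (inv_mem hψ) (hx 1)
      obtain ⟨r, hr⟩ := hsurj _ hu
      have h2 := E_conj c c.2 _ _ hr
      rw [hc', one_mul] at h2
      have h3 := hY.apply_mem hψ (E_same _ _ _ hr h2)
      rw [map_mul, map_inv, map_mul, map_mul, map_inv, MulAut.apply_inv_self] at h3
      have h4 := E_congr _ _ _ h3 (E_self 1)
      have h5 := E_conj (ψ c) (hB.apply_mem hψ c.2) _ _ (E_self 1)
      rw [mul_one] at h5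
      exact E_uniq _ _ _ h5 h4
  -- the induced maps
  have hex : ∀ (φ : D) (t : F), ∃ r, E ((φ : MulAut K) (x t)) r := fun φ t => hsurj _ (hX.apply_mem φ.2 (hx t))
  choose f hf using hex
  have hfE : ∀ (φ : D) u t, E u t → E ((φ : MulAut K) u) (f φ t) := by
    intro φ u t hu
    apply E_congr _ _ _ _ (hf φ t)
    rw [← map_inv, ← map_mul]
    exact hY.apply_mem φ.2 hu
  have hfadd : ∀ (φ : D) t s, f φ (t + s) = f φ t + f φ s := by
    intro φ t s
    apply E_uniq ((φ : MulAut K) (x t * x s))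
    · exact hfE φ _ _ (hadd t s)
    · rw [map_mul]
      exact E_mul _ _ _ _ (hf φ t) (hf φ s)
  have hfχ : ∀ (φ : D) b, b ∈ B → ∀ t, f φ (χ b * t) = χ b * f φ t := by
    intro φ b hb t
    apply E_uniq ((φ : MulAut K) (b * x t * b⁻¹))
    · exact hfE φ _ _ (hχ b hb t)
    · rw [map_mul, map_mul, map_inv, ← hχD φ φ.2 b hb]
      exact E_conj _ (hB.apply_mem φ.2 hb) _ _ (hf φ t)
  have hlin : ∀ (φ : D) (c t : F), f φ (c * t) = c * f φ t := by
    intro φ
    have h0 : f φ 0 = 0 := by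
      have := hfadd φ 0 0
      rw [add_zero] at this
      exact left_eq_add.1 this
    have hneg : ∀ t, f φ (-t) = - f φ t := by
      intro t
      have := hfadd φ t (-t)
      rw [add_neg_cancel, h0] at this
      exact (neg_eq_of_add_eq_zero_right this.symm).symm
    let S : AddSubgroup F :=
      { carrier := {c | ∀ t, f φ (c * t) = c * f φ t}
        zero_mem' := fun t => by rw [zero_mul, zero_mul, h0]
        add_mem' := fun {a b} ha hb t => by rw [add_mul, hfadd, ha, hb, add_mul]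
        neg_mem' := fun {a} ha t => by rw [neg_mul, hneg, ha, neg_mul] }
    have hS : AddSubgroup.closure (χ '' (B : Set K)) ≤ S := by
      rw [AddSubgroup.closure_le]
      rintro _ ⟨b, hb, rfl⟩ t
      exact hfχ φ b hb t
    rw [hgen] at hS
    intro c t
    exact hS (AddSubgroup.mem_top c) t
  let g : D →* F :=
    { toFun := fun φ => f φ 1
      map_one' := by
        apply E_uniq (x 1) _ _ _ (E_self 1)
        exact hf 1 1
      map_mul' := fun φ ψ => by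
        have h1 : f (φ * ψ) 1 = f φ (f ψ 1) := by
          apply E_uniq (((φ * ψ : D) : MulAut K) (x 1)) _ _ (hf _ _)
          exact hfE φ _ _ (hf ψ 1)
        rw [h1, ← mul_one (f ψ 1), hlin, mul_one, mul_comm] }
  intro φ hφ u hu
  obtain ⟨t, ht⟩ := hsurj u hu
  have h1 : f ⟨φ, hφ⟩ 1 = 1 := monoidHom_eq_one hD g ⟨φ, hφ⟩
  have h2 : f ⟨φ, hφ⟩ t = t := by
    rw [← mul_one t, hlin, h1, mul_one]
  have h3 := hfE ⟨φ, hφ⟩ u t ht
  rw [h2] at h3
  exact E_same _ _ _ ht h3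

end Cfsg.Agent.Schreier.BNField
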