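import Mathlib
import Cfsg.Agent.S0205
import Cfsg.Agent.S0227
import Cfsg.Agent.Schreier.Basic
import Cfsg.Agent.Schreier.Tools
import Cfsg.Agent.Schreier.SylowCrit
import Cfsg.Agent.Schreier.Tools2
import Cfsg.Agent.Lib.FrattiniPGroup
import Cfsg.Agent.S1695
import Cfsg.Agent.SporadicB.HePerm.Final
import Cfsg.Agent.ChevalleyStructure.Tits.Main
import Cfsg.Agent.Schreier.TwoGen
import Cfsg.Agent.Schreier.BNField
import Cfsg.Agent.LieRecognition.SzMatrix
import Cfsg.Agent.S1162
import Cfsg.Agent.S1163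
import Cfsg.Agent.Lib.ElemAbGL
import Cfsg.Agent.FastGrp
import Cfsg.Agent.Prune
set_option linter.all false

section
prune_inst 0x7fbcfefbaff8afffffff7e7ffedddffdfdfcffffffdfffcbfffce3ffafdf6b0efde56b8d9fe858ff0fd6e29630f87b13fbffceffef6bdc7ffffd5ff45ffbff8fedf7bd8951d6883e0fbc6ff783f07fce7f3fffffffffffffffffffffffffffbeffffffffffff

-- part: Schreier/Crit
section
set_option linter.all false
open scoped Cfsg.Agent.FastGrp

/-!
# The Sylow criterion for the Schreier property of simple groups
-/

set_option autoImplicit false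

namespace Cfsg.Agent.Schreier.Crit

open Cfsg.Agent.Schreier.Basic Cfsg.Agent.Schreier.Tools Cfsg.Agent.Schreier.SylowCrit

variable {K : Type*} [Group K]

/-- A non-abelian finite simple group has no nontrivial normal subgroup of odd order. -/
theorem odd_normal_eq_bot [Finite K] [IsSimpleGroup K] (hK : ¬ IsMulCommutative K) (N : Subgroup K)
    (hN : N.Normal) (hodd : Odd (Nat.card N)) : N = ⊥ := by
  rcases hN.eq_bot_or_eq_top with h | h
  · exact h
  · exfalso
    subst h
    rw [Subgroup.card_top] at hodd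
    have hs : Group.IsSolvable K := Cfsg.Agent.S0205.result hodd
    apply hK
    have h1 := IsSimpleGroup.comm_iff_isSolvable.2 hs
    exact ⟨⟨h1⟩⟩

/-- The automorphisms fixing a Sylow 2-subgroup of a non-abelian simple group form a solvable group. -/
theorem isSolvable_fixer [Finite K] [IsSimpleGroup K] (hK : ¬ IsMulCommutative K) (T : Sylow 2 K) :
    Group.IsSolvable (fixer (T : Subgroup K)) :=
  (Cfsg.Agent.S0227.result (fun N hN hodd => odd_normal_eq_bot hK N hN hodd) T (fixer (T : Subgroup K))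
    (fun _ => Iff.rfl)).2

/-- **Criterion with a stable subgroup `E`.** -/
theorem sch_of_stable [Finite K] [IsSimpleGroup K] (hK : ¬ IsMulCommutative K) (T : Sylow 2 K)
    (E : Subgroup K) (hTE : (T : Subgroup K) ≤ Subgroup.normalizer (E : Set K))
    (hst : ∀ C : Subgroup (MulAut K), ⁅C, C⁆ = C → ∀ φ ∈ C, ∃ k : K,
      E.map φ.toMonoidHom = E.map (MulAut.conj k).toMonoidHom)
    (h : ∀ D : Subgroup (MulAut K), ⁅D, D⁆ = D → Inv D (T : Subgroup K) → Inv D E → Tr D (T : Subgroup K)) :
    Sch K :=
  SylowCrit.sch_of_stable T E hTE hst (isSolvable_fixer hK T) h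

/-- **Sylow criterion**: if every perfect group of automorphisms of the simple group `K` normalising the Sylow
2-subgroup `T` centralises `T`, then `K` has the Schreier property. -/
theorem sch_of_sylow [Finite K] [IsSimpleGroup K] (hK : ¬ IsMulCommutative K) (T : Sylow 2 K)
    (h : ∀ D : Subgroup (MulAut K), ⁅D, D⁆ = D → Inv D (T : Subgroup K) → Tr D (T : Subgroup K)) :
    Sch K := by
  refine sch_of_stable hK T ⊥ ?_ ?_ (fun D hD h1 _ => h D hD h1)
  · intro t _
    rw [Subgroup.mem_normalizer_iff]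
    intro x
    simp
  · intro C _ φ _
    exact ⟨1, by simp⟩

/-- A Sylow 2-subgroup with solvable automorphism group. -/
theorem sch_of_solvable_mulAut_sylow [Finite K] [IsSimpleGroup K] (hK : ¬ IsMulCommutative K) (T : Sylow 2 K)
    [Group.IsSolvable (MulAut (T : Subgroup K))] : Sch K :=
  sch_of_sylow hK T fun _ hD hT => tr_of_solvable_mulAut hD hT

end Cfsg.Agent.Schreier.Crit
end

-- part: Schreier/UTFive_mg
section
prune_inst 0x400004400510000000000001220002000000000020003000031800502000e10208942260068200f02100208000004004003100000401000000000000040010120802240001300010421008780b003180c00000000000000000000000000041000000000000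
set_option linter.all false
open scoped Cfsg.Agent.FastGrp

-- part: Schreier/UTFive
section
/-!
# The Schreier property of simple groups with the Sylow 2-subgroup `UT₅(2)`

`Rel x`: ten involutions `x 0, ..., x 9` satisfying the commutator relations of the root elements
`12, 23, 34, 45, 13, 24, 35, 14, 25, 15` of the group of upper unitriangular `5 × 5` matrices over
the field with two elements, `x 9 ≠ 1`.

* `Rel.card_ge`, `Rel.isPGroup`: the group generated by them is a 2-group of order at least 1024;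
* `Rel.tr`: a perfect group of automorphisms normalising it centralises it (flag
  `T > C_T([T,T,T]) > [T,T]`);
* `sch_of_utfive`.
-/

set_option autoImplicit false

namespace Cfsg.Agent.Schreier.UTFive

open Cfsg.Agent.Schreier.Basic Cfsg.Agent.Schreier.Tools Cfsg.Agent.Schreier.Tools2

/-- The commutator table: `12, 23, 34, 45, 13, 24, 35, 14, 25, 15`. -/
def cm : Fin 10 → Fin 10 → Option (Fin 10)
  | 0, 1 => some 4 | 1, 0 => some 4
  | 1, 2 => some 5 | 2, 1 => some 5
  | 2, 3 => some 6 | 3, 2 => some 6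
  | 0, 5 => some 7 | 5, 0 => some 7
  | 4, 2 => some 7 | 2, 4 => some 7
  | 1, 6 => some 8 | 6, 1 => some 8
  | 5, 3 => some 8 | 3, 5 => some 8
  | 0, 8 => some 9 | 8, 0 => some 9
  | 4, 6 => some 9 | 6, 4 => some 9
  | 7, 3 => some 9 | 3, 7 => some 9
  | _, _ => none

/-- The relations of `UT₅(2)`. -/
structure Rel {K : Type*} [Group K] (x : Fin 10 → K) : Prop where
  sq : ∀ i, x i * x i = 1
  comm : ∀ i j, cm i j = none → x i * x j = x j * x i
  rel : ∀ i j k, cm i j = some k → x i * x j = x k * (x j * x i)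
  ne : x 9 ≠ 1

section General

variable {K : Type*} [Group K]

theorem mem_normalizer_of {A : Subgroup K} {g : K} (h : ∀ a ∈ A, g * a * g⁻¹ ∈ A)
    (h' : ∀ a ∈ A, g⁻¹ * a * g ∈ A) : g ∈ Subgroup.normalizer (A : Set K) := by
  rw [Subgroup.mem_normalizer_iff]
  intro a
  refine ⟨fun ha => h a ha, fun ha => ?_⟩
  have := h' _ ha
  have e : g⁻¹ * (g * a * g⁻¹) * g = a := by group
  rwa [e] at this

/-- The extension of a subgroup by a normalising element of square in it. -/
def ext2 (A : Subgroup K) (x : K) (hn : x ∈ Subgroup.normalizer (A : Set K)) (hx : x * x ∈ A) :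
    Subgroup K where
  carrier := {g | g ∈ A ∨ g * x ∈ A}
  one_mem' := Or.inl (one_mem A)
  mul_mem' := by
    rintro g h hg hh
    have hc : ∀ a ∈ A, x * a * x⁻¹ ∈ A := fun a ha => (Subgroup.mem_normalizer_iff.1 hn a).1 ha
    have hc' : ∀ a ∈ A, x⁻¹ * a * x ∈ A := fun a ha => by
      refine (Subgroup.mem_normalizer_iff.1 hn _).2 ?_
      have e : x * (x⁻¹ * a * x) * x⁻¹ = a := by group
      rw [e]; exact ha
    rcases hg with hg | hg <;> rcases hh with hh | hh
    · exact Or.inl (mul_mem hg hh)
    · refine Or.inr ?_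
      have e : g * h * x = g * (h * x) := by group
      rw [e]; exact mul_mem hg hh
    · refine Or.inr ?_
      have e : g * h * x = (g * x) * (x⁻¹ * h * x) := by group
      rw [e]; exact mul_mem hg (hc' h hh)
    · refine Or.inl ?_
      have e : g * h = (g * x) * (x⁻¹ * (h * x) * x) * (x * x)⁻¹ := by group
      rw [e]; exact mul_mem (mul_mem hg (hc' _ hh)) (inv_mem hx)
  inv_mem' := by
    rintro g hg
    have hc' : ∀ a ∈ A, x⁻¹ * a * x ∈ A := fun a ha => by
      refine (Subgroup.mem_normalizer_iff.1 hn _).2 ?_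
      have e : x * (x⁻¹ * a * x) * x⁻¹ = a := by group
      rw [e]; exact ha
    rcases hg with hg | hg
    · exact Or.inl (inv_mem hg)
    · refine Or.inr ?_
      have e : g⁻¹ * x = x * (g * x)⁻¹ * x⁻¹ * (x * x) := by group
      rw [e]
      exact mul_mem ((Subgroup.mem_normalizer_iff.1 hn _).1 (inv_mem hg)) hx

theorem le_ext2 {A : Subgroup K} {x : K} (hn : x ∈ Subgroup.normalizer (A : Set K))
    (hx : x * x ∈ A) : A ≤ ext2 A x hn hx := fun _ h => Or.inl h

theorem self_mem_ext2 {A : Subgroup K} {x : K} (hn : x ∈ Subgroup.normalizer (A : Set K))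
    (hx : x * x ∈ A) : x ∈ ext2 A x hn hx := Or.inr hx

theorem isPGroup_ext2 {A : Subgroup K} {x : K} (hn : x ∈ Subgroup.normalizer (A : Set K))
    (hx : x * x ∈ A) (hA : IsPGroup 2 A) : IsPGroup 2 (ext2 A x hn hx) := by
  rintro ⟨g, hg⟩
  have h2 : g * g ∈ A := by
    rcases hg with hg | hg
    · exact mul_mem hg hg
    · have e : g * g = (g * x) * (x⁻¹ * (g * x) * x) * (x * x)⁻¹ := by group
      rw [e]
      refine mul_mem (mul_mem hg ?_) (inv_mem hx)
      refine (Subgroup.mem_normalizer_iff.1 hn _).2 ?_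
      have e : x * (x⁻¹ * (g * x) * x) * x⁻¹ = g * x := by group
      rw [e]; exact hg
  obtain ⟨k, hk⟩ := hA ⟨g * g, h2⟩
  refine ⟨k + 1, Subtype.ext ?_⟩
  have := congrArg Subtype.val hk
  rw [Subgroup.coe_pow, Subgroup.coe_one] at this
  show g ^ 2 ^ (k + 1) = 1
  rw [pow_succ, mul_comm, pow_mul, sq]
  exact this

theorem relIndex_ext2_le [Finite K] {A : Subgroup K} {x : K}
    (hn : x ∈ Subgroup.normalizer (A : Set K)) (hx : x * x ∈ A) :
    A.relIndex (ext2 A x hn hx) ≤ 2 := by
  rcases Classical.em (x ∈ A) with h | h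
  · have : ext2 A x hn hx ≤ A := by
      rintro g (hg | hg)
      · exact hg
      · have := mul_mem hg (inv_mem h)
        rwa [mul_inv_cancel_right] at this
    rw [Subgroup.relIndex_eq_one.2 this]
    norm_num
  · have : A.relIndex (ext2 A x hn hx) = 2 := by
      rw [Subgroup.relIndex, Subgroup.index_eq_two_iff]
      refine ⟨⟨x, Or.inr hx⟩, ?_⟩
      rintro ⟨g, hg⟩
      rw [Subgroup.mem_subgroupOf, Subgroup.mem_subgroupOf]
      show Xor' (g * x ∈ A) (g ∈ A)
      rcases hg with hg | hg
      · refine Or.inr ⟨hg, fun h' => h ?_⟩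
        have := mul_mem (inv_mem hg) h'
        rwa [inv_mul_cancel_left] at this
      · refine Or.inl ⟨hg, fun h' => h ?_⟩
        have := mul_mem (inv_mem h') hg
        rwa [inv_mul_cancel_left] at this
    rw [this]

theorem two_mul_card_le [Finite K] {A B : Subgroup K} (h : A ≤ B) {x : K} (hx : x ∈ B)
    (hx' : x ∉ A) : 2 * Nat.card A ≤ Nat.card B := by
  obtain ⟨k, hk⟩ := Subgroup.card_dvd_of_le h
  have h1 : k ≠ 0 := by
    rintro rfl
    have : 0 < Nat.card B := Nat.card_pos
    omega
  have h2 : k ≠ 1 := by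
    rintro rfl
    rw [mul_one] at hk
    exact hx' ((Subgroup.eq_of_le_of_card_ge h hk.le) ▸ hx)
  have h3 : 2 ≤ k := by omega
  rw [hk, mul_comm]
  exact Nat.mul_le_mul_left _ h3

/-- Commutators of closures. -/
theorem comm_mem {N : Subgroup K} {X Y : Set K} (hX : ∀ a ∈ X, a ∈ Subgroup.normalizer (N : Set K))
    (hY : ∀ b ∈ Y, b ∈ Subgroup.normalizer (N : Set K))
    (h : ∀ a ∈ X, ∀ b ∈ Y, a * b * a⁻¹ * b⁻¹ ∈ N) :
    ∀ a ∈ Subgroup.closure X, ∀ b ∈ Subgroup.closure Y, a * b * a⁻¹ * b⁻¹ ∈ N := by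
  have hXc : ∀ a ∈ Subgroup.closure X, a ∈ Subgroup.normalizer (N : Set K) := by
    intro a ha
    exact ((Subgroup.closure_le _).2 fun y hy => hX y hy) ha
  have hYc : ∀ a ∈ Subgroup.closure Y, a ∈ Subgroup.normalizer (N : Set K) := by
    intro a ha
    exact ((Subgroup.closure_le _).2 fun y hy => hY y hy) ha
  have hcj : ∀ {g : K}, g ∈ Subgroup.normalizer (N : Set K) → ∀ n ∈ N, g * n * g⁻¹ ∈ N :=
    fun hg n hn => (Subgroup.mem_normalizer_iff.1 hg n).1 hn
  have h1 : ∀ a ∈ Subgroup.closure X, ∀ b ∈ Y, a * b * a⁻¹ * b⁻¹ ∈ N := by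
    intro a ha b hb
    refine Subgroup.closure_induction (p := fun a _ => a * b * a⁻¹ * b⁻¹ ∈ N) ?_ ?_ ?_ ?_ ha
    · exact fun a ha => h a ha b hb
    · simp [one_mem]
    · intro a a' ha _ h2 h3
      have e : (a * a') * b * (a * a')⁻¹ * b⁻¹ =
          (a * (a' * b * a'⁻¹ * b⁻¹) * a⁻¹) * (a * b * a⁻¹ * b⁻¹) := by group
      rw [e]
      exact mul_mem (hcj (hXc a ha) _ h3) h2
    · intro a ha h2
      have e : a⁻¹ * b * a⁻¹⁻¹ * b⁻¹ = a⁻¹ * (a * b * a⁻¹ * b⁻¹)⁻¹ * a⁻¹⁻¹ := by group
      rw [e]
      exact hcj (inv_mem (hXc a ha)) _ (inv_mem h2)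
  intro a ha b hb
  refine Subgroup.closure_induction (p := fun b _ => a * b * a⁻¹ * b⁻¹ ∈ N) ?_ ?_ ?_ ?_ hb
  · exact fun b hb => h1 a ha b hb
  · simp [one_mem]
  · intro b b' hb _ h2 h3
    have e : a * (b * b') * a⁻¹ * (b * b')⁻¹ =
        (a * b * a⁻¹ * b⁻¹) * (b * (a * b' * a⁻¹ * b'⁻¹) * b⁻¹) := by group
    rw [e]
    exact mul_mem h2 (hcj (hYc b hb) _ h3)
  · intro b hb h2
    have e : a * b⁻¹ * a⁻¹ * b⁻¹⁻¹ = b⁻¹ * (a * b * a⁻¹ * b⁻¹)⁻¹ * b⁻¹⁻¹ := by group
    rw [e]
    exact hcj (inv_mem (hYc b hb)) _ (inv_mem h2)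

end General

section Gen

variable {K : Type*} [Group K] {x : Fin 10 → K}

/-- The subgroup generated by the root elements in `S`. -/
def Sb (x : Fin 10 → K) (S : Finset (Fin 10)) : Subgroup K := Subgroup.closure (x '' S)

theorem mem_Sb {S : Finset (Fin 10)} {i : Fin 10} (h : i ∈ S) : x i ∈ Sb x S :=
  Subgroup.subset_closure ⟨i, h, rfl⟩

theorem Sb_le {S : Finset (Fin 10)} {B : Subgroup K} (h : ∀ i ∈ S, x i ∈ B) : Sb x S ≤ B := by
  refine (Subgroup.closure_le _).2 ?_
  rintro _ ⟨i, hi, rfl⟩
  exact h i hi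

theorem Sb_mono {S S' : Finset (Fin 10)} (h : S ⊆ S') : Sb x S ≤ Sb x S' :=
  Sb_le fun _ hi => mem_Sb (h hi)

namespace Rel

variable (h : Rel x)

include h

theorem inv_eq (i : Fin 10) : (x i)⁻¹ = x i := inv_eq_of_mul_eq_one_left (h.sq i)

theorem conj_eq (i j : Fin 10) : x i * x j * (x i)⁻¹ = match cm i j with
    | none => x j
    | some k => x k * x j := by
  cases hc : cm i j with
  | none => simp only []; rw [h.comm i j hc, mul_inv_cancel_right]
  | some k => simp only []; rw [h.rel i j k hc]; group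

theorem comm_eq (i j : Fin 10) : x i * x j * (x i)⁻¹ * (x j)⁻¹ = match cm i j with
    | none => 1
    | some k => x k := by
  rw [h.conj_eq]
  cases hc : cm i j with
  | none => simp only []; rw [mul_inv_cancel]
  | some k => simp only []; rw [mul_inv_cancel_right]

/-- `x i` normalises `Sb x S` (decidable condition). -/
theorem nrm (i : Fin 10) (S : Finset (Fin 10)) (hS : ∀ s ∈ S, ∀ k, cm i s = some k → k ∈ S) :
    x i ∈ Subgroup.normalizer (Sb x S : Set K) := by
  have key : ∀ a ∈ Sb x S, x i * a * (x i)⁻¹ ∈ Sb x S := by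
    intro a ha
    have h1 : Sb x S ≤ (Sb x S).comap (MulAut.conj (x i)).toMonoidHom := by
      refine Sb_le fun s hs => ?_
      show x i * x s * (x i)⁻¹ ∈ Sb x S
      rw [h.conj_eq]
      cases hc : cm i s with
      | none => exact mem_Sb hs
      | some k => exact mul_mem (mem_Sb (hS s hs k hc)) (mem_Sb hs)
    exact h1 ha
  refine mem_normalizer_of key ?_
  intro a ha
  have := key a ha
  rw [h.inv_eq] at this ⊢
  exact this

theorem nrm_Sb (S S' : Finset (Fin 10)) (hS : ∀ i ∈ S', ∀ s ∈ S, ∀ k, cm i s = some k → k ∈ S) :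
    Sb x S' ≤ Subgroup.normalizer (Sb x S : Set K) :=
  Sb_le fun i hi => h.nrm i S (hS i hi)

theorem sq_mem (i : Fin 10) (A : Subgroup K) : x i * x i ∈ A := by
  rw [h.sq]; exact one_mem A

/-- `x i` centralises `Sb x S`. -/
theorem cen (i : Fin 10) (S : Finset (Fin 10)) (hS : ∀ s ∈ S, cm i s = none) :
    Sb x S ≤ Subgroup.centralizer ({x i} : Set K) := by
  refine Sb_le fun s hs => ?_
  rw [Subgroup.mem_centralizer_singleton_iff]
  exact (h.comm i s (hS s hs)).symm

theorem insert_eq (i : Fin 10) (S : Finset (Fin 10))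
    (hS : ∀ s ∈ S, ∀ k, cm i s = some k → k ∈ S) :
    Sb x (insert i S) = ext2 (Sb x S) (x i) (h.nrm i S hS) (h.sq_mem i _) := by
  apply le_antisymm
  · refine Sb_le fun j hj => ?_
    rcases Finset.mem_insert.1 hj with rfl | hj
    · exact self_mem_ext2 _ _
    · exact le_ext2 _ _ (mem_Sb hj)
  · rintro g (hg | hg)
    · exact Sb_mono (Finset.subset_insert i S) hg
    · have h1 : x i ∈ Sb x (insert i S) := mem_Sb (Finset.mem_insert_self i S)
      have h2 := mul_mem (Sb_mono (x := x) (Finset.subset_insert i S) hg) (inv_mem h1)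
      rwa [mul_inv_cancel_right] at h2

theorem pgroup_insert (i : Fin 10) (S : Finset (Fin 10))
    (hS : ∀ s ∈ S, ∀ k, cm i s = some k → k ∈ S) (hp : IsPGroup 2 (Sb x S)) :
    IsPGroup 2 (Sb x (insert i S)) := by
  rw [h.insert_eq i S hS]
  exact isPGroup_ext2 _ _ hp

theorem relIndex_insert [Finite K] (i : Fin 10) (S : Finset (Fin 10))
    (hS : ∀ s ∈ S, ∀ k, cm i s = some k → k ∈ S) :
    (Sb x S).relIndex (Sb x (insert i S)) ≤ 2 := by
  rw [h.insert_eq i S hS]
  exact relIndex_ext2_le _ _

theorem isPGroup : IsPGroup 2 (Sb x Finset.univ) := by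
  have h0 : IsPGroup 2 (Sb x ∅) := by
    have : Sb x ∅ = ⊥ := by
      rw [eq_bot_iff]; exact Sb_le fun i hi => absurd hi (Finset.notMem_empty i)
    rw [this]; exact IsPGroup.of_bot
  have h1 := h.pgroup_insert 9 _ (by decide) h0
  have h2 := h.pgroup_insert 8 _ (by decide) h1
  have h3 := h.pgroup_insert 7 _ (by decide) h2
  have h4 := h.pgroup_insert 6 _ (by decide) h3
  have h5 := h.pgroup_insert 5 _ (by decide) h4
  have h6 := h.pgroup_insert 4 _ (by decide) h5
  have h7 := h.pgroup_insert 3 _ (by decide) h6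
  have h8 := h.pgroup_insert 2 _ (by decide) h7
  have h9 := h.pgroup_insert 1 _ (by decide +kernel) h8
  have h10 := h.pgroup_insert 0 _ (by decide +kernel) h9
  have e : (insert 0 (insert 1 (insert 2 (insert 3 (insert 4 (insert 5 (insert 6 (insert 7
    (insert 8 (insert 9 (∅ : Finset (Fin 10)))))))))))) = Finset.univ := by decide
  rw [e] at h10
  exact h10

/-- Two root elements with a nontrivial commutator do not commute. -/
theorem not_comm (i j k : Fin 10) (hc : cm i j = some k) (hk : x k ≠ 1) : x i * x j ≠ x j * x i := by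
  intro h'
  apply hk
  have := h.rel i j k hc
  rw [h'] at this
  exact (mul_eq_right.1 this.symm)

theorem ne14 : x 7 ≠ 1 := by
  intro h'
  have := h.rel 7 3 9 (by decide)
  rw [h', one_mul, mul_one] at this
  exact h.ne (mul_eq_right.1 this.symm)

theorem ne25 : x 8 ≠ 1 := by
  intro h'
  have := h.rel 0 8 9 (by decide)
  rw [h', one_mul, mul_one] at this
  exact h.ne (mul_eq_right.1 this.symm)

theorem notMem_of_cen (i j k : Fin 10) (S : Finset (Fin 10)) (hS : ∀ s ∈ S, cm i s = none)
    (hc : cm i j = some k) (hk : x k ≠ 1) : x j ∉ Sb x S := by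
  intro hj
  have := h.cen i S hS hj
  rw [Subgroup.mem_centralizer_singleton_iff] at this
  exact h.not_comm i j k hc hk this.symm

theorem notMem_of_nrm (j e c : Fin 10) (E S : Finset (Fin 10))
    (hES : ∀ i ∈ S, ∀ s ∈ E, ∀ k, cm i s = some k → k ∈ E) (he : e ∈ E)
    (hc : cm j e = some c) (hcE : x c ∉ Sb x E) : x j ∉ Sb x S := by
  intro hj
  have h1 := h.nrm_Sb E S hES hj
  have h2 := (Subgroup.mem_normalizer_iff.1 h1 _).1 (mem_Sb (x := x) he)
  rw [h.conj_eq, hc] at h2
  apply hcE
  have := mul_mem h2 (inv_mem (mem_Sb (x := x) he))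
  rwa [mul_inv_cancel_right] at this

theorem card_insert [Finite K] (i : Fin 10) (S : Finset (Fin 10)) (hi : x i ∉ Sb x S) {n : ℕ}
    (hn : n ≤ Nat.card (Sb x S)) : 2 * n ≤ Nat.card (Sb x (insert i S)) :=
  (Nat.mul_le_mul_left 2 hn).trans (two_mul_card_le (Sb_mono (Finset.subset_insert i S))
    (mem_Sb (Finset.mem_insert_self i S)) hi)

theorem card_ge [Finite K] : 1024 ≤ Nat.card (Sb x Finset.univ) := by
  have h0 : 1 ≤ Nat.card (Sb x ∅) := Nat.card_pos
  have b : Sb x ∅ = ⊥ := by
    rw [eq_bot_iff]; exact Sb_le fun i hi => absurd hi (Finset.notMem_empty i)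
  -- 15
  have h1 := h.card_insert 9 _ (by rw [b, Subgroup.mem_bot]; exact h.ne) h0
  -- 14 : `C(45)`
  have h2 := h.card_insert 7 _ (h.notMem_of_cen 3 7 9 {9} (by decide) (by decide) h.ne) h1
  -- 25 : `C(12)`
  have h3 := h.card_insert 8 _ (h.notMem_of_cen 0 8 9 {7, 9} (by decide) (by decide) h.ne) h2
  -- 13 : `C(34)`
  have h4 := h.card_insert 4 _ (h.notMem_of_cen 2 4 7 {8, 7, 9} (by decide) (by decide) h.ne14) h3
  -- 35 : `C(23)`
  have h5 := h.card_insert 6 _
    (h.notMem_of_cen 1 6 8 {4, 8, 7, 9} (by decide) (by decide) h.ne25) h4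
  -- 24 : `N(<12, 15>)`
  have n14 : x 7 ∉ Sb x {0, 9} := by
    intro h7
    -- elements of `<12, 15>`: `1, 12, 15, 12 15`; `14` does not commute with `45`
    have e1 := h.insert_eq 0 {9} (by decide)
    rw [show ({0, 9} : Finset (Fin 10)) = insert 0 {9} from rfl, e1] at h7
    have e2 : ∀ g ∈ Sb x {9}, g = 1 ∨ g = x 9 := by
      intro g hg
      have : Sb x {9} = Subgroup.zpowers (x 9) := by
        unfold Sb
        rw [Finset.coe_singleton, Set.image_singleton, Subgroup.zpowers_eq_closure]
      rw [this] at hg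
      obtain ⟨k, rfl⟩ := Subgroup.mem_zpowers_iff.1 hg
      rcases Int.even_or_odd k with ⟨l, rfl⟩ | ⟨l, rfl⟩
      · left
        rw [← two_mul, zpow_mul, zpow_ofNat, pow_two, h.sq, one_zpow]
      · right
        rw [zpow_add, zpow_mul, zpow_ofNat, pow_two, h.sq, one_zpow, one_mul, zpow_one]
    have c39 := h.comm 3 9 (by decide)
    have nc := h.not_comm 3 7 9 (by decide) h.ne
    rcases h7 with h7 | h7
    · rcases e2 _ h7 with h8 | h8
      · exact h.ne14 h8
      · exact nc (by rw [h8]; exact c39)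
    · -- `14 * 12 = 1` or `15`: then `25` commutes with `12`
      have c87 := h.comm 8 7 (by decide)
      have c89 := h.comm 8 9 (by decide)
      have nc' := h.not_comm 8 0 9 (by decide) h.ne
      apply nc'
      have h9 : x 8 * (x 7 * x 0) = (x 7 * x 0) * x 8 := by
        rcases e2 _ h7 with h8 | h8
        · rw [h8, mul_one, one_mul]
        · rw [h8]; exact c89
      rw [← mul_assoc, c87, mul_assoc, mul_assoc] at h9
      exact mul_left_cancel h9
  have h6 := h.card_insert 5 _ (h.notMem_of_nrm 5 0 7 {0, 9} {6, 4, 8, 7, 9} (by decide +kernel) (by decide)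
    (by decide) n14) h5
  -- 34 : `N(<45, 25, 15>)`
  have n35 : x 6 ∉ Sb x {3, 8, 9} :=
    h.notMem_of_cen 1 6 8 {3, 8, 9} (by decide) (by decide) h.ne25
  have h7 := h.card_insert 2 _ (h.notMem_of_nrm 2 3 6 {3, 8, 9} {5, 6, 4, 8, 7, 9} (by decide +kernel)
    (by decide) (by decide) n35) h6
  -- 23 : `N(<12, 14, 15>)`
  have n13 : x 4 ∉ Sb x {0, 7, 9} :=
    h.notMem_of_cen 2 4 7 {0, 7, 9} (by decide) (by decide) h.ne14
  have h8 := h.card_insert 1 _ (h.notMem_of_nrm 1 0 4 {0, 7, 9} {2, 5, 6, 4, 8, 7, 9} (by decide +kernel)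
    (by decide) (by decide) n13) h7
  -- 12 : `C(25)`
  have h9 := h.card_insert 0 _ (h.notMem_of_cen 8 0 9 {1, 2, 5, 6, 4, 8, 7, 9} (by decide)
    (by decide) h.ne) h8
  -- 45 : `C(14)`
  have h10 := h.card_insert 3 _ (h.notMem_of_cen 7 3 9 {0, 1, 2, 5, 6, 4, 8, 7, 9} (by decide)
    (by decide) h.ne) h9
  have e : (insert 3 ({0, 1, 2, 5, 6, 4, 8, 7, 9} : Finset (Fin 10))) = Finset.univ := by decide
  have h10' : 1024 ≤ Nat.card (Sb x (insert 3 ({0, 1, 2, 5, 6, 4, 8, 7, 9} : Finset (Fin 10)))) :=
    h10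
  rw [e] at h10'
  exact h10'

/-- `[T, T] ≤ <13, 24, 35, ...>`. -/
theorem commutator_le : ⁅Sb x Finset.univ, Sb x Finset.univ⁆ ≤ Sb x {4, 5, 6, 7, 8, 9} := by
  rw [Subgroup.commutator_le]
  intro a ha b hb
  rw [commutatorElement_def]
  refine comm_mem (X := x '' (Finset.univ : Finset (Fin 10)))
    (Y := x '' (Finset.univ : Finset (Fin 10))) ?_ ?_ ?_ a ha b hb
  · rintro _ ⟨i, _, rfl⟩
    revert i
    intro i _
    exact h.nrm i _ (by revert i; decide +kernel)
  · rintro _ ⟨i, _, rfl⟩
    exact h.nrm i _ (by revert i; decide +kernel)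
  · rintro _ ⟨i, _, rfl⟩ _ ⟨j, _, rfl⟩
    rw [h.comm_eq]
    cases hc : cm i j with
    | none => exact one_mem _
    | some k => exact mem_Sb (by revert i j k; decide +kernel)

/-- `[T, T, T] ≤ <14, 25, 15>`. -/
theorem commutator_le' :
    ⁅⁅Sb x Finset.univ, Sb x Finset.univ⁆, Sb x Finset.univ⁆ ≤ Sb x {7, 8, 9} := by
  refine (Subgroup.commutator_mono h.commutator_le le_rfl).trans ?_
  rw [Subgroup.commutator_le]
  intro a ha b hb
  rw [commutatorElement_def]
  refine comm_mem (X := x '' ({4, 5, 6, 7, 8, 9} : Finset (Fin 10)))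
    (Y := x '' (Finset.univ : Finset (Fin 10))) ?_ ?_ ?_ a ha b hb
  · rintro _ ⟨i, _, rfl⟩
    exact h.nrm i _ (by revert i; decide +kernel)
  · rintro _ ⟨i, _, rfl⟩
    exact h.nrm i _ (by revert i; decide +kernel)
  · rintro _ ⟨i, hi, rfl⟩ _ ⟨j, _, rfl⟩
    rw [h.comm_eq]
    cases hc : cm i j with
    | none => exact one_mem _
    | some k => exact mem_Sb (by revert i j k; decide +kernel)

theorem mem_comm (i j k : Fin 10) (A B : Subgroup K) (hc : cm i j = some k) (hi : x i ∈ A)
    (hj : x j ∈ B) : x k ∈ ⁅A, B⁆ := by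
  have := Subgroup.commutator_mem_commutator hi hj
  rw [commutatorElement_def, h.comm_eq, hc] at this
  exact this

/-- `<13, 24, 35, ...> ≤ [T, T]`. -/
theorem le_commutator : Sb x {4, 5, 6, 7, 8, 9} ≤ ⁅Sb x Finset.univ, Sb x Finset.univ⁆ := by
  have hu : ∀ i, x i ∈ Sb x Finset.univ := fun i => mem_Sb (Finset.mem_univ i)
  refine Sb_le fun i hi => ?_
  fin_cases hi
  · exact h.mem_comm 0 1 4 _ _ (by decide) (hu _) (hu _)
  · exact h.mem_comm 1 2 5 _ _ (by decide) (hu _) (hu _)
  · exact h.mem_comm 2 3 6 _ _ (by decide) (hu _) (hu _)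
  · exact h.mem_comm 0 5 7 _ _ (by decide) (hu _) (hu _)
  · exact h.mem_comm 1 6 8 _ _ (by decide) (hu _) (hu _)
  · exact h.mem_comm 0 8 9 _ _ (by decide) (hu _) (hu _)

/-- **A perfect group of automorphisms normalising `T` centralises it.** -/
theorem tr [Finite K] {D : Subgroup (MulAut K)} (hD : ⁅D, D⁆ = D)
    (hT : _root_.Cfsg.Agent.Schreier.Tools.Inv D (Sb x Finset.univ)) : Tr D (Sb x Finset.univ) := by
  set T := Sb x Finset.univ with hTdef
  set M' := Sb x {1, 2, 4, 5, 6, 7, 8, 9} with hM'
  set B' := Sb x {4, 5, 6, 7, 8, 9} with hB'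
  set M1 := T ⊓ Subgroup.centralizer ((⁅⁅T, T⁆, T⁆ : Subgroup K) : Set K) with hM1
  have hu : ∀ i, x i ∈ T := fun i => mem_Sb (Finset.mem_univ i)
  have hM'T : M' ≤ T := Sb_mono (Finset.subset_univ _)
  have hp : IsPGroup 2 T := h.isPGroup
  have hTn : Group.IsNilpotent T := hp.isNilpotent
  -- `M' ≤ M1`
  have h1 : M' ≤ M1 := by
    refine le_inf hM'T ?_
    have h2 : M' ≤ Subgroup.centralizer (Sb x {7, 8, 9} : Set K) := by
      rw [Subgroup.le_centralizer_iff]
      refine Sb_le fun j hj => ?_
      rw [Subgroup.mem_centralizer_iff]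
      intro m hm
      have : M' ≤ Subgroup.centralizer ({x j} : Set K) :=
        h.cen j _ (by revert j; decide)
      exact (Subgroup.mem_centralizer_singleton_iff.1 (this hm))
    exact h2.trans (Subgroup.centralizer_le (h.commutator_le'))
  -- `M1 ≤ M'`
  have c7 : x 7 ∈ ⁅⁅T, T⁆, T⁆ :=
    h.mem_comm 4 2 7 _ _ (by decide) (h.mem_comm 0 1 4 _ _ (by decide) (hu _) (hu _)) (hu _)
  have c8 : x 8 ∈ ⁅⁅T, T⁆, T⁆ :=
    h.mem_comm 6 1 8 _ _ (by decide) (h.mem_comm 2 3 6 _ _ (by decide) (hu _) (hu _)) (hu _)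
  have e9 := h.insert_eq 0 {1, 2, 4, 5, 6, 7, 8, 9} (by decide +kernel)
  have e10 := h.insert_eq 3 (insert 0 {1, 2, 4, 5, 6, 7, 8, 9}) (by decide +kernel)
  have eT : T = Sb x (insert 3 (insert 0 {1, 2, 4, 5, 6, 7, 8, 9})) := by
    rw [hTdef]
    exact congrArg (Sb x) (by decide)
  have hc7 : M' ≤ Subgroup.centralizer ({x 7} : Set K) := h.cen 7 _ (by decide)
  have hc8 : M' ≤ Subgroup.centralizer ({x 8} : Set K) := h.cen 8 _ (by decide)
  have h2 : M1 ≤ M' := by
    rintro g ⟨hg, hgc⟩
    have g7 : g ∈ Subgroup.centralizer ({x 7} : Set K) :=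
      Subgroup.mem_centralizer_singleton_iff.2 ((Subgroup.mem_centralizer_iff.1 hgc _ c7).symm)
    have g8 : g ∈ Subgroup.centralizer ({x 8} : Set K) :=
      Subgroup.mem_centralizer_singleton_iff.2 ((Subgroup.mem_centralizer_iff.1 hgc _ c8).symm)
    have n07 : x 0 ∈ Subgroup.centralizer ({x 7} : Set K) :=
      Subgroup.mem_centralizer_singleton_iff.2 (h.comm 0 7 (by decide))
    have n38 : x 3 ∈ Subgroup.centralizer ({x 8} : Set K) :=
      Subgroup.mem_centralizer_singleton_iff.2 (h.comm 3 8 (by decide))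
    have n08 : x 0 ∉ Subgroup.centralizer ({x 8} : Set K) := fun h' =>
      h.not_comm 0 8 9 (by decide) h.ne (Subgroup.mem_centralizer_singleton_iff.1 h')
    have n37 : x 3 ∉ Subgroup.centralizer ({x 7} : Set K) := fun h' =>
      h.not_comm 3 7 9 (by decide) h.ne (Subgroup.mem_centralizer_singleton_iff.1 h')
    rw [SetLike.mem_coe, eT, e10] at hg
    have h9 : Sb x (insert 0 {1, 2, 4, 5, 6, 7, 8, 9}) ≤ Subgroup.centralizer ({x 7} : Set K) :=
      h.cen 7 _ (by decide)
    rcases hg with hg | hg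
    · rw [e9] at hg
      rcases hg with hg | hg
      · exact hg
      · exfalso
        apply n08
        have := mul_mem (inv_mem g8) (hc8 hg)
        rwa [inv_mul_cancel_left] at this
    · exfalso
      apply n37
      have := mul_mem (inv_mem g7) (h9 hg)
      rwa [inv_mul_cancel_left] at this
  have h3 : M1 = M' := le_antisymm h2 h1
  -- indices
  have i1 : M'.relIndex T ≤ 4 := by
    have a1 := h.relIndex_insert 0 {1, 2, 4, 5, 6, 7, 8, 9} (by decide)
    have a2 := h.relIndex_insert 3 (insert 0 {1, 2, 4, 5, 6, 7, 8, 9}) (by decide +kernel)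
    rw [← eT] at a2
    have a3 := Subgroup.relIndex_mul_relIndex M' (Sb x (insert 0 {1, 2, 4, 5, 6, 7, 8, 9})) T
      (Sb_mono (Finset.subset_insert _ _)) (by rw [eT]; exact Sb_mono (Finset.subset_insert _ _))
    rw [← a3]
    calc _ ≤ 2 * 2 := Nat.mul_le_mul a1 a2
      _ = 4 := rfl
  have eM : M' = Sb x (insert 1 (insert 2 {4, 5, 6, 7, 8, 9})) := rfl
  have i2 : B'.relIndex M' ≤ 4 := by
    have a1 := h.relIndex_insert 2 {4, 5, 6, 7, 8, 9} (by decide)
    have a2 := h.relIndex_insert 1 (insert 2 {4, 5, 6, 7, 8, 9}) (by decide)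
    have a3 := Subgroup.relIndex_mul_relIndex B' (Sb x (insert 2 {4, 5, 6, 7, 8, 9})) M'
      (Sb_mono (Finset.subset_insert _ _)) (Sb_mono (Finset.subset_insert _ _))
    rw [← a3]
    calc _ ≤ 2 * 2 := Nat.mul_le_mul a1 a2
      _ = 4 := rfl
  have hB : ⁅T, T⁆ = B' := le_antisymm h.commutator_le h.le_commutator
  have hI1 : _root_.Cfsg.Agent.Schreier.Tools.Inv D M1 := hT.inf ((hT.commutator hT).commutator hT).centralizer
  have hI2 : _root_.Cfsg.Agent.Schreier.Tools.Inv D ⁅T, T⁆ := hT.commutator hT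
  have t1 : TrMod D T M1 := trMod_of_relIndex_le_four hD hT hI1
    (Nat.card_pos (α := T ⧸ M1.subgroupOf T)).ne' (by rw [h3]; exact i1)
  have t2 : TrMod D M1 ⁅T, T⁆ := trMod_of_relIndex_le_four hD hI1 hI2
    (Nat.card_pos (α := M1 ⧸ (⁅T, T⁆ : Subgroup K).subgroupOf M1)).ne' (by rw [h3, hB]; exact i2)
  have hpM : IsPGroup 2 M1 := hp.to_le inf_le_left
  have hMn : Group.IsNilpotent M1 := hpM.isNilpotent
  have t3 : TrMod D T ⁅T, T⁆ := TrMod.trans hD (by
    intro a ha c hc
    have hn : Sb x Finset.univ ≤ Subgroup.normalizer (Sb x {4, 5, 6, 7, 8, 9} : Set K) :=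
      h.nrm_Sb _ _ (by decide +kernel)
    rw [hB] at hc ⊢
    exact (Subgroup.mem_normalizer_iff.1 (hn ha) c).1 hc) inf_le_left inferInstance t1 t2
  refine tr_of_frattini hD hp hT ?_ t3
  have : ⁅T, T⁆ = (commutator T).map T.subtype := by
    rw [commutator_def, Subgroup.map_commutator, ← MonoidHom.range_eq_map, Subgroup.range_subtype]
  rw [this]
  exact Subgroup.map_mono (Cfsg.Agent.Lib.FrattiniPGroup.commutator_le_frattini hp)

/-- The Sylow 2-subgroup. -/
theorem exists_sylow [Finite K] {m : ℕ} (hm : Odd m) (hcard : Nat.card K = 2 ^ 10 * m) :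
    ∃ T : Sylow 2 K, (T : Subgroup K) = Sb x Finset.univ := by
  have : Fact (Nat.Prime 2) := ⟨Nat.prime_two⟩
  obtain ⟨k, hk⟩ := IsPGroup.iff_card.1 h.isPGroup
  have h1 : 2 ^ k ∣ 2 ^ 10 * m := by
    rw [← hk, ← hcard]; exact Subgroup.card_subgroup_dvd_card _
  have h2 : k ≤ 10 := by
    have hco : Nat.Coprime (2 ^ k) m := Nat.Coprime.pow_left _ (Nat.coprime_two_left.2 hm)
    exact (Nat.pow_dvd_pow_iff_le_right (by norm_num)).1 (hco.dvd_of_dvd_mul_right h1)
  have h3 : 10 ≤ k := by
    have := h.card_ge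
    rw [hk] at this
    exact (Nat.pow_le_pow_iff_right (by norm_num)).1 (show 2 ^ 10 ≤ 2 ^ k by simpa using this)
  have h4 : k = 10 := le_antisymm h2 h3
  subst h4
  refine ⟨Sylow.ofCard (Sb x Finset.univ) ?_, rfl⟩
  rw [hk, hcard]
  congr 1
  have hm0 : m ≠ 0 := by rintro rfl; exact absurd hm (by decide)
  rw [Nat.factorization_mul (by norm_num) hm0, Nat.Prime.factorization_pow Nat.prime_two]
  have : m.factorization 2 = 0 := Nat.factorization_eq_zero_of_not_dvd (by
    rw [← even_iff_two_dvd, Nat.not_even_iff_odd]; exact hm)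
  simp [this]

end Rel

end Gen

/-- **The Schreier property for simple groups with Sylow 2-subgroup `UT₅(2)`.** -/
theorem sch_of_utfive {K : Type*} [Group K] [Finite K] [IsSimpleGroup K]
    (hK : ¬ IsMulCommutative K) {m : ℕ} (hm : Odd m) (hcard : Nat.card K = 2 ^ 10 * m)
    {x : Fin 10 → K} (h : Rel x) : Sch K := by
  obtain ⟨T, hT⟩ := h.exists_sylow hm hcard
  refine Crit.sch_of_sylow hK T fun D hD hI => ?_
  rw [hT] at hI ⊢
  exact h.tr hD hI

end Cfsg.Agent.Schreier.UTFive
end

-- part: Schreier/HeData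
section
/-! Images of the ten root elements of a Sylow 2-subgroup `UT₅(2)` of the Held group on 2058 points,
12 bits per point. -/

set_option autoImplicit false

namespace Cfsg.Agent.Schreier.HeData

/-- root element 0 -/
def t0 : Nat := 0x7b67e27e37a77b48018028038047ff8005997ed7ec5167f67cc7ef59a7fa7f47f57b17f079a7f27f83657fd7fc3ba7c37c27e57e40df7e87e78078087ae7bd7c07dc7db7de7dd7b972c7100a50a60a20a361e61b4517ba7a32d36557f964e7497c554254361d7c970b7ea7e97bf7df7c17b27e058757f7d07da7b77b88092d480564c7be7f37997a47e15493bf3bc7a97aa56280665773c7af7cf54453c54536161c71a5606fe7f17b053755d53859753959b70f59057459636336459373e74b43767b45267a51f78273d78445367c1c667158d5204fa77874a77a4fb1cb1c74317705885807732e158c43670a70757336270353d55c5f958375c75b3bd53a53b3bb57b7637623c01ca5225405413be4f84fd52f64a45d55155255959878a7797ca4fc51951d65345c70c54654755859178b7837a558257a2e42e33062dd55a55e36054a55b5617237225487d930e2db2de2dc2d62e22e50a872f72e50166f2d56fa71c71d36e79d3933d971771633d49b7081513237d879270d70e7437c476c15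371376b34232432576870270169714779b4d15ae07c71e68a34a69414c6de6dd6f26f35215000bf3260f51481520c43220f614d1546924654666796746726736f56f46db6dc5f834f68b6953515cb4ea0796245cc69368929769868f68e62056556d6295ef32732832c32b0c024d3492c83326160b40c50ba3465b634c34e0b50ee09c09b0970980ed4d86036175fa66e0ef0cb0cc0c83990bb69c5ee5f034d62a6216a23b73486326cd70068d6d76f76d06e56812ac6cc6cb6966396d86f96cf5ed68668751141751e67769151851752d5127807887866e252e68250950a6e16df6e077e4ff7206a946160046060507b07a0d929333f5ca38560a5dd37b65d65865f65b65c5cd47265e7a66547cd65674544f6464484417cb64b7b364d75142e42f45a65143056e5f15665f25b96384a827926449a49f68c63f4a64a74a14e34b36994de3c73c83cc49c62b62c69e6c73d13c349d4996d262262369d6ca3ca7d37c679e7d24685fb3696ab6bc5f518a1892992f22f15d45d12ee2ed3556625343ae1e638c66a28b6ac33455f66c51018e18d29a6196aa7656da57245f6155dc52a6416436a06c66a168849527828c5e65e03b45e95e136a36b28d5e55e85de5df6615f43170c724641e41040f31d60f37e3a260e33b53126665a6d16d56645bd2654923a427c1e744e27d4902ce2295355c93a039f32f6402d1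4406b74934943002f73312b600d6fc23333931b0ca3e500c23e3ff2fe2e92fd07d0dc18f19030541231f7937f77fe74c79578f3a91d978c1a673f79108919377d76e2100851d07727bc57e2e62ec76473b5797717bb5860cd2e775d73a58156f3b65673b879076a5f75705715786446c837a3303073b53085766426c937933c7a873079c60173479776673173574d74014a14b0820b70b674e74f29c3833822b91fc2cf7327ad72d7417427a07a27c77c87567571601427677a175f7607947967983aa5be6094761d85cf1a575267867e1d25235f31ce1cf0c908107108352b7586f177c78568374642b34b41f74768067f7fb1d315e4fe67d6855ff44a0c10880c608a67567632a32e32d1a013b2853297216f067051375374877777b3f375406b08411a2372242c427a30930c25a2d039c1926d43441123973371e54e463424722806e06f63106410c10d1a91fb6ad4d64d748b2a82ff2f66fd2ba27019c30a39b30b39d2b83a337f3802873903772bc23123226a3882b22b54bb4a01f807520b48f0780706333761a410905f16c10f47747526f20063e63663707425f1db1676354ba63a1ff62662d71463b6252722272175ec5b45b55c71155c14b62502422ad4d52220862034591ee1de1451461641241491004472904743a13943842714ac5334ab47c38965937437c30f2b438d19d4503a63a761a3576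e36e439545e35366d66b5f646375074438a6474873ac3ad1d72622637817877d146b6525c344b43d44d50f15d65047e43e44444510a10b64f5b743c44644c43f38f38e43843978976d1c51cc13f1cd7746456486491720e251c16d1c841831e31c2fc3203040632fb2fa51a5d806a1361401100614286843033023e604c59d0625d75d61d107e20d1e12160ec06c3193183de3df03005506d0585a631a3213e005a3e20763eb3ec19610e0604f91681691731632ea2e83f73f805304405c04d4145a92eb2f53fa0773fc4044053cd1dc0390387183d73d83d53d63c41b52be6283cf3d00873dd62e3c961f3cb62f6303c13c23d46273c53c675a7ac7557617ab75e7eb23957569b5775695e72752041e311811360845745829e5365951c446946a2aa5c64c85d247b5bc5bb17c4ca4ec4cc30d6a428f4e737546447a71938b36d4c443b43a46d60639245b4734be18017966347954f54e2c64c64c75d325147066056c5641754c34b239647131637236837029871b3912885e35e46183713673667ee78d78e76979f73335b35a2ef2f035f35e2f32f446734560b3474623386d633a6d96b569f6b651b6f86bf69a3546b83564e93337062f82bb6653367155635d03505ac3524e633e2b36023436bd5b156b5ba5075066c36c25085026c46c56ee7047057116e93fd42459c4275d54265ab3fe4074065db37331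43152d72d82d92f946f72b39a4ef4cb4cd4f056856a73759e4234164152765b34d35a55a34254214203103415b24d23e335835961161035c35d60d60c5843e43ee5a43ed57c58572573973872676f2e02df72973672872a09f31131231372771f7b57ce0295b84ed54b5c017817715f2ae2256be2c53812c74f221f2532342a329f3d21814c23404d054d4c917a5b04bc46e3354bd17f17e1412ca48c6902a93a52ab4d421823f2112212c02562552452bf3ab24155027e5fc61236f6ce19519424066619f19e47d39825b5e25ea60425d25c36c4c517650304b2121b411919b1a129b5c25c527b4f163d5eb2353013b31e20684984784cf4aa05013203b03c4bf04f12c0095ce5c863c4544551f92384a417428a28928e4ee17b2072082a22a11fa2c222637d48e23a21d6c021c2231bd20c21b4e25d92a01ef20148d29d2942a65a720f21522a24f3b92604f41fd2772c15ad4c04c10651df0eb1e422b22c23b5bf4e14972522c94f324b48a2a420a2c31dd24e24c24820e1da2a749640a23c1161172832a558b23d21a40c2494b72201b925725808007f3b24882022434a949e1e823654c4d92542614b91871881f51f418b18c1f11f02444861c31b80691911971fe5c46074e522d3b127440b1c022f48521e3dc4a32195945324561c91aa11451552c40e5895285294324347767591d642977577f4353a8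1ed0670661e01a219824a07315a1342091ec1b31993d32821b71ac1ab15b16605e1351b21b11d54da13816a5925304b10fb1bf27f50529229146c4ce2801591b61be1e93f629629558e4eb1ea59f5a05fe5fd1f21f36146131f61f70fc12d03704a05b2bd3872b12b011139e2592b73862cd2cc28637825e3f042d12700b00a04e42a4ae13d1a73f13f24a21af1334823ef14414353f2cb5144491371b01bb19a1581571561556e67096eb71204002c0426e76f65565574806ec6ff48348416216153e2af41b43313c16b13e5040590571a815c41c1ad1ba16526d0e90e80fa0ea1852680e60e70ff0721710a904148103f12212111f12011e11d02d02e4f52813b02132144911d43af4e817d41a4ad3f54db4dc4424434b01071080560540430080f705d47f1290f90f81861a312f0fe0fd1026e86ed0270060bc0de08b6a86b36ae40922e12e13113012a12b0e10e004542c0e50e47e60f10c35a10da0db6670280c20460d50250d30d202600703e03d57d6a66a75aa5276a55da50c6ba6ea0dd0d750e6c16ef0b10b00f26a36b90b901e5545536b46bb0b301d0be0bd03a02a02b03104701712672402f7d67d70a47d47d509209e2da0a00936b26b101b0136af6b001c02401409d0a109103603300400500e0f050b58f50d3ce48958a4f652455552620620540d5a26fb6696686d34b53e13f94b84a51bc1285254b44df4e04014084f741d1eb2731c21c12304dd4224114193f44af1ae1013e81823fb13a4001391064021053ea05105226e26916e3e74132841830490480ab0d60e33e910414e1251501230cf0ce26b26c0af3db3da18409003503408f0320ac4030a711b11c14f0ad0ae2d20d80f40d10d409501901a00302001f0b80b209609a0220230020aa01201109409901601500100f08c5af5a817016f2671030d00f308d08e021018010000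

/-- root element 1 -/
def t1 : Nat := 0x3bf52755401f0b255307807050e0c10b679e76773246c6c273f1316c379774c73574d4b55474b42ba0a974075e04265064506f06e7e60b70c94df4e04404416596c576976a75543c6bd0bc72a26872755779178f19c5cd3bc63d4e47661130fb55228a15f7a853809f5b743943865a43043a43f43238e47264f5432f35602272753b344379554953744816a1602895415447c64bb16516654253c14225c7a06c47fe75753f3582ef53b25d7f61417b17947310d77d374f7d26fb6697341f52041922ce39c20b23e05d1011ae2bd5f719d2100fa11607f1991a33af1a447d0e925957a76258835f14976e2700f10b07dc7dd3a77fd7cc1dc1cc4347727617601a77ec4ab38f5817332b830779d53e7db2462b36d432f2bc7902af7f37f50b819a1590ff5f82d130a1930927423f37ed7f903205e13335b58201a0042df01b7f478c75a7fc79373061861416733049b7d71006b17d50506b04805fc5ea08633d47f18a36929a0d25746ad5953835341d34c809d01371171070f0a02b42b638d70a01138c7077065a84036906036be0ab0943c04291d678e28c4272535a501228b36a6045fe33b19b6ef4016ed0f50f66ae5af6e83233420d123a21b0662bb19164018e2996125e416b24103704b1d040a7521231f33b034a3b65e36cd6cc0d404303a01700b2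397de79f7f77fa3dd03d4287017d95216bb3d65da4e22ee0065d63cd6b326d7287255566ea71937229806a0ec3d83d73d53c46363d40766a164102a03800831869b02803c5505d71392d43db54c4144157033ab41e4265a42e83ea26159d59c3e94c929027125a1055f337847c4eb5683344864dd39d1742d04cf5ae33e40d27f17a35721621f22339266a78d66814f6133f61eb1f64c621349f65f65e44465c44b7c07df43e1af1f10b90b34d10e66517ea7b91b63b201d01e4cc25e2b724043d7e90246430076a06df47b4667ce58537d27c4134f15ad6a46006150ce0cd0d02822581b85e75d53e12d32e61b31ed47a3a26194204112f532121256259061c61b36f62472f57013863472e6666dc6112440eb11838421c1173953673e31dd0c34926f370252c13d6354ff6f25e972322b0690727477805f622d0876802a421929f20a1fd0f42a14e37225fd11e62d18d2936db6ce5e15e21221561584a42475db6b94da4876976b562c1de2492772001a82ab15e7d04a940941d46f3fd5c745f2605c45c318c3801d25bf54e5bd1e31f810c1091407c34b645e4a13dc27451d0be6e96746374853e45aa20f7054335786f768c1820db1203ed40641968868732c55b5991a65305967183ec59355a16161d58f52d1bf5451374f82f777147747563c3fe43b73a75b57910a10b48e57c4427735805a625441f2b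e71a16813b4686170ac3de3f70741361104fd67c0cf3fa3e01d119661e5467b651955e2ae14359a5921a542b7d46af50c8078047c95406983665be4536934371627b04917f156158c7a97b87a47aa55179c75651c7a37992f03bd7c57af04753571641702b53159735312b58e6022b94511762b180850b5255241813336bc1be1e84ec5b153d4084d455f4ce17b19446730b19e2cf37742f50f80150d55552639e4c24cb33f4f74623083b52304f627e5ff2945694b81c01e935d58a5065013563453e64126383b122f42e45d51e67d1a01bd4e82cc40e4d87cd5eb6b84e17e27e33e267939b4b15d94894e547137e40f51a4a549e6531c76755181c864a50844f68571449d6622961121ca5094934731952cd2872b07a72723524fc4ad5b67f27f04041114db33640c2144b735e75d3985cc1f71e62f14d35dd34413c5b42ed6604d24c746572b46130d24c28449649524b4c160554846447957d05303908b1854d915b5d867a5ac01908c0960a872471f38877667e63f62648f4525871cb58645c4c07ba4d72315c90450467fb2863a536857151563e49c49037c50549a1f25c65b54ed47422829102505704c03107706254d47852a0e84ca44a44d44c65b44e1c17ae28844644565d7b257b7e07e17bd6586467da5837be7c27c154b17c12f7635a77bc1757bf5104ee2d92f95582056fd6bf6f968d13a106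3e842142262357668e5ca33233134359e1d853316e6916926394f26223aa4d54e66724af1d56d55cb51b40759f2154b37042676ee4001d75845c82a33fb56619034856d6651ea1297413273be2d508d3ee5a05942a268a68642316f4f334c5ab6084de62b56524d56e6c15b369427934d6a86a76ba6a66a30fe3d21b40fd2833466b42572080f81ec1c31b70c00ef6a52070cb0b56fe8093f15397cf1440dc2a63b82176cf50324f7b364d4f06d17781032e931c68f4100ae3a87683a646a3a42016252341190ea50a6787874dc23521e4aa38722960a22a21d66b18039075c7bb70b70827d38a38947e39738638560d7173822c75c123b4d663b46323807306867f51137637520c1086ac2ac2c861a0d31771782976f471d46960954f07d12511b1693612f47704ac4f935c73b1cd2cb79b66f4f525f24a52f4b91e21ff34f0f03d93e52fb6d00ad3f81db3ce4f44a341a6e61df1c950767372032e6f108022e12e2734b028567b52241c41b72c75133c20d59b2ca2661e13283f20990160156e70146203202522422623ac04d05504a69c03b10731531400304f26926e30f2434991c25147452815047582e03053043032c92371281bc2ad2fc2fd34b26342c0675892066213607b71e74a653a79a6b74a000900a0583ad68b05a62908e0a50970e21243067371730a20210220d642d17209b09a3f069562a2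d27466765127884be4e735932b3023703812c62c50272511fc27a0af2215757817506e17ef52b75964870c2b570d75326a5284bc74e55d2fe3715cf2aa2a903e1b93b91c45f23fc3eb5ec20e5f029e29d29c11471c6dd6ab36b4c51c64fe5e529245a68428f28e1896fa6f57c87ab4474bd46b3354973cf6303091d467150038b63a1712c13da1e45d211a7b45b23374ba68376d26f3106b226c2502b23117d640232a1041702fa31d6895c53556497987a112a68277462f3cc0d82555776f831f2c326b3b41e53df4984943545d31875dc75424561030e31e6d96472207850f309537f6e46c637b30123639a3a11ef2324705024ef3395f518b5fb39439645b7b504405402666c15a2bf23f66d39939360c6e321a5f12183b766e4054ae66161f21177e5a92a032d3747865ef2093cb3c32f642a78a1861343a35d135013f5ee2c20841f91fa5bb4a866378b1026d246065613523310f6273c96643f54fa51f2f24a724e2785bc35132910d3415d46077653471da0aa4183ff6fc40b2807155c05646d61cf13035a7644764c33404cd4d02951a22a53c830c4494fb58d5204e92ff08f0352a762e3c764e1b53d16280bb0c50906577820340c80cc0650855d075f5985597777791c515c4ea17951377f7d16f074a77a16c16d5634bf5167447896e03f91846de5e65c222c71e28d18824820348a18f1835a352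339117f17e17d43651767019f36c36d5294316772de2d827b2643e74161971986da7ad36257372d7a57a60980a354a5917ac7c75ce0641a14882227495de11d5df12115400c15206d15066711f14d03001c00576f14800d0a609c3bb55c7a27965b81fe1156014a257242569661658b56b1f020273c0237f81ce43533803300e52e25b3f43000910da3642e16d35e01555a114e5e815711c3632763a060e60b77c13e29b7cb4c44b256a1ee07e1e05ba57e57f5b93733164246812653ae1f47837297483d33d00367ca77d0f93ca0206eb6ec5ed23d0f276c34e3c50ee0c76a960f39f7754500e765207b02e09e2e204107c0400de0933ba5a21260d92567922da0016cb36e71b6e56315676336321ab3c20ca7e41ac0ed08a1b10ba6060c28003c60bf5b00bd7d81b20c465574b7e57ff3c10b46548050a176b2c03a934956f7001d97ee48100f1462e40101632dd0b170e7c40e37131452d72d63261642e348223c6ff0dd7431271b01bb2e53ef48348b0c60890885f47211a91fb08308108233a77b10e3650e00e502d0798034556a206056c37a5f90718027e87e715106305f6aa5fa3792f86e21aa15d06c45406107506b73d78405c0592e705b2ea45805631a22548d05205172631204e31b4576d731904904853646d46e2266ca7eb0e10df03f2a86c06993176c948c69e6d80fc1ba1ad12d73e45614c0000e407a02c53269f02969a2c42244596441322db2dc0f780664b64c14b7367394840186c83253243227126f67090a40a712c1471536c72eb2ec69d6426b614a7383130020d502f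

/-- root element 2 -/
def t2 : Nat := 0x1f28067cd80880378a8057b474b7b364c6f839622904b3892320576a047346f30f1f664d5c164b13950b3755bf55547f42c78b6546ce73e6566557a726942d4805c93855bd6633f003d2580040110030946416930cd26e60a5098074c07cb7ca38b2872b223939275d1000e24811491240b11720dd04605017347938418c5238028000be1884705b504f3881774e76b75b62207e278373c4936622cd0e82412546892551ce49649037c36c4c446b17e6986c60fd2bf64357752458f2537e88043e909531d7867857827a67842e80ad1847216e213e10e77a7797781c526b3e12e91b91c42452091cd3ab1701ed2122922b50904aa11276570870e0fe57568f4bf17d7c470d0f96a14133df69b29644e1fb4183e00ae2f523638744a52880174a74910f3de5d80cf2fe57e2be39137628e7e56577a52a521a7367270527393862611da39823f55013412772d0ce18731338e7257384777281cc1ba17177e0d14751350f71025df2a15e75082020912263b15837123ca2070f876375c58657b1c36ee7642833c87056ff03603527b2717042173ac62a6ef1ad6bc7fe3356f61bb12d1860fc3e615c6fb7093cf3cc3d15a26e93c33c93c72404656e377d0af6e00d415a1851b015b5a035c5c03343375ac3ae66658927661b61c7e653953a2594cc1744765ba7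932b154c2210e760429058e3c46a26f90416180423a07aa4ee17529902e5af6b16b05a80a941d1b13cd4d24ef18e5e429a5ea5ad18a6bd75a7f74cf5ae34033275729556b7944786656022b37d22945693c576017b33f5b82ce61679e4745d033b06207631c3da3b53182fa30205302b02467a58d3210382d304303a02567250105402630c2f166c25c1a65aa5e35e26d36965ca7db7a356c49865f65e65d65c65b46e38c65873d7e47e37e703e2e66512b60a164e7f27ff7f002a1033db31f64609d46c79017c7d33ad11a2813535ce40a1bd2d14f522e4091bc4f419c33039d1543421481eb56333c6fc32f1520f62744a51d05b13312bb39b3235f23b96cf6d03d85fb6ba3dd68a6150bb14f0b551c46133860e16a60c60b7cf1ac4ea37e4725926c11ab6954976004f20ef11c0cc6192f65f918f2ad3f15f55f41d961e57459a59b3c047c2f43a16a51505e871904003f6a76686671235e071b36e37a5dc4225a127f7461961404523521e65d25d16875cf63c2b43013396647de4cb3f25305c51623be4f97f16d87ec2c67dc3462f86c745768c46d7a97af39a3472f76234486b269e6a46d53e76691a06af4a21a845c43157c6ea5da6da33359e28545a5ef5f034a1cf2b03b612b52a2c260525b29f78d6bf67929e58b58a6d23a80c370c44f5847132112182a00d67434515a370b20e2a729178f4ec76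15f119f48c48820319e19d53366169948e69122539c39e25e37962c20a29c5292271f93904e82a617950f4b24845567eb5545531801fd7303d53822a26c445628f4be54836d3d229d1784bd4c51953b74c64c126f13026a6cc6cd4502884d03811b256d17a5315c63fc3fd4150d82d459456074c0c90db0e178e7b540441413c51f42641e6113ee32e4054064202840ac3fa31e3ea4112c45590700e41207ee1047ce71841f4333e50f44124496711371054274284ad4353f55c24d91be2806386341925ff4f14f06a96b620f5762246084e955c7ab3511e54e42372431434e006f4ca4b10d01d51d44f806a4851de3770e94d36aa45853669f4b34556ca5c84de4594c837f53f54279748b2a353e7cc75f5495433624bb1db1dd1e91ea25d4b50c14ce5584dd0f04af4ae4fc2e22d57672341190ec0eb6252354a05a70734a324a24e1e20691e321607466060179b35830d7a416840c79a28a56a3575724c32984895712b82054d75574832687c17df7ea2f324d5ed2781f37b86977266c871f6887f660637d7b07f565a5b764479646a3c63d72424666e414115f2796102891692cb3e35a52ca59c4c94d15b954b4cd33e3ed5d557d53858575544644543e74d5025b035944d44c43d31231109238d2da44b44409f2f92de09e0a004400b4fb0a85062e15a40930390087e07e92f242a0ab4fd4fe51e400424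1065db3fb51750751d6ad0aa40f3f74167533f941952d5217595035113f641b23b1294911bf63b63618313a5185195220193fe09642513840252e52f42151441713d41a4104fa3f427d5c75f67da3ef51b45311016b5127893e85ab6f15053e445d15e77575275874761723864868232a61a46838354f2c835b5466eb0f56ed2486ab6ec14d7116e77066e64696906be6e82ac3a75ee2cc5c33b839711108261d3bd54059668139301e3b27141e41596d46406fd76e2ba0e65883c13a63a51a53a33a25eb6b83415666315676205b42337323bc7fd2af18b3b47c574155d3107294406597c92ae7fa7ad74e7357dd7b73d654e5351604c76074717992725dd56434e4d57407ed2510a70200331f02225de54779807a0cb0c508f0341f408a0890834bc1fa2191b50e31766d93d304544749548d35635530063d5d44e633a2f037827025a2ea5991931945b35bc34534419062f39f69d68d45425262b6863505cb60f6d62636f76d759f69c62263262951a13f2a412a3d915d1fc17f15314732461f32267832064751378768304d05505968006302f01800272a44344238f7f41f749466e2652623092c925005130505606167e5cc3542ff7442e705805a67f43b5bb5b25fa7505ec47e42b66d34f2861a72ed2ec2eb34b7747812fd6522dc2dd2d64ac43204804943a2e42e52d743f10b10a2db2e34ab52b6762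d263923d1d768b7a23bf45e45b3083d42c55be2c75100ea5932002bc79174223c2c06213aa2564871d86507695cd6947c76c559739538a5f73c22ab2aa2a913157955b73b32c4c254d71a58059058c54556129b6a66b448a0df75669a69207976a5786c054a73f0d90c80c048f4605377c82ef59d5167070de63e4f65d927e3f327c70127a46247b25f6d10b862622b37b70034d53d7d026d18277653b7e148226726430b26633630a7341dc2775654b666b59134c6cb7d80d72b979d79f78c33d37430708049e47d12821349f22f3ce2011a17711c24e24677a06e57311672d02bd40e2067c63dc4e374f4a44a93997f91422302496371180682731d17fc16155f7155684eb11736f6c37a812e1f81ff07208773a3605816fe49a1811e824b76b5822104ed57a1151df1915627700c271023a4862045707172472c121d11655132875436155e21e30e7f30b936647a80901f37006707f76c0b062d4b74b82141445d34e53b049b49d1a21e020c4d64b92604ba7335f32b72cf0f34db4da03102822a62459879c76f72403c04c00604707703777777270a2441c11c040b4f763a6356f57237730bd0bc1a335f0f10f25346ac6dc1661656fa60960310d1145a62ee66a3a40641b61e12465a957356f56e6330841130fb06b0755d75413483494f320b3435f86a802d7b63946a302c7b172b6f36dd77f40826c21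555232779575e64268e53255a5447ac35d6b56c97b97bd72276d16f16e16d16c3eb60d45f49223e1af1ae12c1635c42283804633e23296f06db6de3af15800015600f6303266281515e96130ba3cb14c14b1457c062e32514614a1e74e12314645d632d77c3f85200274077ef3ff50001771e72f05e1322a853c12f21f6f416459532b40d24c72e0ed0b47bf5e11220a450c0c611e0d55fd0ee63f4a822d2231fe20d1a919a7663bb3ec74877b1aa0072d92d808b0100014234ff50a64971c05d7c307e7627926f21990fa75b70f71d6273d05041d61b31b44b05fe11b1264a74a62c34d47a16c23a907150d35e7c25250882972827bc0c752608128d52c25757f11d6df0d30d27204dc74572c7d15fc36a07b52728c0dc11f36907d5872084b428b07c7b21b81b761414e1f52750b70b66121250b30b27be1ec6e175178051542941c6ae43437301508e12101402164f43843c43964500d09b09a00e00c0974017887d44304417167683680a50120131093653640e021b08608519b3633ba0da24f1ee0ff0c40bf0ca36b2930781c76841974994a121c0e550e4df06e01c04a1984d849c22c1ef0660651a431768530306005f13310105c03b2fb3192fc7f830431a67067d7373067ba7ae04e31b1ca7fb06c2df2e01c87bb35a4376756b96bb5e65e56537d91cb05b67442f6771c67037023673710321d30233166b318d18967c64a0291d213b66f67367b0300220a23721f13b301d06d01b01a4033151360050a60a308c08d7d610815509909c09843600a00942e10c1c90167d77d5314107157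

/-- root element 3 -/
def t3 : Nat := 0x1a57f28017cd7b47e37e47e78077e57e853a16a4f976d28928a6483c025c2af1411608081447e242f0e01a73f30e57ba7c27ff80203f8008038047f07c07bd7ae53e2cb14215f7b941c0bc02200e09a0055403bd52e7c32ca3ea80625d7847a61a673f7555745920c37d07e97bf7e17c17bb7e035a7be7ea7da3f116953013980564c57f53f51c1437df76774d6c23f216871a6557ca74a1612ae76a79755e5612f056279532c16242b7667a173579c5962f40d755161d5390da11f58c73e64b6851d24fe4d94497cb77864e50913b67513c3f51d44db73d73c78342a67767052d57a57975b73a76f5937fb0b00f17a23593687ad79835057e57b58061b59974074175c75d77159a67d16b61e6c57c73f41a815e10c52359074c7ac74e64d7a56574da1101961c85170be32875e75f7c878b77a77935b7702e42d73062dd79654555b35d3603616f26db13713637f2db7262e52d67292dc7246f36dc4ad1d33106f46de6f536e7a827a0cf37036733d22a0461516e80f20c20450e30b10dd0bd1470d60de70632232537137236620f1536c34d15ae1266dd2792a43ae14c71c71e72372f2854ae0ca3266ed6ec6e70c43247116eb6e64b31f75e74331c943510971d6fa72272e3072a13ad3ac3473095ce04022d3382bf22036b1da4962a32c94874f22521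f97565466fe7ab6a64f323c54f3323b50b46b40ed4ef4793aa6316ba0ee01c08e0210230ba2c160346856c5bc6a56a36c16a85d26a72633d21fc4d42422ad45429e1d726221923d22745860829f6332652ac2172c049718f45763d20a1d926463c78964945a1cb5c844f45c43175950452c1fb13f45177645377f1d64b01c513e7755153a02725ad5c23a414e02c02d2935b12ff1f65b53375d344644543e44d44b4404484447496547a765642951844c47243c78274b7b378a4dc6847f851e43d4391d829c4d52c25b924e24f68a68621c20c5a021d2232771ef22c6924556b53c73cf3cc21b25048e48d2263d13ca20121e1e419059f48c2253c375779035c7616172785fe61a56918b5e45e55ea5c45b430139f4b637d37949353469430d09f5c65fc6ac3343332334d061818d6045eb37a33a56a5725c71f32f84ca25355054c2612be5942415fb6125e65e06e35e961361429728d1895e85df5de4e634104e0c70ff03a0f30d026b2766606a45bb2b32c76d45b73524f04d346f6815f660547161137666b37c2ce38946a30f6a95d132f64033c5cd3846626104d24e96650920156fc66c35606c0bf0ab0140660d810318405511b12563962205a0aa17035875a7605525607945675ed76e7c554274f08325910e78c1670754a358135e5833e905958635f5887627b27643e10617637737722562a63a91f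d7c65445f729836f2a25322c46aa3305f861630859548b4593552d179d79f5973437a053c5377335383bf53b14a13208250e4df5987915f16be3a52d05f03772ef53d15c3bb6c47345733be5913277d37b17de54955d5587fe78f55a55c34c3a66094ee56e2c57b65147d177467b45d39d36c12a4b50c607108975013d50311415d6473f67b004d02a41a65274443666f52f4521ca4372ba17d55408808108a1c678150541b1aa50867c52105f10f16c1c77871381a916d10d7fc0600651ee48522e6c06c83935cb6b85332b92402b82665b217e1805dd3a101f22b22f38a4b455334e1fe64a77b74878623426023864269f5ca5b36fd5ff19d0e630a39b4625f319239430e45e2964bc2cf2bd3953964bd46b4bf4c40b921f4a908508660d5274e06e544e07f6733296f072147738f1794b923a23524b41d40e5892102442c32493dc24324823b24c1dd46168d6cc29d2f160a45f1a14702ee62b62a62156603320b0366c90844f516414614548148026e0e81741751e53a36b719e4ac25a43b3782296505c54905c90a009d2704be5be3a76ab3573b41872313804cb49827d4924c652b67f22868356569568b34863269c6765136783886804b265c65165b11178565913065f65e65810a43443f65a44165d64664f47538e6454305115166e04426e21cd67e4387ef41742d3f07997776530953da284009058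04a2eb00a3f90ae0af4a57d95075192e702442e03b1040ce3ed0174060060074a41a21e120d2813b131b05c4110ad0d10162fd09932002805b1050d430508b42003102751d77d7547ec7aa7b842c1630564130f40ac7ce58531934b03d0470633db0f057d02502602b3d549e3e342703e3c43d43cd3dd3d70fe6a16283c862f1c23d662e3c96273cb3d06301ab1ac3d861f1b21b17f75595437d232b5470e12542363ab23f6bc46601d0b840912e1016f76d86d73b76b657621a46953554e66a47a3994e566e60e29552a2944cc1e63a219f3874c04c14c84f118c2cc2b54ab43a0932da1f24e15bf45039726f1885b62c82aa2ab46372b37b60c5c137e5fa60b47454b5c323227c31670270371757071b1775296ce18a18e7687167010e41200db2f373073158258773261c73b7bc76959b4675ac56435130b5cc3547652554de2a85363e72212154566d630c3392f755f3425dc2bb3313367155b83355f93456d166133e33b6026016bd33f56b5ba1401d579b3bc1a04af7425416ee7046e90f670505440000b03803c04b4081823e806216e3733143152e331231171f5bd4c76073463534cd6d55686da7373fb18326c04360f2f666400840226716f0762d55f43443000397933621e749479e54a48f25113a42210603704c4190447287393132de2e12df2e02e273672572a38c2d92d87387272f90570530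2956354d4c35c02863917dd7cf6ca3835cf2a953156d4a06416ad68e6d05ee4c21813405104ed4eb1310a139009e5d026a25b1127f57a369d6903813822c634d1b95772a06f86cb56f6d92a569369b4956431be28b28c5715e34c539e39c66628f27125e29217f5e229929a7f97fa1ce1952cd6f14262581b740a1161151984603740357196f96196365d40b21bd21366d29146c38647f14b3035d52b226912c2fc4ea6916876a26995ef4d71d12907cc7f62b147658e2831b857834f3b95f26c72ed62c63e63f22449a4a61e249f49c1df1292114a149d69e5ec4ec3b61c16976bf49b4a81fa4d60eb3b84a74d860037546406b4e24f46d26344e371447345b69662962024d63708f34a6cf4ba62563863b62d3a869820968f11934919b2732072454a27001c440b63a4896892181ec2121281a401e0900916261f81dc4dd5756a067a2396c62006e46630320205f538b0b30346354f60f82081bc0fa1e00642f239a47b6240ec24a40c1e924711a4991ff1d06cd68864469a67432d77c72078825f1db0e728843210b6825126e17454ff50a67220e0fd3ce23e19707e29b2741eb15a1712a72572821ae0f91b31b43c23c11861591b61353c53c65064fc7537ed7c980920513340d49132a3984784cf12b21416605e27e1c074628717c17b4c912f62368c3695fd39261536a5e13854651b012d5a430431a2b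c4e728e4e850f1941930e94aa17636d17847c47d0e21721ba59c2fb3174fb5007587fd7b77a958b19a0fb4843ef79a7a47f37db75251f5480fc1bb1af1581571561551546ff14d71207907a6691526f626d5571491487094834827f17af7dc7f432e67967152277e7802ec7b54fd72d72c1ad1271a35562b74471913b018526819c5282462061346fb5a11240df11e12136478d12211d0d95a21de2160ea06828027f52005d2b044a74750158d4fa7511cc4436df1071082ea3fd4155a50f73af0505d93d31c315b1651ea1b51ed1023230f53ec5d771076b3e20c86b36b91e323711817a47e1cf4ce7eb36570d1733ba7ee12370770b04136378e11c5a67927080a43fc0d20d34045d67184140770c00bb6ef0780ef5da5260b56ea7c470f0b70cc5aa74370a7d80cb6ae4bb3b20c106f0c56bb1f127570c76c41e41f4053eb5a959d07c0a80a708c01a0d508d01b2b646e6062b446d0960047d540101900309c42800c38d5b02022032226b10a30a63fa50b52450d0674b74b848658f55550c0724b11bf02e0a904214f1500c90cd2fa58a06a06908052506e0b60700135ab2300740731170875a74f71e83e431857c4f85021991134073fe59e5844242d43ee5a33212d305205110004f5db51b2e831c4230490483e571370e2e630207b0dc6d37e63d93e631d4165d82f531e2e948827b1f048a1f53f801202f07d6676683de51a2d23ff3f73df3e04186af7d76b01f44e42043b36b20a20a50980184124035af5a806d03000d00100f7d601109431f4214252fe40f4107d409b097002010000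

/-- root element 4 -/
def t4 : Nat := 0x53f7e77e87a77b38007f07f27ff80480179e42b1441c62ae1431c77932ca5921a65308024f98037750db51c1621207e17c18078081507e37e27e57e47ea7da7d01683f13f21697e01360bc01a08c01b08d7c678f6807df25c03865516177a74a1415372f37d32af0467ae7bf7e97ba7c257f7b935e7b27c07bd2cb15f16004b64c8057bb1a51a728a7c353b56053c14253e7918067a57a625d2895413bc76e6c47fe74f3bf7333f316a54232b5525597617f70d77a87577d20e40e173473e64b51252c68310f13f73d78278352b50451615c1c516c16d7cb74964e10d4177ef67f73b57975b5820a87a050a0f10b03273be37155859130075c58358079435c54954a57e76477135851141a7905443621a95035054dc67679d53859755a64d7ca77906013d41b42967e0be7302ef53d55c78b78465777335f72a72530672759878c79b3bb6c374271c6fa13e41c3a37392d53137362f97382e171d71e1fb5152de72272372f36e5511e502a3663673572430c36ee14d0f20c20450e30b10d60de7050dd0bd1547096f63683723703aa6e936030a2bb02e72e48d54c48c7046f26dc6de6f51381146ef7121480f50f65da6ff1523233424f35e71f715d1d610e4b06f36db6f46dd55f2415a02275b26a946212322b5d12c21fa6ce29c29e4875c82a359463c2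3f57379f73155d0b54b35322c856b5d06bb0cc6ae5f447920f48b0c06b30190030040966b924e6034686646d50cb0ef0c50bb6070c859f23622159563d6081904962a248e5505363ac4972ad2532242254693ab45945845718f2422542c42262521ca1cb7876492c97d177474443713b1d24ad44965242e7504361c91093f513742f1d35cb37d5b45c25c704111c14f5e233c6aa1f64903555c544544644444d44b4725cd43e73c6547cd6561c867844c44043f77874b7b478a10c6824ff51343d4382151da4de2bf3362c124869e6c721f2383ad2342441dd24b1e424d2505666286273cb23a45526227926463062f23b23522c4542633ae2653d061d61e59959661718b29a61a33b27828c5e136a5c45ad5ac5cc4b62725dd5c153469d6a409d49218e6ac2ce5f84942b728b5fd3691f35ca5b36013083a45eb6b819c29f2192a42a61fd4f22a15f518a5e95e06e45e61892995e36666135e85de5df60b34626c6ea58a0d404708b07733947130d6d16bc2ab4cb65960e66e5fa46f6ca66a45f66061150f66b60a33437554e30f3093384cc33e5b144838447066c5f96d65b809209434061060f16f5aa0060111e803103904c13a0a90426d86a241902704459a59b61c73574d61b69f6c855e7f576656258f47443554527f5d91e258135a57b00b4027637705887627be75d03c3fb58635b7724562612a82b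e5406c556829836f1d723c1d92ff6bd3333355724d46312c033733f5905467ac6da5936c273f32c74c7957673ef48250b06f0c179671a6983835be1816f84eb75e75f13c35d56158c7563597987a25748097a97407ab7ad2f03bd74e7c869738260947d6bf2a97f31a044f45c7887814ce4502b106e50c5255244531101a84ae4334521407ed4220cf16b45143177f72032a64778975917a5c30b650d52655576d45d15e1964af7527807531d54d91d464845a2853f44db42a7f14da40c48923711a6e55ed3a13a02f81744c247854b3533473903913793930b922d08738a0c90b76421c17514fb4f850121d24920c34e56737a33a4cd13117c52a4d15ba5ce12b4c330e39446426a1124c94ed4634732872881952b001f21c0ea12948660d0700786c01111c06df50652067a43210b39811821b21e1ef07311724a49122324c26008022a24f2012c32772ed69569b25560037c6054a26622ee6996f96f76b508f4f60366cb4b70eb26d26855614912417317853319327a37f6b74ec1cd29044258e4c065a5d35b55c90a009f2951ce3a56906ab33d1873b44c64c16d425127d5c623150952d2284fe68e68d68c57862c62352351e51852952e44a65c65165b44e6795b72cd65e65f65d38e47543c65064f65864644143410a43064567d67558d43b51f4ac51743967067704f0507fd4fa74502b053057182106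3e851b40806203e02506972c74675859e0ad77616e0540262e90f42fa0ab0f00681ea4f72300ec21642118307602403d0125840133ee0ac26704303a57c0d03180d80aa32e6724fc79a7dc7dd10055740003701702831e31f4233e40d10f33e700800731d0af0ce0953c10722fe2d30ae3c23c51ab1b11ac0fe3b83c761f3ca2473c63c962e3cf3cc3c33d13cd3d71b23c83d83dd2f479c7695397a173211f20a3d22171f92b34650b20b81192001b662163969668f70034d2112ac2aa46a5f672b39a4f14f03522700e627132f3a21e64aa36d2293804c74e518c4e74e81cc4432da0931f24e123236c1772921885b654f5352c739547a37466d49327c4d34e62592b817d5bf37e37370276870157071b39738836b6125fc7037167170da0e50e07553286fe73a7bc54776057a58754375a7153016613444ea39f2f72f629d4d53a923d0631fc1d82564e95dc2763543076e630c5ae5635b94676656164d25d45bb5646405695c056a3302d133239b3f605f55b7975141aa36176a15114c1536e71471040563e93ea3e113900a00904a3f903b3163153147282d92d82e25bd4c85d23412666fd5bc5f734373706105c04e10535676556c3db05905b06c4117264ef3513501033c07c71e723353a74148f49805504d05841318405a1702e32db2e53107242df2e071f2d62d72e438d3123112dc2dd7292843da2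d23312bc1926024471807b87f66816be3812c52c668849a6d063f5656415752b92d06fc0e92bd3775ff0a117e09e3b52965284bc7c57fa6943a75cf3a65315761b95ef1c45f06c969a5ec20e5f26cc34f6cd19b6185e45712972b246c29128d38629447626f0e72936145fe7af7a34be4bf1304fd2d40f81b31e327e58b28046037b09147b62a61549934501d1d01d160c39c39e28f0e24845db0cd4c51724833fe30b62062962262b57749f21325a7a47cf12a25e3781ed1ec34849568969368646163249c6ad6334a06354a34d763e3ce08521a63771468a6d919e6c61fe34c56e62662d22063a4f56a16256382f138945e40b0671de4e36246d249d39645b6d76876916924a10336a023963b4a74d84ba4a82455f12093b74096441be25f0fd3a81a16b62a006b4d61ee3b92181b81c31ff1e901e09003549b3b020623e5ee34a7216cf3b612e6e36630320205fb38b0b30344a620b25825706a40d2055a72f23997196342815890651a41c222e6361281bd64356d34956f6e150250066f67b27327417f46b47738f6846856746537f87fb77d2a52071df4dd4b112f2141db0741851342a72081b43af0f91b72823c43d51861331011353d43d63297545217b07f47b11e01590fa21052f1792401945f329b0fb11311607f5074bd19d47c2cf07e69c68b60418d3926195ea5e53854661b01bb2e840742554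d2cc1cf2b53764cf17551019f47e3870e817b4ee47f2691272e65ab41677b77c5197997db7de11516516614b14a7ec7cc7b67b75086e277e0fc12d1a31561571581557063246e83267e66670dc7113251641634816ed32212c1327fc7f97aa7c951d78572d74754867c5a331c6f16717d91ad1ba1af1454d02861bf1f815a1464ca25b4b81dc17107d07b4806d311e1217eb3ba12211d66807c4f43b14a94a41981676f01994c44b25227866e077764a4ab43a6731081074243023212f50f71ae3f00753d321215b19a1a21b52831026eb6ec4123e571076c40f6a70ee0ba40a4854b92ba17628e39d36478e70d26e78d36304070a70814e7ee36502c3f879270b0a45d80d20d33e63fa51a3df26b6ba6a80ca4e06a30c40816a60c771370f5536b40bf7437077d86a50ed4e43b24df50e6c10b41f13b370c76b3e03d94183ff4103f75a276f02f00e0220d500509a2b646e46d2b46060230210a206d01c08e6af3de5af38c5b027b20348a0977d47d65d60820890884e208424608608308a0c649e19719112611b12502d03f4b45d54060ff1bc4a53dc0714b55545270992fb20d1eb41d40e22f0641e106634b42030574832d05d05e3042fc2e72fd2ea4263202ec41542705205142c42d3032eb5a47b53190490485d77c470e59c3fd5a16690df07941f40457d3173fc5a57ce3ed4882021f02221f55a60160a76fb07a0d94287180293eb59d41441e40509c0a509b1f44bb2042750987d57d76b20183ec03000c00d4014035a80010000a601401558531b31a3e33e25a90a36b06b100201000f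

/-- root element 5 -/
def t5 : Nat := 0x7ab6567cd7e480378a80574b7b464b64c73473276767b6c273f6537917666c573575564d7ac7b33f65a274075e5a158658365565466873e80678b7a757b57e76474c76976a74d75d6846e67d54017d74036c379f72c75c74e3fc80779774a77a7417b87997317a13f07bb35e76335a7bc7b957f7bf7c35877be7c87ad35d4058017f07ae7957a23597b27b77f180975f7987937e278473d75679c7b07c535c7d278c7577a33587967c77a97cc79a7b17307a86ec7f774f6c46fb66979e7e38046f17817456e072d7a67827837887447477216e232d7487ca64e74932975832e6df58035b58835f46e76032a6eb6e77dc7dd6127fc7f65c57df7c173b74276e7aa7ec7da7d058173374677679d7a47f36f06486496526e17907cf7db7de8027cb77877b77f75978778042d7617c97ed7f97e57a56577625827363132df7397f47fe75a7fd7c67943835347857d134672746d72572a60672838c6036be77e6472b62c86ac54f5df3606643fd61861454b3b142c48370f6e871148126e47f2697064824806ed70a5565575fe5fc5ea3ac4845512712d078e6096922616883ef4692ac61769078975452426870779276c50b26d71076b7d82525fa5f477d75078677461a6ab3a746854d24169a6445fb47125e66727447b34a3b65e33b834f3ad69f69e6996422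207f578f7d37fa2036a269172229029452520250c1f74bf69d68c48a50d5af6b06b15a85261eb71d6dd1e55d32224881f427b3391f06c01da2bf6ca6c96b61d92556d86c855062c3aa2561d82546f96bf6f23ab6235766b523c1d72536f75784f36737d94295054f241c4b050466f6707fb42a1d54dc6741d664a6776853f41d467c67d61060f60b4501cf78d7e66d35e22ba71944a1ce30d30065f65e64665c6581cd1cc65b73c8087e87e77f875165147543a7797f27ff80067575275372065d43b6d72366c72212593b02812a34de4851bd4874f540922e1bc4f46326336202821b71b841d6974d423d3a91b31b45894a527368e4d52c06311ec59b59a5965996de3377176f32cf3457165e176826f66e66d5f547e5f966c3876fa20f5d472619f5707232b91942ff3b57035e97026d66e460c19d1935c360e6e33325ef5ec3b95f23b72c95f15cc7015fd5e85ca36b2935716ce6666135e071b36e5b43a33fb5554f64135d55a45d76076a935527a2915cf4ca38f5eb5ad5e752859517f4bc76528f5f652917729517d54e29218723317c4c317538e36c4475dd2721f317b3126b21745cb37d3e758f3e36af1be59c59d5d61827ee7eb2a24b316e5a55a661e61d61b1a616961c5c848e3285732ca55b5aa5694db54527e4896267717ba7ea3e22677e973a75b7737bd7e03ec26c7e157957a68754c68d2b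e2f45925105e460424218f19049447652a58e17a2622653ae18b47832c5464f91813612ae1435901681a51447047055da4e42043f36fe69871c5be6da5777151621424af16056158c25d28a53e1a73c053c54251c53f15f2f03bd25c2cb4552c572e3432255313625095084fd52b52c56a5c25c91f16ae6bb6ef5195184fe4334ae50751753d4083e152352251d13d51350a51513841b5723a42756b36b96ea51452f52e51e13c68267e4ff4494da13750352152d3f54354ad5604d94a25d96386346866813564c81e63404ea33f3574ed27c4e11f24c74d25544a94a84e84bb1f563c40b67858d5014f849e40a4b962262b3a24e51314cd4cc3334d04cf12b5ce33e4f04e61304c14c05b93534c54c46b723148f5c64e03dc4d61ea1e91783b23b359f1e71bf67f54851f4fa43943c2294e34e222f12e6254a14a04f74a44a31284d840e2063ce1c221335434849549656c29617940c46b4bd5942242c44576b458a6a763920563b6ff71270970e70870c60d3073086d12f728756347256b6503351124776d52cd2b176f72933449046a6f56db19e3092f628626a25a30c2cc2b02881a028525b1a84542a848b22653645916b19611066b15e1f644d44c43e6635024435b544644543d44844010b44210a44b4444ab64564f4ac4341d310c4fb43852043014043213b1c97437133bb67a68341541441f13a3e8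10642142241e42642062d6805114174163db41a4194284275d810540f13941149d1294914dd4d763751b4004047b54067d43fe7d64073ea4027187ce5db1043f72843f97ef4fc6725523273be7c46f61833eb57d3ed3ff3e64245ab3e93da16f5a958551a10326b1841864ba4183e517015a15b1341021351c429c1ed25728349b1850fd2080f82121c32581bb0fc17120712d1b05402893f15392af42b1265f06cd5ee6cf5ff3504b44b571463f1595656cb70068f6966292456dc3a63a550f5dc4d330130e37430b39b30a39d37a2f839639539839737933a0e838b38a5cd5b73117243913900e738460a30f2b538872f2c62c736d3513525ac2b234739a39433633137537639f12136936a18a18e5de3805b65e637137228b28c29a14e12511b53055e71a7707c27b67a07727c07af79b4eb4f15d24984c237e37f3b46cc2632642792fd6d02ad49737b72b6152ed5330bc2514ee4ec4c92400e91923936a42f161937847446c4ce5f337719c0e677577c56216176d7775933f21641451460b01630d03200d10ac0cf0ab31b31a3170aa31911d3153147385b038d2b43863a066146139e39c46647c47d2e03053043030f43a16606000ad34b2fb2fc0f009d39947a4650af57416a11133853a1411953442ec2eb2e70d40952ea0ae2dd2dc2d609e0933067370a12e52e42d72d80922da2db2e309f0d80f32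d22b86fc6162bd4704605375915ed71e38138253548c1df1fc2006216a05752ce2bb2bc6656022d12b371f3853102b737c46f45f3bc55d3496f42ab2aa2a945820e29f0fe20a63d5a02191b92a629d29e3d208536629829918d4935c06bc5e55bd5d06bd5c42321893673685433bf45e47946445c3f83cf63063e27f28058b1804e96a55d134c27625f27850e6d26245b36fd26661170d6e957c3df46370b6ee58427056634d34e5676f81dc2776d454453845b4626403c73d069569b6936896e534124d1ff06a25024a07424c0ec1e320119b3a821611956f6d933d23916762a68b1e206923f1db2346430732375bb28e4be1c14a76361181d11d00684aa12a21545653248d1176a86416c60eb0670800720872112a10f91fd2442271e84993c921a0866082a71160ea1912a41b53cb3c349c4865536c16ba2472c124f1152172c215c1f91fa1ef6b844e4df6a65b24e75276a31f807e3d161f6ad4b84b72144b24ef6aa11a24823b1a40652c31dd1de2602386a169c69468a6766796714371c622c22b66a66265a65913610942e1c71c81d215d3d33c849a23012f4b15a763a6353c61ab2a062e62f1a32096276281270f73c11331011ac1ad1ba10d11445a5415985591e11b606408445d6054675f83302461130fb06b0754522ee6015f733b20b56d56e36f29717656437028d17e5bc3dd3cd3de3ee5a355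f27d5c71885bf5ba5b15684924b65c118c5b85ae0b10d63c43d93e459e06005f4532f359755a23e05e05d32632254a32b54753b44f1c51fb3d73d83af0d31070d21080de12c0f214b11c1233650c21321511470450bd14a32432555855c5492ef43113e13f51650642f4254105125001cb3d43d61af14c4d14c61c04a63c21534cb22840d49f1b23ba3640dd14f12237304207d11e3161503631e424322d22320d1fe1a919a4732f245110e10f1aa43644143f1ca1551574234123fa3e03d51ae04607f2a53cc3c51990662183ca1b10f10d73022d31520f62fa03608308224921f20c33c39238932f07b02e0e20e304107c02d1541240da0a90dc02c2d40f517202f2e915815631f32131d0cd0ce03503307101f0340810c40200c605014d01e08f08804f14834209108a06f07003201d09008906e0781733232f52e62fe31e31c3180db0a00a40150210a701408e2de0a82d52e22f901602209709809909a0112e80192e12d90bb0b50c00a201201304c0ba0b40bf21b21029b1a10ee0ed0c721d0ff1ee11f0e00e504003f0b204703d19724b23521c0ca0b80b90b301c05b19824e23a22a21e0fa1e01a205902506116d16c16616505c06c05806305a03e05605502b0260490480c30be04e04d08b02403b05205107710014903102a1200e107a07905707601704a03802703a0280ef0cc0c80cb0b70440230d50e40df0d905404302903703905306204b03009b0a50c50c90c10b606d01a01b09401803c09c0a60a308c08d09600f01000c00500e00700a00900600b00800d003004002000001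

/-- root element 6 -/
def t6 : Nat := 0x1a68017f274b6547e27e77e48087e87e579b25d25c45a3f31a745d7424f953e14215f80742b7e37500e428a2890e17c37b980080314f7ff8027f08047c07bd7ae2af53f1411607c22850de00409600301976e74f4ff7ba16104c64d16a64e7781a53275587305300e37ea7da7bf7e17c15837e07635867d07e93f216859203965678b7642cb1622ae7df55a3bb5983f116935c78a78373c2ca14354a36279379079d79e55c7fe51c1445972f353d5377317a00bd76179f7331200db7577b37a768013868206005f7827a678451241a67e1a91aa10f13f74974a7ca1c551367850a77277335f5882e17d36830c20f22ef53c36f5385605f97b27bc73b7916c33be3bf35e5875826c467651578c59153b1fb52c4b041b7ef7d232b5473bc80677977a13e5041d65054170d67f755954354164c6577a576258173931330673654935878f5447947c66db6f216c5031f77272e272872a2de7252d96dc6f311413d2d56dd6f56de36e61c5e70473673705ba2770b17123230f10b00dd0c30460450d76ff0be0bc0f57056ee2983663722567095996024670426f45c849663c6f671d6fa72272e41c15c6b970434214814d6b36e90f61521543a937f27a10d3f616d51471c71e72372f5632204574586aa5ac33b1502c35cc1fd2a16132a62a423c2252245362262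4154275a7605520c04592a361733e4cb5da0c86ef3465f62c45940ef6ea08c01a01b08d5aa21e4692c86d666e0b50cb0cc0c55ad0bb45454c2be53248d48c26325348b45523f2a21903ac26423659563d53422121559f48e3ad2652554de6083ae44f45c76d78727978964977f4531101a83f44db77545275943119615e42a4da45116b6a96075d22291f20a912311c5e93435ca3804e15b35b465c65165b65f65d43044164673d7b464b8051a051165e43c4727cb7cd73e65514067f52b5166585cd2a82544563ab2ce23821c6916f724f20125026022c22a21b2235672625ed3c73cf3cc1ef5a018f2422523c93c320c2c121f2274972ad2c93ca58c56171a55154f4e528c6be30b4c818a6ce18e4905d35d45dc4c05c53552282ac68766d0a118c28b3a76fd3313a225a2995e229a1e535176533c2bb6b73a35d137829e1fa3d229d1fc6311f947b3696665e871929336b36a5e15fd5e35e05de5df30060e4226bb40b0f303a02a03860f61066c5f44ea5313356456d13396643956f947939260c4704bf4732f25b94602c64643a02f87155c056a43945f38a6606612f755f2da0133576a46d51066ae03e0124a202407604326c02e04162c68d16f03d04b5455466fe7ab7983606926b55407b67563bd5264c21d561e1c11c00ea77075c7bb0623e87be75b73a35b57e57f05418235a57957a20f1da4b32b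f36135d34037136823d4d43aa3474cd5b83534cc6331d74f33796da2f061d7665b12f435979c5397ad7417c726855652506e0b66c261b23961a3824786a117c7a27354ae74d59a59b7327406c573f5937dd7f579676975532c55b7677956c83816902ba69f5cf7c51091c71c67536481751123970c958f55550c42f1d31364ad4af4361c979a1830d013b43742e6477586df7767816524ee39107050b52450d7741ca1c810c3f574574772c4491d41377d11cb1d213c4354337f64d91be4dd1dc11756534c46634530c5102914ce1745d03441ce1cf2f66190b324b24a6620b706f6884f632e6796714f81dd21d24e34856e2ff33733447617a4ec56b5686bc4742906154653852b147e29558e46f60d5c33863760e80321e406a1e91ea3960780c15762b228075251f54852038e47545007424c23b22b2001e31185a724822d2431de24924423523a23439a6226f826137b45b38440d61137568c69e69d69a03612f03324d1e81ff48248348412404f1004c42b839d5eb1f35c754d43a4d04ab4ca5c264f37d5c44c109309e13126f2a96ac3836fc4f14c75bd1f63b51e65bf5b61887f86844937fb6c06d76d86426996a267d6776704aa68526a44644543e36d50243f39044d44c43d10a43465943844844b44465038f4775b744051851e4fb4424fa1cd67565a5235171721737f167232a02803c00b400267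3e75db3fb0080070061f86f17517803fe0d87444020370172d30ce2e60af0ae0ec4911295d90801d13ee13a04402703109441601142509541907708b4210d42fe0d10ad6e150667a7fa7b87aa0e23ef40805302b0262e83185844230aa0cf16e0570253210f00ac0f43c411a2d431d0ab3d53d63d73d83cd2a05f03cb3c862f0733d462e3d161f6283d06301b11b23dd6271ac1ab32875e75f59074c7ac0e529c29f2c221946239301e0b225f1db19a68668b69564156d6e52096032ab2aa38b5f56002785bc3412cf47c19c3084982331785284b65c918b3b45c650f44743b4ac0a00923a45b527d17912a4be4c649246854e5356636e42f14711e74943545645f31944bd48f25131670157171676871b44a2b05e55e45ea5707177020e00da11f7a157459677175d5737a858057b55d7345ae30960b37a5693385fa33a20a1d91d84f204a2172c04d556c6b84f04e96656ed39f5723336bd32f5f86d43505cb3524d23325ce4d133f33660130a33d4dc10e53a74e42915d3c07c83253263247113223e100928426b3da1700560610593e90633733143157382d80a82f92311872724ef61633035639b2d173700a04d0551842765dd4d33f903b05805a1033105bb5b24e613955e7975c137e56276a23227c05c04e06c1043ea05b4112e52e42d772976f2df2e07262dd2dc2d65b07243122e32db71f3db4132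d230719e39e64028f17d7b17a46206ab2c55be2c76b66d23b76253495756a02591935f753327147d27009f13009d2664b24c536c7de7af6216093a63a546a64420e6cd0fe6cc6bf6976cf3d33b85f25ef3b90655fc5fe70318925b4c312b5e62864ed4c92cd19518d6186047ed7ec17e17f2927d931f1b72580724b11bf2303892ed0206e36813a17143010b81df0eb30d2b92b746b05026d5a331e44e1495574242b368a69469c6324956383b11927fd7fc2965ff2bd2821c370068964369b62937463963b4d64874a84e34e249d4a11bd1e11b549c49f62a6c60e669816756f6cb4a749a55063f21369349b4993992ee30f27e1e20684a06374a663666b60a6236c76ca6c963409068f6d96246ad4d763e6352183b621a34a20668e2052371b30f90665782a70ff62619134f3a81ed1b421621401d08f03463a4a54851ee6d05ee7545f15ec41d72b4630b903547a66a01f09162d1fe2080f80674b74b848637c4615fb4ba4a422f24608527449e4d84f53b057734e34d56674658d5015224fd40912e4e74e843210b4fe50951d50852e52d7771b925706958b58a27f4f72470870f71b01c40fd2831992452072123c53c61ba05d05e12d3c23c177d77e67b7f98097c919b0fb1a11a26531762d00e939c1a43af1b606b07567428e3772bc25e20b69662b61228d60539461429745e30e17113530251b57c17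b0e72872882cc54b1814cf38839811119f52a4eb42c42d18631c59e3e46e072d66f7cc7a97b723e1011331451637b07cf7db7f36733296f01341021131581571561556e61476e71516d37e607c6eb14c14b12c2696ec1531461647997a37f47dc64a77b7487204fc5194072f578850052118515b16513246c2b54891d01ad14a29438740c1190fc07b0dc48166812211d78e36311e12166707d3dc1284a34f407f07e72115952917767c77c32d6e25071cc44352f1081075ab0cd2e92fa15a16647f20d2a51b81271a30862111ec1bb6e87063de5d876b7103e06b40c40ca40e27358919d4bc1802403ba7ee7c43f07eb36502c7d870e12578d36402d41870a7430a43fa0d30d23f851a3e54121056a66a70ed5276ba0b40836a50ee70d76c4b46c10ba7087927076a30bf1f52754e05536a80c74e43b271370f41040f3f73df3d93e666931102f01c08e0d502302160638d2b646d2b400e02209700d00509a7d63ff40346e38c1f02222030a56af6b23fc08808108a1bc0fa1e00640c607108940a11611511b14e12603f0404b53fd5a51974a93ce28108250e4df5540152ea1984b91c222e1eb21029b08431758531a7867851ae1af2ec2e72fb3192fc3e331b30357d3ed05105226e4802eb3047ce59c34b04804971870c70b4065a46fb5a107907a5a959d4272fd5d77b55d541548a1f42024884bb4040140a75a20d90df3ec5d60294284053eb3e25a60a309b0a227b1f13b32040a66b06b17d400241400c06d0305af5a840101000f09c09901642630532042041f41e0987d77d5018001000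

/-- root element 7 -/
def t7 : Nat := 0x1417e47e565678a8038048018027f07f279f14442b4531432ae4527311611683f21697ff25c80078712016251c0db7bd7c07e37e21508078087e87e77b97c37c25921a51a65307ae1100f10040960030197a87344177bf4f900873e2ca7cb7ca53f5495447911600be7e07df7ba7e97d057b7ea75c57e7c17e114253e2af03774b64b75d3f128a1a77da5425382ef2cb15f7d365473d78416a3f35435477607fe6c475a55279028925d53b5913bf3be7426c30b07c679b78c0e40e178f65580551313d7ef06005f7a565773c51650352b1a91aa13e10e77a77977815d68068351177277335f5882f935c6780bc0d759855936f3bb32b34435e58757a7307a053753d7b27bc73a79d67f41c7332f359715c5041d65146823585603625737b474a74910f52c4b03f64ff04679453c54a55d7cd7a678257975b72572a3067283277d27575587f776171d71e16c41a1877382d97363130a87392e271c6fa1141382d872e72f72371b3c03b40073723706bc21b0457051480de0bd0c30dd0d60b10f26ee0e30c21527126ff2983663674d470457433c6d402e7222262542256e96db6f36f46dd5151fb6b370914d3233426b96f61540f50f61d74e54c810d50516d41b6dc6f26de6f53343ab2275a04e65bb6fc14f22a2761f91fc5e93d229d4d563c20f4b35c82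2155a79e79355c0cb5942c460956a7155aa0c56ea3a045e2a34590ef6ef08d01b01a08c5da24f3836902f63380b50c00cc0c82510bb48e25523f4de60863d2501da21559f2be2a826218f2c926145648c6ab24148b45545449725254c53248d2424314517757502ad77675964845a28516b3f44db76d45d64944f1a014042a4da45c1a83521e63a25c15bd04111c12361330a3505c627d56c49865165c64665e65864543965b78380678b7a719650a65f43f44064e64c64d7b315e67667e51265d65a2a24965952203311e420169d6ca21e21c26322d20c2c32772c156d19034d3c33d13ca21d4583ac3ae2653c83c722c22323b4573ad2792643cc56259032855e3a737f3692ac33d27a18a66618e5bf37e4ef35649327c4d35c26be69e4610a05c936a54f5f82ce5d21932995e329a4c74d24e96023b51884f14f047d20a2172a62a42a11d81fd3a128c6ce5e839329728d28b5fd5e15e25e05df5de37a3094006ae27f0f003e02505730c2f16003453575cf4cc43030139f33a6056c730f6632ed37517e60a66b55f61138166a3466d54cb5b133e4414632ee39a3473795b909f0124ea3742f83e76bb03a0134f70260540624080420a96d769916e02b05332c55b36176a7555936426c05967de79761d5255101d52f058a58b1d177076357f04326735a58158235b5867bb0761837be76273b22425353655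06fe74c5693683714f32566336613336bd5723353aa3a923d2f74d161e3bd74e5c061b73f6c259a6c57697324844835260b707879c2f45756032c746c6892947407c84ae7a153953a7c77a27ad3593607c97b775e7417985455467ac75f5762c62c819c6885317db1c943642f74777f29038719f0c955558f50d1c61361d313c4af1c71097ec1820ab1d21cb1ca7816f175178964777458e2b507052450b50c65242e10c1c84336e17537804351d44d974443713b4ad4493f57cf1375a728011820056f3495f55f460f4c21744d02915ae5f90e72866d66e403223411938906e06f69f4b132a67967150023a1ef2446cb70060b5fa5634ec4ca47633f5ce5ba4cf1756e35fb38b38825b17b4ee38445b2882872cd44a0b32382164b74b837c0b60c16c83984dd74651f5484fc1cc44311123724321f2491170731dc1be23526024c06922b24e2481dd24b66068b64323630d60d46f2144604706a268769168e03627e08f34e1290675575562680500e21722965f32b727818b2311314344ce10a17a22843823348f49209d09254d2cc46a46846933b3a31e51f25b62bb6074901f66b76776704c067d6b562c62369268d68c7fb7f86841776752b044644543e4bc4fb43c19544d44c43d4ab43a5b764f65044b4444481cd4426594724fe52e50247750638f6855cd52d5091001497fc67232e0270440774223e8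10642513a04c04708b0807586df72c4160f47d14190390312fa0ad2e90cf0d41d02051e81bf1f80ea5a33fb03c0280170943fe0115db0d140200b0064070ae0cd0950ce7454fa67a7a37f47b104f26d26c04b03d02431f31e4245ab0ac0af16f03802a31c0f30aa0d83c21db3022f50d03c13c61b11ab1b22a06cd62f3c93cb1e33c561f3cf62e3d06286273d73cd1ac6303dd3d871a79679556135d7670da29f29c2192c25f771901e01d08711a3af62a62262b6d956756620961a3a63a538546666c5eb6b85cb0e62702ba2665b437d4b21761e718c1f35e738013028e43210b0a109e4c62324e14c552917f3a44c16ac2c55be3926196103994b62725dd5b22b825928f5c45ad31671757071676836e0e826a18d60461857170170211f0e50e074d5995407717643bc76e58058354174f5d060e2ff30034066e33766429e4876312c005b1fa4f223c5b35bc5d17653306eb3393534cd5b86166fd4675ca3416a93512d15686da56b30764034330b42913f59b7664dc1c561c7351531471516ec14c17005c3ea3e91393e104d05505a26b0583733153147272d52de2e15c71f74945d432f6655dc2b333273704e0560613db5cc35435510506c06305941376f5ac5646aa3da5517562295d358c7ab5b55c500900a03b41128404a1042e42e52db7243102df2e03112dc2dd2e32b672971f2d62d73121841032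d233625e2406014bd46b7aa7cc69453454e5353826bf6363b663434c23969819425a46239c19d37847c2da50f09330817817944e7b67f96816172ab2aa2a96972a55f02a75ef6b66445ee3d33b934f6cc3b80865fc5fe7035e647e18154b1891cf4eb52a3763905e55ea5e47b079a4bf4be4e767c2e82082072474f65d948966260c03461562147b6356d10b80681e237b0e939d17d1243ef3ee31836c17348258439b6296206396966934a01bc2d07997f14c42bc3771b421256e6a16f857768a6a469c6ad49c1d949f4991284a649b2811a11b54d64a868668f2cf6a006b5653486244d82bf4ba4a94954a14e347138a47912f0eb1df63862649d6d22f24736d86f96f75786250906c66414a763b62d63a7140f93b72115f14b969a4910742572180856c90fe1fe6370755f23a828328206a40d0b203302063e4f41eb20d5ec6cf6f034a6d040a30e45f0b903539446401f0914d70ff1b70fd1ff1e91ea40c39666d46563f3ce2731a206622e1c249a4a33dc69b24d5ed6e575258d50152151958940e29218043b4ac51851752f50751e5233291b91b31de1c01c140b4a207225f15b1021c40f81ed1b62452581c33d43d615a1011331713c43d577d77e66f7af7dc7dd0641a31e12466745281922b953308419a1991671916534472bd5ff19e19763269561236b39547a6142935f672b12d0fc2d457c51b29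51ce3865c326f12b4c34742b12b24503974c94ed26947f1ad3213e459e6e072d67b7a47f37f519805d05e12c1327ed7f67c57a964a7777541bb1b01591581551561576e83267063247e66d307d6ed32214614542c71132514b14a7fd7fa7b880967332d77c7885204fd42131d7204f85221270f71ae1634783912300ec18616417c11248624a1350dc07b26e66712211d7ee36511e12166807c3b04e24f54a511511672111312a4aa7d974877b6e250838e47551d1071084232fe2e62d31ba1af42d1ee20e1ec1850fb06521a1b81346e66e74183e070a7d85d86b40bf0c712e22f40927136d4e839e36478e70848078d36304071070d1267eb3ba03f3de76b70c0a440f0d30d23ff3d94103f73f96a66c10b45276a50ed08a6ba0ba70e7074b46a70ee7c470f76c6a30c41f52755544b56a80ca4bb20470b7923e53fa4123e651a3df5a172602f01c08e0d502302138d6065b038c46e00509a09b00c00e0227d63f84032b446d1f02224880a56b26af41e0c60710833b129b21019b08808108241d07e07f14e11b12502d02c55342657d20b2134a41bd08950e4df4e00152fd23e20649e2744851e00fa1a42fc5a430378678516516632034b3192fb3175d530431a5a559c0510524813f030531b4203ed2e704804941f7437134275855a26690df0d95d73ec4062ea5a94153e37b548a1f427b2034e44140140a76fb07a07959d3e20294054285a65d63eb0a30970a22021f13b33b20a66b16b07d401840400d06d0305a85af4010010000980160993fd2eb2ec7ce7183fc09c7d77d500201000f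

/-- root element 8 -/
def t8 : Nat := 0x2898028037b47cd7e58078087e47e37e278c53016945d1a53f145a6c316816116242b7e715f7e87440db3f21a61207c27ba7f07f211c8048018007ff7bf7ae7bd2ca14351c1447c315e0bc0030190040967916c46827b953e03780559277a74a3f35435477a825d0467da7ea7c07c17e175c7df57b75d7e97d028a4f916a00880665557e2ae1422cb7e056053b3bf1a725c7c664c7a57a62af53f54954479478f73435853c7571411605385732ef55d7a07310d77d373379f0e10e47fe64b73e67f5144ff16d16c73d73c65750a3f667810d11413f10f7cb77877915c67667e51235b5807717700a876152b0f10b053d55c36659755a30957f35a57976e7425415987bb7be75b74f5131d679b3bc3bb15d42941c13d41775a5425585916567ca64e10e4dc5155037ef0be7605523273be78a78478357a73a72872773772554a79e79036279335c6f46dd05f5054983132d57397382f97362d86de6f51aa41b2e26f26f36dc36e57423301737129833f2230c36e91520c20f20450b10e30dd0bd7040d60de1486f670937036f3681d86ee3c02b33070416db45525345470572272f71d71e4b01c56bb6ff1540f50f66ae71214d3233424d51e63a21a941a06013872372e71c6fa5ae55063d60835235033212320c56c2c21fa5fd29c29e1d748e2a259559f2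3f32b7d27f75590c54de48b4695ce4cd6ef0cb5da37a2ee2155320bb5aa08c01a01b08d6ea1ef6175343382f60cc0c80b50c018b0ef63c2362215945a02273ae4962a35c82412242ad2643ac54c5364572c82be2c42262252653ad26145945826345c44f6487d12626497897754521401a04af1d477f45377645116b2854ae1d54311964e64e54c85b65bf02e15014f5e15f75bb1e74c627618765f65e65865c64643843f65d78274b7b364d1a85166514395cd7496547a778b11068068351165b47220f1da4b32bf61624b2606d86a221d22d24221c22a22c2c127734c27956e3cf3c73c821e48d2c92504973ca3d12c321b1dd48c25219018f3c932c55b36159360360736a6ac6405d22995e229a5bd4c74d24e918c4f14f04c14686d761909d4c036961a26632f27a39c18a6ce18e37e4ef35639b66523227c4d325e2a42a129f20a2174d421937b28b5e35e839929728d28c5e96136665e05de5df3a03443fb6b91bf0ac02602b0533374656152ff4d12ab6bd64f3473792f845b69937539646630f28e38446335366a54e61130066433356956843c66b45e30e30139f5720920136da39433a4026b30240124b803e0620541820a904269e6c73e802505756259032875e76755e6c869f61b7cc74c59a50d4c34da53a23012f1df58858335e07616f5875825817727647b204326c7bc73b7622a82544563a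b71a7975b13673724876312c06d14cb4cc5b95b84f223c1d933935759b5397ad34059679576961d7666c274d4823ef50c0780b77415406d93a75be1746934ec7357a242a7c73bd2f07a17c874e75f5517a37cf76a79c7ac58c5617983596922c56ab2bc6b53a67fd1d21cb1ca32a76d4cf38825b07050b52452542e10c1c83f53f443713b7dc4080f41c943642f65274678875977464717b0e70c958f5555267811c61361d34ad72c32e7451374db4497871c71094334d913c7b74354b74b107225f34e56760c60b5fa18146c54b47833460e2b52cc66e66d0b22380733850b60c16c028074750158d4fb21f24f22b6e55ed5f460f5d029452a17c6bc56a56b29047466c61066238719f58e29560a6051952cd28739801d2341d05a74f739206e06f64244a4f66f167a67250647538e2b01db23523a24e0871192471e92432012480eb24424924c23b1e472b62969b25547b3954732054644796ca62c6236bf0911c003456f40c08026826d5571491720e21762d00e949425148f4eb43b12b4ac4c94926453b42312280a009f4ed2863a56be6092d15c55d34905c133037f1f22295b57fb6855c97f86886876915766f96f767767d67536c68411144d44c43d4b250044128844644543e10b43244843065944444b5b747738f65065a51e5184f81cd4fc44267044051752304f0507f354875308b07704413a16e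4194214220390310270677527206e14230ab75010604c04731e0cf31f0ad0d121621448627f1ff06851b40000b0060070115ab0944070d43e703c0285db0952f50ae0af78052051f7c97ed7f910055618303802a03a2e92fa59e3fe0f00ce26704b03d3020aa0f30d01b123731c0cd0d81ab1ac3c23c13c51b93b86273cc63024a1b23d03c362861f62e62f3c43d43c63cb3d63d56fe7ab73f5467567550da2a63d21fd1f930a4710b90b31170741a369c68a6945753493483a854f53146a3892ed6e32725dd5b22bd19d5ff5f81f75e74bc2965c64935ad37d4b618017e43a4ab0932da27d1883a45294c528f4e15c22ac2c62c737c4615fb3933805eb6b85cb19224017f5c71f331657071770370271b2b245018d61860470157176811f0e50e073261c2f435f5862f373077376353779d5635f93453465c06d630c6d529d4f325663305b1fc3aa3a95cc3543555dc2bb6e62f755f7153353313083365ac5646aa5d433b33e4ea5ba6d433d46260150413e61e6c552c1fb5997401531471516e714c18405c4114131053db04d05505a10305837331531472a2d92e12de5c45b42783512ce3b576533c6fc30604e0560613e15b35bc5d113906c0630593e97265ca3416a93f936035d1f61e55457966b73a300900a03b3ea10404a2842e42e52db71f3112e02df3102dc2dd2e338c3127242d62d772917026b2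d246747d25930b4be4e77af7de62b69038138253568e6266d063556d64168f39e53334319327019e27109e4e80a16fd36d12a4aa7a47b16963835cf2a92aa5780fe3b920e5f269a6c95f11c45f06cc34f6cd0fa6126147165e63974c24d018926f1314ca3865c35e55e45ea7b88094474bd46b6732e62822831dc4dd40b1c138b5f508f60063230d63466101f0ea1de3a12b72b929217348357c2d31771244843e460268b69568668168963e4f45f37c57a952819c2cf1b70fd34d4955776f862247a62a4d74a623d49b63f3ce49c49f4a306424549d4a16396983776c619824d56649a4a72204e33dc6a14a84ba7195f647058b0691d163a6364d663745f46f69d68d68c6977140356a02394d862d63b63862521a5ec2185ee40e6b640d11a1ec2111e06442a51156d21975ef2092072080ec4910320200334a01bc40a1163b734a3296cf3b61eb39a2f201e0903744600b80366ad07f1b42121f81be4a21296636e42f14991281c20842105892736242814a96435657006cb75867167950752f22e4b917d13043410a52e52d5195214fe5096f02a01b81e227e4895d91ea11820017115a3d31c32581591b51ed0f83cd3dd1021ae1af15b3d73d87216e26537aa7ec7fa1a13af19b1a467b4c42b839d25a1a20fb11323e20b66f4bf0e62ba3780756216205fc36b60d6a45fe29338a6600f71273213ee5a34e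e3913763901cf4ce5101751120e826a47e17a54d26e4801bb2d45844247867856747b67fc7f606b16516612c1327f47f57997f17d97547771ad1ba1b61561551581576ed32671132466866707d6e832214614548170632514b14a7db7dd7b079a67c77c32d7514fa51d4252fe6df5025080fc12d1011632911ce58a06a1341644762b11e81e31850dc07b2696d312211d7eb36511e1217e607c2134a41bd3b11fe20d77d19917944e64a77b74877e5224431cc4fd10710841631d2e83181b01333f007e2a725713519a29b0f91b31866eb6ec51a3df70f76c3e66a30bf0c720649e27447c17850f19436478d70c47f78e36304070770b1267ee3ba03f3d97927080a43ff0d20d340f3de4123e53da6a86ba0b450e6a70ed08a6c10ba7137104df6a50ee74370a7d86b40c43b31f15534e06a60ca3b24e470d76b3f73f84105d84183e05a276f02f01c08e0d50230212b446e46d2b660600509a09b00c00e0227d43fa40138d5b048a1f427b0a56af6b24280c60710834a50650661e10880810824851ee0ff14e11b12502d02c5544275851913b04e24f50895274b44b50152fd16712e22f40941d0850862462fc5a53036e072d05d05e32034b3192fb31759c30431a5a45d505205142c42d30531b4153e32e70490484147c470e42657d5a16fb0df0d95a63e23fd2ea3eb4203ed7ce1f022248820220441f0140a766907a0795d63ec0293fc41e5d759d5a90a30970a22032751f54bb0a66b06b17d601871800d06d0305af5a84030010000980160994062eb2ec7b540440509c7d57d700201000f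

/-- root element 9 -/
def t9 : Nat := 0x7aa7e37e265564c7f27ff8007f08028037d27f67cc6847ed7ec6857d37fd7db7dd7de8047a48015117eb7fa7f97ee7d07da7e47e56687e77e88088077df7c17e17f37f47b17f57e967b7927d57d47d77d67f77fe7817ea7993fd7a77fc74a77a7b874174e7937b77137ba7b97e07ae7bd35e7bf57f5877c37c27c97c57a94067b37b435a7dc7a379a7c07a175675f8097b67317cd73d7847f17b079c7ad73073478f7337a274f7af7cf35d76735976a35c7c67d86c335879e78d78e6c465664d64872c77472d6e07a565773c7d17207767216e274832d7ca64e74932977f75978735b58058835f31274264976b76c79573570379773235557b57e5797607617ab73f58358658175777574775a7ac74c6f06f132a6e165279b7c76c575564b7cb77877c75832e6df64770e76e7c86c275e6547a678257a58273631373773976979f79d7667a87a072272378678847b72772672572a72972831172e72f77e78031071c6fa71e71b36047a3fc7017025726387c46f66e870f71074370c70d7087076ff70b70a6ed6e96ee76871671734e70955133639b66971d6916936877126f46f56db6dc7537545aa7047066e66e75da7057116eb6ec3495fb5f577d7517857456dd6de6f26f356a6986996a25fa33926666762d34634a3b65e334f3b856769e69f69a69d2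3974d78c7917406a76446923833345696b36a56ae5cc1f26426976a86bb6af6b06b16b26b962660961a3515d46b46c16a36ba4716a66d769b6416c96ca6c76956a16c86d86d96b562269c6866f86bf6f93a757557662362c6326815775786f76947f87fb67f50a68a52b68351367066f7d954858d67667567867764a65351f50167d67c60f61060c60d5f66fb7e66d35e23312f746f47030030d65e65f65865164644844065d78378b80673e67375065c5cd43977978a80574b67476d78974465b43c6c04956b66a030a49b6345c860863762562b71463b4d74a063e23c68b23d62e3d06306d268c6396206213cb61f6ad63a49c68d69662962a62759a59b5965996ab4655ea4683b54665fc5e15fe38a66d66e5f466b66c5f937c6ac63c5d346d45f5e45343323432ed2cf6125e96146e46d660b30733d66a6e360e2b95f05ec5f23b93b756f5f11f76185fd5e81f318d1896046ce6666135e05df5de5b35d14076ea28051a5d65d75a46a96075c55dc3353a54ea6506b85ac5b21f663d3a44925d24e11cf4b649356b2323811882763413404cd56347218c4902725dd5ca33f46e5a84cc37d5cb3fe6ef3e25af1ea59d59c5d551b5a15a248e2274245a65a561d61e61b3be57361c2a32a23281693bb32c52429467954648927e1eb7717bb75c3e33e475d73a75b7727bc7633ed3ee76473b76268868968e68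f2f45977155705715ed24d3483545c06da6bc3576cb34c34d3505b855b54554433336153d54a56236232732b26826d50b4e04b55436fe2412c82c752a25351055c53c67a54258c5615605525473bf3c014216055d5493bc3bd2f02f32ef48b2c66031942242aa1685085094fe41c68054d17844e4df50c50d58f5185194fd4fc6725175072ae5a35d852252351e41750450567e4ff7ef54b17f4b452552655568252e52f51d4fa5145151384fb6714f851252d52152050250625d5001e927f3b12811d81d74c835635217c4ca17b17a5ce4d328f4bf4d24c74bb4a84a95c455452720f1bf1d61d51d413749d6364a73aa4874e94e633e4c31741815b95ae3534ed1314f14e523136d4aa4d012b3802294e71301801794e44a122f1be4a25c255350e21512a40b42942a3f413c43a43b4c44e24e34d649a1bd3dc1bc4b74ba63549940e4d862463f4a649f4941902366434985c15c64865b527d5a022522653622258b2034d44914094823ef48442d26926e45019d19e72b71938b17538e29538f2913965b76a46626635b06062904472ab2ac61730861561945e39530b2f12ee60546444f45a2f245c2a84544552c445745845143145347e45d52844c44d43d2b143565a46b44544643e1cd1cc43865943044444b6454ab4ac64f44142f42e44910b3f510a45243f4374364813f02ca4af4b041441542042159e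41613a42542641e41f27452c3f613d1063e65164234274283e13ff13940f41049e1e82054b122e4851825db7b54044054013e74033fb4125ab7ce7184003e52843f73f841b4334ae28a1a51a642c48357c57d3eb3ec1053db16e4024183fa5845855a94133d93de3df3d74a43e91043e03cd3dd3c43d43d51b929e3c962f3c83b03d83c76283c33d13cf3cc3c23c13d63ca3c63c554054159853a53b5913655ef6cc5ee6cf61618b2752044f53ce1592642622632be4d52c02456902a95cf5c727a27c30e3012f825a2d02596fc37b37411226a47346339339438428726f47547738c38d4796113750e82b22b530f3926be2c55be4c11e51e65ad60a39a34733a2712ba0e738939937336736836629836e4c517629728b28c3713723703ba36336455a55e71a7707be7987947737b27967905684f076556c4cb4ef6aa5646cd7005655662fd6d06e556d37a6d13092ff6010f55bb5ba5b14d15f72d12b33796d530c2f66fd5d06bd55f6026652ce2bb74677b5905587527775935593253263220f63242d33052fe3022e92fa31a31b3172d431931631531473876f72471f3853a16603384626403454675f830632030330431e3a066134431f34b2fb2fc31c2d539f6643372e657453845b4615395374606002eb2ec2e731d0cd2ea2f52dc2dd2d72de2d82e02df2e22e42e52d60930a82e12e32db2f93183212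d233c39d5ff3301ce19514142b24254f54e5353824561ef1fc2013a92213ab19c0e632f3775f30e91922b43862b633b38744a19f15f51c25246946a5313a64590fe20a20e29f5955942191c42a43d229c29d08518a18e36f36b17747658e28d17e47446c4e817d29336936a3f31a72863912881a83f91c31b84f45d94f658a48f3a22023a32651872605bc3b341d2065b437825e39047f55618318439748055716f6d42793ae3ac3ad2542771dc2704f916a11139e39c0fd1b71d91da26154c2ad23318f22c23b56e24b24c0741dd1e420019b3a821f2342c955019322019163163324e22b6c62351194962382432515bf4c61c04b940a21b24f23a21d4c01e759f48c48d53221c48a2bf23f24420c22a22322d2112a10f91fd0eb4b31291281ed21a0864de2a507f21e1672a61b51b30f827340c3b248827b2c12471d107e2172c215c1f91fa1df5eb5c91f11f05e76b71f51f42c31152121b45895a74f740d22837e37f24811a06a1a40651f80ec24925f0732552564f34f24dc4db4da13b1361ff0695c32cd4434421c61c710c1091ca1cb15d2a028312e12f2304dd4b84a54a312d1273d32822571a32091ec2081ab1ac0fc1011330f71b11b210d1142852893f13f21e11b606408415e2b047c47d2bd2461130fb07506b1402cc5332402b723e4972502995e65b63b429a5e55bd27815b15a26b26c4084c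e4bd50f29228e4ee4ec4eb4bc52929636c4784cf0e21241341032673e805f06011025c59253020b05d05e14514614314453e2af1a01c51fb1861853af15815715615514814714d14c11c12312615215113212c04f15415316316416116253f2cb19610e10f41a4ad1d34224115034d91d21021711ae14b4c94be1c11c21bb14a4c24b22142131ba14e11b17214f1221210db0da11e11d1501251e32370870720ff1ee1a919a39825b16b13e13f1aa1c94344321c81081074193ea3da1701351af0501162a72581b01990662182071ad3233420ac0d00c20b00ab0b50b40ba1de2160672b83883762bc0e00e10b11730e40e507a0bd0d607d12011f0790aa0bc0dd0d50cf0d30d20ad0f30d40952e80bb0c00bf06f0c50c40810c80c70460f20700cb0ca0450de0d70cc0ed01f01e06e0780ef0ee03201d0e30f10ae0af0d10f40f00d80422d90a70a30a20a40a60a509e09209d0a109f09809702201609c09b0190ce0112da0a003503603302108c08d04708208307111821029b1a108908a0c606820d1fe0dc07b07c0df0d90b604c04b19824a1db1170880c10c90b703005b1971e21d00800ea0fa1e01a205905705616c16d16516604e06c05806305a06206104d05305405205110014905c05507707603b04904808b0c30be0390380a902e02d02c02502403704a02a04404303c09009102008f0b302706d02f04104003f02603a02901703102b03e03d01c09a08e0340b90b80b202301a01b09601802809901401501201309401000f00500c00d00800900a00b00600700e003004002001000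

end Cfsg.Agent.Schreier.HeData
end
end

-- part: Schreier/He
section
set_option linter.all false
open scoped Cfsg.Agent.FastGrp

/-! # The Schreier property of the Held group -/

set_option autoImplicit false

namespace Cfsg.Agent.Schreier.He

open Cfsg.Spor Cfsg.Spor.He Cfsg.Agent.SporadicB.HePerm Cfsg.Agent.Schreier.UTFive

/-- the word `12` -/
def w0 : List Gen := [.d,.e,.g,.d,.c,.d,.e,.g,.d,.f,.d,.e,.g,.d,.c,.d,.e,.g,.d]
/-- the word `23` -/
def w1 : List Gen := [.c,.b,.d,.e,.f,.d,.c,.d,.e,.f,.d,.b,.c]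
/-- the word `34` -/
def w2 : List Gen := [.c,.b,.d,.e,.g,.d,.c,.d,.e,.g,.d,.b,.c]
/-- the word `45` -/
def w3 : List Gen := [.b,.d,.e,.f,.d,.c,.d,.e,.f,.d,.g,.d,.e,.f,.d,.c,.d,.e,.f,.d,.b]

/-- the commutator word -/
def cw (a b : List Gen) : List Gen := a ++ (b ++ (a.reverse ++ b.reverse))

/-- the words of the ten root elements -/
def w : Fin 10 → List Gen
  | 0 => w0 | 1 => w1 | 2 => w2 | 3 => w3
  | 4 => cw w0 w1 | 5 => cw w1 w2 | 6 => cw w2 w3
  | 7 => cw w0 (cw w1 w2) | 8 => cw w1 (cw w2 w3) | 9 => cw w0 (cw w1 (cw w2 w3))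

/-- the tables of the ten root elements -/
def tb : Fin 10 → ℕ
  | 0 => HeData.t0 | 1 => HeData.t1 | 2 => HeData.t2 | 3 => HeData.t3 | 4 => HeData.t4
  | 5 => HeData.t5 | 6 => HeData.t6 | 7 => HeData.t7 | 8 => HeData.t8 | 9 => HeData.t9

/-- the table of `i` is the permutation of the word -/
def chkW (i : Fin 10) : Bool := allBelow 2058 fun p => Nat.beq (look (tb i) p) (act (w i) p)

theorem chkW0 : chkW 0 = true := by decide +kernel
theorem chkW1 : chkW 1 = true := by decide +kernel
theorem chkW2 : chkW 2 = true := by decide +kernel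
theorem chkW3 : chkW 3 = true := by decide +kernel

theorem tab_of {i : Fin 10} (h : chkW i = true) (p : Fin 2058) : (((w i).map pm).prod p : Fin 2058) = look (tb i) p := by
  rw [prod_apply]
  exact (Nat.eq_of_beq_eq_true (of_allBelow h p p.2)).symm

/-- the relations on tables -/
def chkR (i j : Fin 10) : Bool :=
  match cm i j with
  | none => allBelow 2058 fun p =>
      Nat.beq (look (tb i) (look (tb j) p)) (look (tb j) (look (tb i) p))
  | some k => allBelow 2058 fun p =>
      Nat.beq (look (tb i) (look (tb j) p)) (look (tb k) (look (tb j) (look (tb i) p)))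

/-- the squares -/
def chkS (i : Fin 10) : Bool := allBelow 2058 fun p => Nat.beq (look (tb i) (look (tb i) p)) p

/-- the list of all indices -/
def idx : List (Fin 10) := [0, 1, 2, 3, 4, 5, 6, 7, 8, 9]

theorem mem_idx (i : Fin 10) : i ∈ idx := by revert i; decide

theorem chkS_all : idx.all chkS = true := by decide +kernel

theorem chkR_lt (i : Fin 10) : idx.all (fun j => decide (j ≤ i) || chkR i j) = true := by
  fin_cases i <;> decide +kernel

theorem chkS_one (i : Fin 10) : chkS i = true := List.all_eq_true.1 chkS_all i (mem_idx i)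

theorem chkR_one {i j : Fin 10} (h : i < j) : chkR i j = true := by
  have h1 := List.all_eq_true.1 (chkR_lt i) j (mem_idx j)
  rw [decide_eq_false (not_le.2 h), Bool.false_or] at h1
  exact h1

theorem rel_tab {i j k : Fin 10} (h : i < j) (hc : cm i j = some k) (p : ℕ) (hp : p < 2058) :
    look (tb i) (look (tb j) p) = look (tb k) (look (tb j) (look (tb i) p)) := by
  have h1 := chkR_one h
  unfold chkR at h1
  rw [hc] at h1
  exact Nat.eq_of_beq_eq_true (of_allBelow h1 p hp)

theorem prod_reverse (a : List Gen) : (a.reverse.map pm).prod = ((a.map pm).prod)⁻¹ := by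
  induction a with
  | nil => exact inv_one.symm
  | cons x a ih =>
    rw [List.reverse_cons, List.map_append, List.prod_append, ih, List.map_cons, List.map_cons, List.prod_cons, List.prod_cons,
      List.map_nil, List.prod_nil, mul_one, mul_inv_rev, pm_inv]

/-- the table of a commutator -/
theorem tab_cw {i j k : Fin 10} (h : i < j) (hc : cm i j = some k) (hw : w k = cw (w i) (w j))
    (hi : ∀ p : Fin 2058, (((w i).map pm).prod p : Fin 2058) = look (tb i) p)
    (hj : ∀ p : Fin 2058, (((w j).map pm).prod p : Fin 2058) = look (tb j) p) (p : Fin 2058) :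
    (((w k).map pm).prod p : Fin 2058) = look (tb k) p := by
  rw [hw, cw, List.map_append, List.map_append, List.map_append, List.prod_append, List.prod_append, List.prod_append,
    prod_reverse, prod_reverse]
  generalize ((w i).map pm).prod = a at hi ⊢
  generalize ((w j).map pm).prod = b at hj ⊢
  have h1 := rel_tab h hc (a⁻¹ (b⁻¹ p) : Fin 2058) (Fin.is_lt _)
  rw [← hj, ← hi, ← hi, ← hj, Equiv.Perm.inv_def, Equiv.Perm.inv_def, Equiv.apply_symm_apply, Equiv.apply_symm_apply] at h1
  exact h1

theorem tab_eq (i : Fin 10) (p : Fin 2058) :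
    (((w i).map pm).prod p : Fin 2058) = look (tb i) p := by
  have h0 := tab_of chkW0
  have h1 := tab_of chkW1
  have h2 := tab_of chkW2
  have h3 := tab_of chkW3
  have h4 := tab_cw (k := 4) (by decide) rfl rfl h0 h1
  have h5 := tab_cw (k := 5) (by decide) rfl rfl h1 h2
  have h6 := tab_cw (k := 6) (by decide) rfl rfl h2 h3
  have h7 := tab_cw (k := 7) (by decide) rfl rfl h0 h5
  have h8 := tab_cw (k := 8) (by decide) rfl rfl h1 h6
  have h9 := tab_cw (k := 9) (by decide) rfl rfl h0 h8
  fin_cases i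
  exacts [h0 p, h1 p, h2 p, h3 p, h4 p, h5 p, h6 p, h7 p, h8 p, h9 p]

/-- the permutations -/
def q (i : Fin 10) : Equiv.Perm (Fin 2058) := ((w i).map pm).prod

theorem q_apply (i : Fin 10) (p : Fin 2058) : ((q i p : Fin 2058) : ℕ) = look (tb i) p := tab_eq i p

theorem cm_symm : ∀ i j : Fin 10, cm i j = cm j i ∧ cm i i = none := by decide +kernel

theorem rel_q : Rel q := by
  have hs : ∀ i, q i * q i = 1 := fun i => by
    apply Equiv.ext; intro p; apply Fin.ext
    rw [Equiv.Perm.mul_apply, q_apply, q_apply, Equiv.Perm.one_apply]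
    exact Nat.eq_of_beq_eq_true (of_allBelow (chkS_one i) p p.2)
  have hn : ∀ i j, i < j → cm i j = none → q i * q j = q j * q i := fun i j hij hc => by
    apply Equiv.ext; intro p; apply Fin.ext
    rw [Equiv.Perm.mul_apply, Equiv.Perm.mul_apply, q_apply, q_apply, q_apply, q_apply]
    have h := chkR_one hij
    unfold chkR at h
    rw [hc] at h
    exact Nat.eq_of_beq_eq_true (of_allBelow h p p.2)
  have hr : ∀ i j k, i < j → cm i j = some k → q i * q j = q k * (q j * q i) := fun i j k hij hc => by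
    apply Equiv.ext; intro p; apply Fin.ext
    rw [Equiv.Perm.mul_apply, Equiv.Perm.mul_apply, Equiv.Perm.mul_apply, q_apply, q_apply,
      q_apply, q_apply, q_apply]
    exact rel_tab hij hc p p.2
  refine ⟨hs, fun i j hc => ?_, fun i j k hc => ?_, fun h => ?_⟩
  · rcases lt_trichotomy i j with h | rfl | h
    · exact hn i j h hc
    · rfl
    · exact (hn j i h ((cm_symm j i).1.trans hc)).symm
  · rcases lt_trichotomy i j with h | rfl | h
    · exact hr i j k h hc
    · exact absurd ((cm_symm i i).2.symm.trans hc) (by simp)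
    · rw [hr j i k h ((cm_symm j i).1.trans hc), ← mul_assoc (q k), hs, one_mul]
  · have h1 := q_apply 9 3
    rw [h, Equiv.Perm.one_apply] at h1
    exact absurd h1 (by decide +kernel)

/-- the ten root elements in the presented Held group -/
def x (i : Fin 10) : Cfsg.Spor.He :=
  ((w i).map fun z => PresentedGroup.mk (coxRelators edges ∪ {r | r ∈ extra}) (FreeGroup.of z)).prod

theorem phi_x (i : Fin 10) : phi (x i) = q i := by
  unfold x q
  rw [map_list_prod, List.map_map]
  congr 1

theorem injective : Function.Injective phi := by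
  have h := Cfsg.Agent.S1695.result
  have : Finite Cfsg.Spor.He := Nat.finite_of_card_ne_zero (by rw [h.2]; norm_num)
  exact (injective_of_card_le h.2.le).1

theorem rel_x : Rel x := by
  have hr := rel_q
  refine ⟨fun i => injective ?_, fun i j hc => injective ?_, fun i j k hc => injective ?_,
    fun h => hr.ne ?_⟩
  · rw [map_mul, phi_x, map_one]; exact hr.sq i
  · rw [map_mul, map_mul, phi_x, phi_x]; exact hr.comm i j hc
  · rw [map_mul, map_mul, map_mul, phi_x, phi_x, phi_x]; exact hr.rel i j k hc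
  · rw [← phi_x, h, map_one]

/-- **The Schreier property of the Held group.** -/
theorem sch : Cfsg.Agent.Schreier.Basic.Sch Cfsg.Spor.He := by
  have h := Cfsg.Agent.S1695.result
  have : Finite Cfsg.Spor.He := Nat.finite_of_card_ne_zero (by rw [h.2]; norm_num)
  have hs : IsSimpleGroup Cfsg.Spor.He := h.1
  refine sch_of_utfive ?_ (m := 3935925) (by decide) (by rw [h.2]; norm_num) rel_x
  intro hc
  have h2 := rel_x.rel 0 1 4 (by decide)
  rw [hc.is_comm.comm (x 0) (x 1)] at h2
  have h3 : x 4 = 1 := mul_eq_right.1 h2.symm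
  have h4 := rel_x.rel 4 6 9 (by decide)
  rw [h3, one_mul, mul_one] at h4
  exact rel_x.ne (mul_eq_right.1 h4.symm)

/-- The form with `IsoHe`. -/
theorem sch_of_iso {G : Type*} [Group G] (h : Cfsg.Spor.IsoHe G) : Cfsg.Agent.Schreier.Basic.Sch G := by
  obtain ⟨e⟩ := h
  exact sch.of_equiv e.symm

end Cfsg.Agent.Schreier.He
end

-- part: Schreier/Tits
section
prune_inst 0x510000000000001220002000100000020003000031c00000000e10208900260040000b00000280002004004000100000000800000000000040010120802242029348010420008780b003100000000000000000000000000000041000000000000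
set_option linter.all false
open scoped Cfsg.Agent.FastGrp

/-!
# The Schreier property of the Tits group

A Sylow 2-subgroup of `²F₄(2)′` (order `2 ^ 11`) is generated by two elements, so its automorphism group is solvable.
-/

set_option autoImplicit false

namespace Cfsg.Agent.Schreier.Tits

open Cfsg.Agent.ChevalleyStructure.Tits.Pack Cfsg.Agent.ChevalleyStructure.Tits.Data
  Cfsg.Agent.ChevalleyStructure.Tits.Sat Cfsg.Agent.ChevalleyStructure.Tits.Final
  Cfsg.Agent.ChevalleyStructure.Tits.Mat Cfsg.Agent.ChevalleyStructure.Tits.Order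
  Cfsg.Agent.ChevalleyStructure.Tits.Main
open Cfsg.Agent.Schreier.Basic Cfsg.Agent.Schreier.Tools Cfsg.Agent.Schreier.TwoGen
open scoped MatrixGroups

/-- further relations, expressing elements as products of squares -/
def sqRels : List (List ℕ × List ℕ) := [
  ([2], [0, 1, 3, 4, 0, 1, 3, 4]),
  ([4], [2, 3, 5, 6, 2, 3, 5, 6]),
  ([6], [1, 7, 1, 7, 1, 7, 7, 7, 1, 7, 7, 7]),
  ([1, 1], [0, 6, 0, 6, 1, 3, 6, 1, 3, 6]),
  ([1, 3], [0, 3, 7, 0, 3, 7, 7, 1, 7, 1]),
  ([1, 5], [1, 7, 1, 7, 2, 5, 7, 0, 2, 5, 7, 0]),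
  ([7, 1], [1, 7, 0, 7, 7, 0, 7, 7, 1, 5, 1, 5]),
  ([1, 0], [0, 1])]

theorem sqRels_ok : sqRels.all chk = true := by decide +kernel

theorem sqRels_lt : sqRels.all (fun p => (p.1.all fun i => Nat.blt i 8) && p.2.all fun i => Nat.blt i 8) = true := by
  decide +kernel

theorem rel_yH {p : List ℕ × List ℕ} (hp : p ∈ sqRels) : (p.1.map yH).prod = (p.2.map yH).prod := by
  have h1 := sqRels_ok
  rw [List.all_eq_true] at h1
  have h2 := sqRels_lt
  rw [List.all_eq_true] at h2
  have h3 := h2 p hp
  rw [Bool.and_eq_true, List.all_eq_true, List.all_eq_true] at h3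
  have h4 : ∀ i ∈ p.1, i < 8 := fun i hi => by
    have := h3.1 i hi; rwa [Nat.blt_eq] at this
  have h5 : ∀ i ∈ p.2, i < 8 := fun i hi => by
    have := h3.2 i hi; rwa [Nat.blt_eq] at this
  have h6 := rel_of_chk (h1 p hp) (fun i hi => by have := h4 i hi; omega) (fun i hi => by have := h5 i hi; omega)
  apply Subtype.ext
  rw [coe_list _ (fun i hi => by have := h4 i hi; omega), coe_list _ (fun i hi => by have := h5 i hi; omega)]
  exact h6

section Abs

variable {Γ : Type*} [Group Γ] {y : ℕ → Γ}

/-- The even part of the group generated by the letters is generated by `y 0`, `y 1 * y 7` modulo squares. -/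
theorem gen_aux (hr : ∀ p ∈ sqRels, (p.1.map y).prod = (p.2.map y).prod) (C : Subgroup Γ) [hCn : C.Normal]
    (hC : C.index = 2) (h0 : y 0 ∈ C) (h1 : y 1 ∉ C) (h2 : y 2 ∈ C) (h3 : y 3 ∉ C) (h4 : y 4 ∈ C) (h5 : y 5 ∉ C)
    (h6 : y 6 ∈ C) (h7 : y 7 ∉ C) :
    V y 0 ⊓ C ≤ Subgroup.closure {y 0, y 1 * y 7} ⊔ sqs (V y 0 ⊓ C) := by
  set T : Subgroup Γ := V y 0 ⊓ C with hT
  set S : Subgroup Γ := Subgroup.closure {y 0, y 1 * y 7} ⊔ sqs T with hS
  have hm : ∀ i < 8, y i ∈ V y 0 := fun i hi => mem_V y (Nat.zero_le i) hi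
  have mm : ∀ a b : Γ, a * b ∈ C ↔ (a ∈ C ↔ b ∈ C) := fun a b => Subgroup.mul_mem_iff_of_index_two hC
  have r2 : y 2 = (y 0 * y 1 * y 3 * y 4) * (y 0 * y 1 * y 3 * y 4) := by
    have := hr ([2], [0, 1, 3, 4, 0, 1, 3, 4]) (by simp only [sqRels, _root_.Cfsg.Agent.Schreier.Tits.sqRels, _root_.List.mem_cons, _root_.Prod.mk.injEq, _root_.List.cons.injEq, _root_.Nat.reduceEqDiff, _root_.and_true, _root_.OfNat.zero_ne_ofNat, _root_.OfNat.one_ne_ofNat, _root_.and_self, _root_.zero_ne_one, _root_.OfNat.ofNat_ne_one, _root_.List.nil_eq, _root_.reduceCtorEq, _root_.List.ne_cons_self, _root_.OfNat.ofNat_ne_zero, _root_.and_false, _root_.one_ne_zero, _root_.List.not_mem_nil, _root_.or_self, _root_.or_false])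
    simpa [mul_assoc] using this
  have r4 : y 4 = (y 2 * y 3 * y 5 * y 6) * (y 2 * y 3 * y 5 * y 6) := by
    have := hr ([4], [2, 3, 5, 6, 2, 3, 5, 6]) (by simp only [sqRels, _root_.Cfsg.Agent.Schreier.Tits.sqRels, _root_.List.mem_cons, _root_.Prod.mk.injEq, _root_.List.cons.injEq, _root_.Nat.reduceEqDiff, _root_.and_true, _root_.OfNat.ofNat_ne_zero, _root_.OfNat.ofNat_ne_one, _root_.and_self, _root_.List.nil_eq, _root_.reduceCtorEq, _root_.List.ne_cons_self, _root_.and_false, _root_.List.not_mem_nil, _root_.or_self, _root_.or_false, _root_.or_true])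
    simpa [mul_assoc] using this
  have r6 : y 6 = (y 1 * y 7) * (y 1 * y 7) * ((y 1 * y 7 * y 7 * y 7) * (y 1 * y 7 * y 7 * y 7)) := by
    have := hr ([6], [1, 7, 1, 7, 1, 7, 7, 7, 1, 7, 7, 7]) (by simp only [sqRels, _root_.Cfsg.Agent.Schreier.Tits.sqRels, _root_.List.mem_cons, _root_.Prod.mk.injEq, _root_.List.cons.injEq, _root_.Nat.reduceEqDiff, _root_.and_true, _root_.one_ne_zero, _root_.OfNat.ofNat_ne_one, _root_.OfNat.one_ne_ofNat, _root_.reduceCtorEq, _root_.and_self, _root_.Nat.succ_ne_self, _root_.List.ne_cons_self, _root_.and_false, _root_.OfNat.ofNat_ne_zero, _root_.List.not_mem_nil, _root_.or_self, _root_.or_false, _root_.or_true])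
    simpa [mul_assoc] using this
  have r11 : y 1 * y 1 = (y 0 * y 6) * (y 0 * y 6) * ((y 1 * y 3 * y 6) * (y 1 * y 3 * y 6)) := by
    have := hr ([1, 1], [0, 6, 0, 6, 1, 3, 6, 1, 3, 6]) (by simp only [sqRels, _root_.Cfsg.Agent.Schreier.Tits.sqRels, _root_.List.mem_cons, _root_.Prod.mk.injEq, _root_.List.cons.injEq, _root_.OfNat.one_ne_ofNat, _root_.List.cons_ne_self, _root_.and_self, _root_.OfNat.ofNat_ne_one, _root_.OfNat.zero_ne_ofNat, _root_.Nat.reduceEqDiff, _root_.one_ne_zero, _root_.reduceCtorEq, _root_.and_false, _root_.Nat.succ_ne_self, _root_.zero_ne_one, _root_.List.nil_eq, _root_.and_true, _root_.OfNat.ofNat_ne_zero, _root_.List.not_mem_nil, _root_.or_self, _root_.or_false, _root_.or_true])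
    simpa only [mul_assoc, _root_.List.map_cons, _root_.List.map_nil, _root_.List.prod_cons, _root_.List.prod_nil, _root_.mul_one] using this
  have r13 : y 1 * y 3 = (y 0 * y 3 * y 7) * (y 0 * y 3 * y 7) * ((y 7 * y 1) * (y 7 * y 1)) := by
    have := hr ([1, 3], [0, 3, 7, 0, 3, 7, 7, 1, 7, 1]) (by simp [sqRels])
    simpa only [mul_assoc, _root_.List.map_cons, _root_.List.map_nil, _root_.List.prod_cons, _root_.List.prod_nil, _root_.mul_one] using this
  have r15 : y 1 * y 5 = (y 1 * y 7) * (y 1 * y 7) * ((y 2 * y 5 * y 7 * y 0) * (y 2 * y 5 * y 7 * y 0)) := by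
    have := hr ([1, 5], [1, 7, 1, 7, 2, 5, 7, 0, 2, 5, 7, 0]) (by simp only [sqRels, _root_.Cfsg.Agent.Schreier.Tits.sqRels, _root_.List.mem_cons, _root_.Prod.mk.injEq, _root_.List.cons.injEq, _root_.OfNat.one_ne_ofNat, _root_.List.cons_ne_self, _root_.and_self, _root_.one_ne_zero, _root_.OfNat.ofNat_ne_one, _root_.Nat.reduceEqDiff, _root_.OfNat.ofNat_ne_zero, _root_.OfNat.zero_ne_ofNat, _root_.reduceCtorEq, _root_.Nat.succ_ne_self, _root_.and_false, _root_.and_true, _root_.zero_ne_one, _root_.List.not_mem_nil, _root_.or_self, _root_.or_false, _root_.or_true])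
    simpa only [mul_assoc, _root_.mul_right_inj, _root_.List.map_cons, _root_.List.map_nil, _root_.List.prod_cons, _root_.List.prod_nil, _root_.mul_one] using this
  have r71 : y 7 * y 1 = (y 1 * y 7) * (((y 0 * y 7 * y 7) * (y 0 * y 7 * y 7)) * ((y 1 * y 5) * (y 1 * y 5))) := by
    have := hr ([7, 1], [1, 7, 0, 7, 7, 0, 7, 7, 1, 5, 1, 5]) (by simp only [sqRels, _root_.Cfsg.Agent.Schreier.Tits.sqRels, _root_.List.mem_cons, _root_.Prod.mk.injEq, _root_.List.cons.injEq, _root_.Nat.reduceEqDiff, _root_.List.cons_ne_self, _root_.and_self, _root_.one_ne_zero, _root_.OfNat.ofNat_ne_one, _root_.OfNat.zero_ne_ofNat, _root_.OfNat.ofNat_ne_zero, _root_.zero_ne_one, _root_.reduceCtorEq, _root_.OfNat.one_ne_ofNat, _root_.Nat.succ_ne_self, _root_.and_true, _root_.and_false, _root_.List.not_mem_nil, _root_.or_self, _root_.or_false, _root_.or_true])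
    simpa only [mul_assoc, _root_.List.map_cons, _root_.List.map_nil, _root_.List.prod_cons, _root_.List.prod_nil, _root_.mul_one] using this
  have r10 : y 1 * y 0 = y 0 * y 1 := by
    have := hr ([1, 0], [0, 1]) (by simp [sqRels])
    simpa only [_root_.List.map_cons, _root_.List.map_nil, _root_.List.prod_cons, _root_.List.prod_nil, _root_.mul_one] using this
  -- membership in `T`
  have memT : ∀ g : Γ, g ∈ V y 0 → g ∈ C → g ∈ T := fun g ha hb => ⟨ha, hb⟩
  have sqS : ∀ g : Γ, g ∈ V y 0 → g ∈ C → g * g ∈ S := fun g ha hb => Subgroup.mem_sup_right (sq_mem ⟨ha, hb⟩)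
  have m0 := hm 0 (by norm_num)
  have m1 := hm 1 (by norm_num)
  have m2 := hm 2 (by norm_num)
  have m3 := hm 3 (by norm_num)
  have m4 := hm 4 (by norm_num)
  have m5 := hm 5 (by norm_num)
  have m6 := hm 6 (by norm_num)
  have m7 := hm 7 (by norm_num)
  have s0 : y 0 ∈ S := Subgroup.mem_sup_left (Subgroup.subset_closure (by simp))
  have s17 : y 1 * y 7 ∈ S := Subgroup.mem_sup_left (Subgroup.subset_closure (by simp))
  have s2 : y 2 ∈ S := by
    rw [r2]
    exact sqS _ (mul_mem (mul_mem (mul_mem m0 m1) m3) m4) (by simp [mm, h0, h1, h3, h4])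
  have s4 : y 4 ∈ S := by
    rw [r4]
    exact sqS _ (mul_mem (mul_mem (mul_mem m2 m3) m5) m6) (by simp [mm, h2, h3, h5, h6])
  have s6 : y 6 ∈ S := by
    rw [r6]
    exact mul_mem (sqS _ (mul_mem m1 m7) (by simp [mm, h1, h7]))
      (sqS _ (mul_mem (mul_mem (mul_mem m1 m7) m7) m7) (by simp [mm, h1, h7]))
  have s11 : y 1 * y 1 ∈ S := by
    rw [r11]
    exact mul_mem (sqS _ (mul_mem m0 m6) (by simp [mm, h0, h6]))
      (sqS _ (mul_mem (mul_mem m1 m3) m6) (by simp [mm, h1, h3, h6]))
  have s13 : y 1 * y 3 ∈ S := by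
    rw [r13]
    exact mul_mem (sqS _ (mul_mem (mul_mem m0 m3) m7) (by simp [mm, h0, h3, h7]))
      (sqS _ (mul_mem m7 m1) (by simp [mm, h1, h7]))
  have s15 : y 1 * y 5 ∈ S := by
    rw [r15]
    exact mul_mem (sqS _ (mul_mem m1 m7) (by simp [mm, h1, h7]))
      (sqS _ (mul_mem (mul_mem (mul_mem m2 m5) m7) m0) (by simp [mm, h2, h5, h7, h0]))
  have s71 : y 7 * y 1 ∈ S := by
    rw [r71]
    exact mul_mem s17 (mul_mem (sqS _ (mul_mem (mul_mem m0 m7) m7) (by simp [mm, h0, h7]))
      (sqS _ (mul_mem m1 m5) (by simp [mm, h1, h5])))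
  -- `y 1` normalises `S`
  have hconj : ∀ x ∈ S, (y 1)⁻¹ * x * y 1 ∈ S := by
    have h8 : S ≤ S.comap (MulAut.conj (y 1)⁻¹).toMonoidHom := by
      refine sup_le ((Subgroup.closure_le _).2 ?_) ?_
      · rintro x (rfl | rfl)
        · show (y 1)⁻¹ * y 0 * (y 1)⁻¹⁻¹ ∈ S
          have : (y 1)⁻¹ * y 0 * (y 1)⁻¹⁻¹ = y 0 := by
            rw [inv_inv, mul_assoc, ← r10, ← mul_assoc, inv_mul_cancel, one_mul]
          rw [this]; exact s0
        · show (y 1)⁻¹ * (y 1 * y 7) * (y 1)⁻¹⁻¹ ∈ S
          have : (y 1)⁻¹ * (y 1 * y 7) * (y 1)⁻¹⁻¹ = y 7 * y 1 := by group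
          rw [this]; exact s71
      · intro x hx
        refine Subgroup.mem_sup_right (conj_sqs (g := (y 1)⁻¹) ?_ hx)
        intro t ht
        exact ⟨(V y 0).mul_mem ((V y 0).mul_mem ((V y 0).inv_mem m1) ht.1) ((V y 0).inv_mem ((V y 0).inv_mem m1)),
          hCn.conj_mem t ht.2 _⟩
    intro x hx
    have := h8 hx
    have h9 : (y 1)⁻¹ * x * (y 1)⁻¹⁻¹ ∈ S := this
    rwa [inv_inv] at h9
  -- `S ∪ y 1 S` is a subgroup
  let W : Subgroup Γ :=
    { carrier := {g | g ∈ S ∨ (y 1)⁻¹ * g ∈ S}
      one_mem' := Or.inl (one_mem _)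
      mul_mem' := by
        rintro g h (hg | hg) (hh | hh)
        · left; exact mul_mem hg hh
        · right
          have : (y 1)⁻¹ * (g * h) = ((y 1)⁻¹ * g * y 1) * ((y 1)⁻¹ * h) := by group
          rw [this]
          exact mul_mem (hconj g hg) hh
        · right
          rw [← mul_assoc]
          exact mul_mem hg hh
        · left
          have : g * h = (y 1 * y 1) * ((y 1)⁻¹ * ((y 1)⁻¹ * g) * y 1) * ((y 1)⁻¹ * h) := by group
          rw [this]
          exact mul_mem (mul_mem s11 (hconj _ hg)) hh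
      inv_mem' := by
        rintro g (hg | hg)
        · left; exact inv_mem hg
        · right
          have : (y 1)⁻¹ * g⁻¹ = ((y 1)⁻¹ * ((y 1)⁻¹ * g)⁻¹ * y 1) * (y 1 * y 1)⁻¹ := by group
          rw [this]
          exact mul_mem (hconj _ (inv_mem hg)) (inv_mem s11) }
  have hVW : V y 0 ≤ W := by
    refine (Subgroup.closure_le _).2 ?_
    rintro _ ⟨i, ⟨-, hi⟩, rfl⟩
    have key : ∀ z : Γ, y 1 * z ∈ S → (y 1)⁻¹ * z ∈ S := by
      intro z hz
      have : (y 1)⁻¹ * z = (y 1 * y 1)⁻¹ * (y 1 * z) := by group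
      rw [this]
      exact mul_mem (inv_mem s11) hz
    interval_cases i
    · exact Or.inl s0
    · right; rw [inv_mul_cancel]; exact one_mem _
    · exact Or.inl s2
    · exact Or.inr (key _ s13)
    · exact Or.inl s4
    · exact Or.inr (key _ s15)
    · exact Or.inl s6
    · exact Or.inr (key _ s17)
  have hSC : S ≤ C := by
    refine sup_le ((Subgroup.closure_le _).2 ?_) ((sqs_le T).trans inf_le_right)
    rintro x (rfl | rfl)
    · exact h0
    · simp [mm, h1, h7]
  intro t ht
  rcases hVW ht.1 with h | h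
  · exact h
  · exfalso
    have h8 := hSC h
    rw [mm] at h8
    exact h1 (inv_mem_iff.1 (h8.2 ht.2))

theorem iff_aux (P X : Prop) : X ↔ ((P ↔ X) ↔ P) := by tauto

theorem parity [Finite Γ] (hr : ∀ p ∈ sqRels, (p.1.map y).prod = (p.2.map y).prod) (hy : Sat y)
    (hgen : Subgroup.closure (y '' {i | i < 10}) = ⊤) (hcard : Nat.card Γ = 35942400)
    (hi : (commutator Γ).index = 2) : y 0 ∈ commutator Γ ∧ y 1 ∉ commutator Γ ∧ y 2 ∈ commutator Γ ∧
      y 3 ∉ commutator Γ ∧ y 4 ∈ commutator Γ ∧ y 5 ∉ commutator Γ ∧ y 6 ∈ commutator Γ ∧ y 7 ∉ commutator Γ := by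
  have mm : ∀ a b : Γ, a * b ∈ commutator Γ ↔ (a ∈ commutator Γ ↔ b ∈ commutator Γ) := fun a b =>
    Subgroup.mul_mem_iff_of_index_two hi
  have h7 : y 7 ∉ commutator Γ := by
    obtain ⟨χ, hχ⟩ := exists_sign hy hgen hcard
    intro h
    have h2 : commutator Γ ≤ χ.ker := Abelianization.commutator_subset_ker χ
    have h3 := h2 h
    rw [MonoidHom.mem_ker, hχ] at h3
    exact absurd h3 (by decide)
  have cc : ∀ n x z : Γ, n * x * n = z → (x ∈ commutator Γ ↔ z ∈ commutator Γ) := by
    rintro n x z rfl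
    rw [mm, mm]
    exact iff_aux _ _
  have e1 := cc _ _ _ (n1_conj hy (j := 1) (by norm_num) (by norm_num))
  have e3 := cc _ _ _ (n1_conj hy (j := 3) (by norm_num) (by norm_num))
  have e5 := cc _ _ _ (n2_conj hy (j := 5) (by norm_num))
  have e0 := cc _ _ _ (n2_conj hy (j := 0) (by norm_num))
  norm_num at e1 e3 e5 e0
  have h1 : y 1 ∉ commutator Γ := fun h => h7 (e1.1 h)
  have h5 : y 5 ∉ commutator Γ := fun h => h1 (e5.1 h)
  have h3 : y 3 ∉ commutator Γ := fun h => h5 (e3.1 h)
  have r2 : y 2 = (y 0 * y 1 * y 3 * y 4) * (y 0 * y 1 * y 3 * y 4) := by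
    have := hr ([2], [0, 1, 3, 4, 0, 1, 3, 4]) (by simp only [sqRels, _root_.Cfsg.Agent.Schreier.Tits.sqRels, _root_.List.mem_cons, _root_.Prod.mk.injEq, _root_.List.cons.injEq, _root_.Nat.reduceEqDiff, _root_.and_true, _root_.OfNat.zero_ne_ofNat, _root_.OfNat.one_ne_ofNat, _root_.and_self, _root_.zero_ne_one, _root_.OfNat.ofNat_ne_one, _root_.List.nil_eq, _root_.reduceCtorEq, _root_.List.ne_cons_self, _root_.OfNat.ofNat_ne_zero, _root_.and_false, _root_.one_ne_zero, _root_.List.not_mem_nil, _root_.or_self, _root_.or_false])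
    simpa [mul_assoc] using this
  have r4 : y 4 = (y 2 * y 3 * y 5 * y 6) * (y 2 * y 3 * y 5 * y 6) := by
    have := hr ([4], [2, 3, 5, 6, 2, 3, 5, 6]) (by simp only [sqRels, _root_.Cfsg.Agent.Schreier.Tits.sqRels, _root_.List.mem_cons, _root_.Prod.mk.injEq, _root_.List.cons.injEq, _root_.Nat.reduceEqDiff, _root_.and_true, _root_.OfNat.ofNat_ne_zero, _root_.OfNat.ofNat_ne_one, _root_.and_self, _root_.List.nil_eq, _root_.reduceCtorEq, _root_.List.ne_cons_self, _root_.and_false, _root_.List.not_mem_nil, _root_.or_self, _root_.or_false, _root_.or_true])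
    simpa [mul_assoc] using this
  have r6 : y 6 = (y 1 * y 7) * (y 1 * y 7) * ((y 1 * y 7 * y 7 * y 7) * (y 1 * y 7 * y 7 * y 7)) := by
    have := hr ([6], [1, 7, 1, 7, 1, 7, 7, 7, 1, 7, 7, 7]) (by simp only [sqRels, _root_.Cfsg.Agent.Schreier.Tits.sqRels, _root_.List.mem_cons, _root_.Prod.mk.injEq, _root_.List.cons.injEq, _root_.Nat.reduceEqDiff, _root_.and_true, _root_.one_ne_zero, _root_.OfNat.ofNat_ne_one, _root_.OfNat.one_ne_ofNat, _root_.reduceCtorEq, _root_.and_self, _root_.Nat.succ_ne_self, _root_.List.ne_cons_self, _root_.and_false, _root_.OfNat.ofNat_ne_zero, _root_.List.not_mem_nil, _root_.or_self, _root_.or_false, _root_.or_true])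
    simpa [mul_assoc] using this
  have sq : ∀ g : Γ, g * g ∈ commutator Γ := fun g => (mm g g).2 Iff.rfl
  have h2 : y 2 ∈ commutator Γ := by rw [r2]; exact sq _
  have h4 : y 4 ∈ commutator Γ := by rw [r4]; exact sq _
  have h6 : y 6 ∈ commutator Γ := by rw [r6]; exact mul_mem (sq _) (sq _)
  exact ⟨e0.2 h6, h1, h2, h3, h4, h5, h6, h7⟩

theorem sch_abs [Finite Γ] (hr : ∀ p ∈ sqRels, (p.1.map y).prod = (p.2.map y).prod) (hy : Sat y)
    (hgen : Subgroup.closure (y '' {i | i < 10}) = ⊤) (hcard : Nat.card Γ = 35942400)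
    (hV : Nat.card (V y 0) = 4096) (hres : (commutator Γ).index = 2 ∧ IsSimpleGroup (commutator Γ) ∧
      ¬ IsMulCommutative (commutator Γ) ∧ Nat.card (commutator Γ) = 2 ^ 11 * 3 ^ 3 * 5 ^ 2 * 13) :
    Sch (commutator Γ) := by
  obtain ⟨hi, hsimple, hnc, hcC⟩ := hres
  obtain ⟨h0, h1, h2, h3, h4, h5, h6, h7⟩ := parity hr hy hgen hcard hi
  have hgen := gen_aux hr (commutator Γ) hi h0 h1 h2 h3 h4 h5 h6 h7
  have mm : ∀ a b : Γ, a * b ∈ commutator Γ ↔ (a ∈ commutator Γ ↔ b ∈ commutator Γ) := fun a b =>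
    Subgroup.mul_mem_iff_of_index_two hi
  have hCn : (commutator Γ).Normal := inferInstance
  set C := commutator Γ with hC
  set U : Subgroup Γ := V y 0 with hU
  -- the order of `U ⊓ C`
  have hUC : Nat.card (U ⊓ C : Subgroup Γ) = 2048 := by
    have h8 : (U ⊓ C).relIndex U = 2 := by
      rw [Subgroup.inf_relIndex_left]
      have h9 : C.relIndex U ∣ C.index := Subgroup.relIndex_dvd_index_of_normal C U
      rw [hi] at h9
      rcases (Nat.dvd_prime Nat.prime_two).1 h9 with h10 | h10
      · exfalso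
        rw [Subgroup.relIndex_eq_one] at h10
        exact h7 (h10 (mem_V y (Nat.zero_le _) (by norm_num)))
      · exact h10
    have h9 := Subgroup.relIndex_mul_relIndex ⊥ (U ⊓ C) U bot_le inf_le_left
    rw [Subgroup.relIndex_bot_left, Subgroup.relIndex_bot_left, h8, hV] at h9
    omega
  let T₀ : Subgroup C := (U ⊓ C).subgroupOf C
  have hT₀ : T₀.map C.subtype = U ⊓ C := by
    rw [Subgroup.subgroupOf_map_subtype]
    exact inf_eq_left.2 inf_le_right
  have hcT₀ : Nat.card T₀ = 2048 := by
    rw [← hUC, ← hT₀]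
    exact Nat.card_congr (T₀.equivMapOfInjective C.subtype C.subtype_injective).toEquiv
  have hfac : (Nat.card C).factorization 2 = 11 := by
    rw [hcC]
    have : (2 ^ 11 * 3 ^ 3 * 5 ^ 2 * 13 : ℕ) = 2 ^ 11 * 8775 := by norm_num
    rw [this, Nat.factorization_mul (by norm_num) (by norm_num), Nat.factorization_pow]
    simp only [Finsupp.add_apply, Finsupp.smul_apply, smul_eq_mul]
    rw [Nat.Prime.factorization_self Nat.prime_two, Nat.factorization_eq_zero_of_not_dvd (by norm_num)]
  have : Fact (Nat.Prime 2) := ⟨Nat.prime_two⟩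
  let T : Sylow 2 C := Sylow.ofCard T₀ (by rw [hcT₀, hfac]; norm_num)
  have hTT : (T : Subgroup C) = T₀ := rfl
  refine Crit.sch_of_sylow hnc T fun D hD hT => ?_
  have ha : (⟨y 0, h0⟩ : C) ∈ (T : Subgroup C) := by
    rw [hTT, Subgroup.mem_subgroupOf]
    exact ⟨mem_V y (Nat.zero_le _) (by norm_num), h0⟩
  have h17 : y 1 * y 7 ∈ C := by
    rw [mm]
    exact ⟨fun h => absurd h h1, fun h => absurd h h7⟩
  have hb : (⟨y 1 * y 7, h17⟩ : C) ∈ (T : Subgroup C) := by
    rw [hTT, Subgroup.mem_subgroupOf]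
    exact ⟨mul_mem (mem_V y (Nat.zero_le _) (by norm_num)) (mem_V y (Nat.zero_le _) (by norm_num)), h17⟩
  refine tr_of_two_gen hD T.2 hT ha hb ?_
  rw [hTT, ← Subgroup.map_le_map_iff_of_injective C.subtype_injective, hT₀, Subgroup.map_sup, MonoidHom.map_closure,
    sqs, MonoidHom.map_closure]
  refine hgen.trans (sup_le_sup (Subgroup.closure_mono ?_) (Subgroup.closure_mono ?_))
  · rintro x (rfl | rfl)
    · exact ⟨⟨y 0, h0⟩, by simp, rfl⟩
    · exact ⟨⟨y 1 * y 7, h17⟩, by simp, rfl⟩
  · rintro _ ⟨t, ht, rfl⟩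
    refine ⟨⟨t, ht.2⟩ * ⟨t, ht.2⟩, ⟨⟨t, ht.2⟩, ?_, rfl⟩, rfl⟩
    rw [Subgroup.mem_subgroupOf]
    exact ht

end Abs

theorem sch_H0 : Sch (commutator H0) :=
  sch_abs (fun _ hp => rel_yH hp) Sat_yH gen_yH card_H0 card_V_yH H0_result

theorem sch_aux (K : Subgroup (GL I52 (ZMod 2))) (hK : K = H0) : Sch (commutator K) := by
  subst hK
  exact sch_H0

/-- The Schreier property of the Tits group. -/
theorem sch : Sch Cfsg.Lie.TitsGroup := sch_aux (Cfsg.Lie.twistedF4 (ZMod 2) 1) T0_eq_H0

end Cfsg.Agent.Schreier.Tits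

private theorem dce_80fe9ca9e4b7 : _root_.True := by
  try have : _root_.True := by simp only [_root_.Cfsg.Agent.Schreier.Tits.sqRels.eq_1]
  exact _root_.True.intro
end

-- part: Schreier/Sz
section
prune_inst 0x41000050005000000000000000000000030000002000000000000000000000000000200013020000210000000200c004003100000420000000a000000000001000000000000000000000000000000000000000000000000000000000000000000000000000
set_option linter.all false
open scoped Cfsg.Agent.FastGrp

/-!
# The Suzuki groups have the Schreier property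
-/

set_option autoImplicit false

namespace Cfsg.Agent.Schreier.Sz

open Cfsg Cfsg.Agent.Schreier.Basic Cfsg.Agent.Schreier.Tools Cfsg.Agent.Schreier.Crit Cfsg.Agent.Schreier.BNField
open Cfsg.Agent.LieRecognition.SzMatrix

variable {F : Type*} [Field F] {θ : F →+* F} {e : ℕ}

/-- The subgroup of the elements `u 0 b`. -/
def zen (H : Good F θ e) : Subgroup ↥(Cfsg.Lie.Sz F e) where
  carrier := {g | ∃ b : F, g = H.u 0 b}
  mul_mem' := by
    rintro _ _ ⟨b, rfl⟩ ⟨c, rfl⟩
    exact ⟨b + c, by rw [H.u_mul]; simp⟩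
  one_mem' := ⟨0, H.u_zero.symm⟩
  inv_mem' := by
    rintro _ ⟨b, rfl⟩
    exact ⟨b, by rw [H.u_inv]; simp⟩

theorem zen_le (H : Good F θ e) : zen H ≤ H.unip := by
  rintro _ ⟨b, rfl⟩
  exact H.u_mem_unip 0 b

theorem mem_zen_iff (H : Good F θ e) {g : ↥(Cfsg.Lie.Sz F e)} : g ∈ zen H ↔ g ∈ H.unip ∧ g * g = 1 := by
  constructor
  · rintro ⟨b, rfl⟩
    refine ⟨H.u_mem_unip 0 b, ?_⟩
    rw [H.u_mul, ← H.u_zero]
    congr 1
    · simp
    · rw [zero_mul, add_zero, H.add_self]
  · rintro ⟨hg, hgg⟩
    obtain ⟨a, b, rfl⟩ := (H.mem_unip_iff g).1 hg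
    rw [H.u_mul, ← H.u_zero] at hgg
    have h1 := (H.u_inj hgg).2
    rw [H.add_self, zero_add, mul_eq_zero] at h1
    have ha : a = 0 := by
      rcases h1 with h1 | h1
      · exact h1
      · exact (map_eq_zero θ).1 h1
    subst ha
    exact ⟨b, rfl⟩

theorem inv_zen (H : Good F θ e) {D : Subgroup (MulAut ↥(Cfsg.Lie.Sz F e))} (hT : Inv D H.unip) : Inv D (zen H) := by
  refine inv_iff.2 fun φ hφ g hg => ?_
  rw [mem_zen_iff] at hg ⊢
  exact ⟨hT.apply_mem hφ hg.1, by rw [← map_mul, hg.2, map_one]⟩

theorem normalizer_unip (H : Good F θ e) (g : ↥(Cfsg.Lie.Sz F e))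
    (hg : g ∈ Subgroup.normalizer (H.unip : Set ↥(Cfsg.Lie.Sz F e))) : g ∈ H.borel := by
  by_contra hcon
  obtain ⟨s, hs, hb⟩ := H.bruhat_sz g hcon
  set b := (s * H.w)⁻¹ * g with hbdef
  -- `b` and `s` normalise, hence `w` does
  have hw : ∀ x ∈ H.unip, H.w⁻¹ * x * H.w ∈ H.unip := by
    intro x hx
    have h1 : H.w = s⁻¹ * g * b⁻¹ := by rw [hbdef]; group
    have h2 : H.w⁻¹ * x * H.w = b * (g⁻¹ * (s * x * s⁻¹) * g) * b⁻¹ := by
      rw [h1]; group
    rw [h2]
    apply H.borel_normalizes b hb
    have h3 : s * x * s⁻¹ ∈ H.unip := mul_mem (mul_mem hs hx) (inv_mem hs)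
    have h4 := (Subgroup.mem_normalizer_iff.1 (inv_mem hg) (s * x * s⁻¹)).1 h3
    rwa [inv_inv] at h4
  have h5 := H.inter_trivial (H.u 1 0) (H.u_mem_unip 1 0) (H.unip_le_borel (hw _ (H.u_mem_unip 1 0)))
  rw [← H.u_zero] at h5
  exact one_ne_zero (H.u_inj h5).1

/-- The torus parameter of an element of the Borel subgroup. -/
def kk (g : ↥(Cfsg.Lie.Sz F e)) : F := g.1.1 0 0

theorem conj_u (H : Good F θ e) (a b c d : F) (k : Fˣ) :
    H.u a b * H.d k * H.u c d * (H.u a b * H.d k)⁻¹ =
      H.u (c * k ^ 2 * (θ k)⁻¹) (d * θ k + a * θ (c * k ^ 2 * (θ k)⁻¹) + (c * k ^ 2 * (θ k)⁻¹) * θ a) := by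
  rw [mul_inv_eq_iff_eq_mul, mul_assoc, H.d_mul_u, ← mul_assoc, ← mul_assoc, H.u_mul, H.u_mul]
  congr 2
  · ring
  · linear_combination (-(c * (k : F) ^ 2 * (θ k)⁻¹ * θ a)) * H.two


theorem kk_eq (H : Good F θ e) (a b : F) (k : Fˣ) : kk (H.u a b * H.d k) = (k : F) :=
  (H.U_mul_D_apply a b k).1

theorem u_mul_zero (H : Good F θ e) (t _s b : F) : (H.u t 0)⁻¹ * H.u t b = H.u 0 b := by
  rw [inv_mul_eq_iff_eq_mul, H.u_mul]
  congr 1
  · simp
  · simp

theorem theta_surjective [Finite F] (θ : F →+* F) : Function.Surjective θ :=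
  Finite.surjective_of_injective θ.injective

/-- The map `k ↦ k² / θ(k)` is onto. -/
theorem exists_sq_div [Finite F] (H : Good F θ e) {c : F} (hc : c ≠ 0) :
    ∃ k : Fˣ, (k : F) ^ 2 * (θ k)⁻¹ = c := by
  have hne : ∀ k : Fˣ, (k : F) ^ 2 * (θ k)⁻¹ ≠ 0 := fun k =>
    mul_ne_zero (pow_ne_zero _ k.ne_zero) (inv_ne_zero (theta_ne_zero θ k))
  let f : Fˣ →* Fˣ :=
    { toFun := fun k => Units.mk0 _ (hne k)
      map_one' := by
        apply Units.ext
        simp
      map_mul' := fun k l => by
        apply Units.ext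
        simp only [Units.val_mul, Units.val_mk0, map_mul, mul_inv]
        ring }
  have hf : Function.Injective f := by
    rw [injective_iff_map_eq_one]
    intro k hk
    have h1 : (k : F) ^ 2 * (θ k)⁻¹ = 1 := congrArg Units.val hk
    rw [mul_inv_eq_one₀ (theta_ne_zero θ k)] at h1
    -- `k² = θ k`, so `θ(k)² = θ(θ k) = k²`
    have h2 : θ (k : F) ^ 2 = θ (k : F) := by
      rw [← map_pow, h1, H.sq, h1]
    have h3 : θ (k : F) = 1 := by
      have h4 := theta_ne_zero θ k
      have h5 : θ (k : F) * θ (k : F) = 1 * θ (k : F) := by rw [← pow_two, h2, one_mul]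
      exact mul_right_cancel₀ h4 h5
    apply Units.ext
    exact θ.injective (by rw [h3, Units.val_one, map_one])
  have hfs : Function.Surjective f := Finite.surjective_of_injective hf
  obtain ⟨k, hk⟩ := hfs (Units.mk0 c hc)
  exact ⟨k, congrArg Units.val hk⟩

theorem closure_eq_top (S : Set F) (h : ∀ c : F, c ≠ 0 → c ∈ S) : AddSubgroup.closure S = ⊤ := by
  rw [AddSubgroup.eq_top_iff']
  intro c
  by_cases hc : c = 0
  · rw [hc]; exact zero_mem _
  · exact AddSubgroup.subset_closure (h c hc)

/-- A perfect group of automorphisms leaving `unip` invariant acts trivially on it. -/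
theorem tr_unip [Finite F] (H : Good F θ e) {D : Subgroup (MulAut ↥(Cfsg.Lie.Sz F e))} (hD : ⁅D, D⁆ = D)
    (hT : Inv D H.unip) : Tr D H.unip := by
  have hZ := inv_zen H hT
  have hB : Inv D (Subgroup.normalizer (H.unip : Set ↥(Cfsg.Lie.Sz F e))) := hT.normalizer
  have hBb : ∀ g ∈ Subgroup.normalizer (H.unip : Set ↥(Cfsg.Lie.Sz F e)), ∃ (a b : F) (k : Fˣ), g = H.u a b * H.d k :=
    fun g hg => (H.mem_borel_iff' g).1 (normalizer_unip H g hg)
  have hborel : ∀ g ∈ H.borel, g ∈ Subgroup.normalizer (H.unip : Set ↥(Cfsg.Lie.Sz F e)) := by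
    intro g hg
    rw [Subgroup.mem_normalizer_iff]
    intro x
    constructor
    · intro hx; exact H.borel_normalizes g hg x hx
    · intro hx
      have := H.borel_normalizes g⁻¹ (inv_mem hg) _ hx
      have h2 : g⁻¹ * (g * x * g⁻¹) * g⁻¹⁻¹ = x := by group
      rwa [h2] at this
  have hconjZ : ∀ b ∈ Subgroup.normalizer (H.unip : Set ↥(Cfsg.Lie.Sz F e)), ∀ y ∈ zen H, b * y * b⁻¹ ∈ zen H := by
    intro b hb y hy
    obtain ⟨a, b', k, rfl⟩ := hBb b hb
    obtain ⟨d, rfl⟩ := hy
    rw [conj_u]
    refine ⟨d * θ k, ?_⟩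
    congr 1
    · simp
    · simp
  have hunip : ∀ g ∈ H.unip, g ∈ Subgroup.normalizer (H.unip : Set ↥(Cfsg.Lie.Sz F e)) := fun g hg =>
    hborel g (H.unip_le_borel hg)
  -- the section `T / Z`
  have h1 : TrMod D H.unip (zen H) := by
    refine trMod_of_field hD hB hT hZ (zen_le H) (fun u hu y hy => hconjZ u (hunip u hu) y hy) hconjZ
      (fun t => H.u t 0) (fun t => H.u_mem_unip t 0) ?_ ?_ ?_
      (fun g => kk g ^ 2 * (θ (kk g))⁻¹) ?_ ?_
    · intro t₁ t₂
      rw [H.u_mul, u_mul_zero H _ 0]
      exact ⟨_, rfl⟩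
    · rintro t ⟨b, hb⟩
      exact (H.u_inj hb).1
    · intro u hu
      obtain ⟨a, b, rfl⟩ := (H.mem_unip_iff u).1 hu
      exact ⟨a, b, u_mul_zero H _ 0 _⟩
    · intro g hg t
      obtain ⟨a, b, k, rfl⟩ := hBb g hg
      rw [kk_eq, conj_u]
      have h2 : (k : F) ^ 2 * (θ k)⁻¹ * t = t * k ^ 2 * (θ k)⁻¹ := by ring
      rw [h2]
      exact ⟨_, u_mul_zero H _ 0 _⟩
    · apply closure_eq_top
      intro c hc
      obtain ⟨k, hk⟩ := exists_sq_div H hc
      refine ⟨H.u 0 0 * H.d k, hborel _ (H.mem_borel_iff' _ |>.2 ⟨_, _, _, rfl⟩), ?_⟩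
      simp only [kk_eq]
      exact hk
  -- the section `Z`
  have h2 : TrMod D (zen H) ⊥ := by
    refine trMod_of_field hD hB hZ (inv_bot D) bot_le ?_ ?_
      (fun t => H.u 0 t) (fun t => ⟨t, rfl⟩) ?_ ?_ ?_
      (fun g => θ (kk g)) ?_ ?_
    · intro u _ y hy
      rw [Subgroup.mem_bot] at hy ⊢
      rw [hy]; group
    · intro u _ y hy
      rw [Subgroup.mem_bot] at hy ⊢
      rw [hy]; group
    · intro t₁ t₂
      rw [H.u_mul, Subgroup.mem_bot, inv_mul_eq_one]
      congr 1
      · simp
      · simp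
    · intro t ht
      rw [Subgroup.mem_bot, ← H.u_zero] at ht
      exact (H.u_inj ht).2
    · rintro u ⟨b, rfl⟩
      exact ⟨b, by rw [inv_mul_cancel]; exact one_mem _⟩
    · intro g hg t
      obtain ⟨a, b, k, rfl⟩ := hBb g hg
      rw [kk_eq, conj_u, Subgroup.mem_bot, inv_mul_eq_one]
      congr 1
      · simp
      · simp [mul_comm]
    · apply closure_eq_top
      intro c hc
      obtain ⟨k, hk⟩ := theta_surjective θ c
      have hk0 : k ≠ 0 := by
        rintro rfl
        rw [map_zero] at hk
        exact hc hk.symm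
      refine ⟨H.u 0 0 * H.d (Units.mk0 k hk0), hborel _ (H.mem_borel_iff' _ |>.2 ⟨_, _, _, rfl⟩), ?_⟩
      simp only [kk_eq]
      exact hk
  refine tr_of_trMod hD ?_ (trMod_bot.1 h2) h1
  apply Group.isSolvable_of_comm
  rintro ⟨_, a, rfl⟩ ⟨_, b, rfl⟩
  apply Subtype.ext
  show H.u 0 a * H.u 0 b = H.u 0 b * H.u 0 a
  rw [H.u_mul, H.u_mul]
  congr 1
  simp [add_comm]

/-- `Sz(2^(2m+1))`, `m ≥ 1`, has the Schreier property. -/
theorem sch [Fintype F] {m : ℕ} (hm : 1 ≤ m) (hF : Fintype.card F = 2 ^ (2 * m + 1)) :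
    Sch ↥(Cfsg.Lie.Sz F (2 ^ (m + 1))) := by
  classical
  have H := good hF
  have hs : IsSimpleGroup ↥(Cfsg.Lie.Sz F (2 ^ (m + 1))) := Cfsg.Agent.S1162.result hm hF
  have hcardU := H.card_unip
  rw [Nat.card_eq_fintype_card (α := F), hF] at hcardU
  have hp : IsPGroup 2 H.unip := IsPGroup.of_card (n := (2 * m + 1) * 2) (by rw [hcardU, ← pow_mul])
  have hcard := (Cfsg.Agent.S1163.result hm hF).1
  have hF8 : 1 ≤ 2 ^ (2 * m) := Nat.one_le_two_pow
  have hpow : 2 ^ (2 * m + 1) = 2 * 2 ^ (2 * m) := by rw [pow_succ, mul_comm]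
  have hidx : ¬ 2 ∣ H.unip.index := by
    have h1 := Subgroup.card_mul_index H.unip
    rw [hcard, hcardU, mul_assoc] at h1
    have h2 := Nat.eq_of_mul_eq_mul_left (by positivity) h1
    rw [h2, ← even_iff_two_dvd, Nat.not_even_iff_odd, hpow]
    apply Odd.mul
    · exact ⟨2 ^ (2 * m) - 1, by omega⟩
    · exact ⟨2 * (2 ^ (2 * m) * 2 ^ (2 * m)), by ring⟩
  have hnc : ¬ IsMulCommutative ↥(Cfsg.Lie.Sz F (2 ^ (m + 1))) := by
    intro h
    have h0 : (1 : F) ≠ 0 := one_ne_zero
    have h1 : H.w * H.u 1 0 = H.u 1 0 * H.w := IsMulCommutative.is_comm.comm _ _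
    have h2 : H.w⁻¹ * H.u 1 0 * H.w = H.u 1 0 := by
      rw [mul_assoc, ← h1]
      group
    have h3 := H.inter_trivial (H.u 1 0) (H.u_mem_unip 1 0) (by rw [h2]; exact H.u_mem_borel 1 0)
    rw [← H.u_zero] at h3
    exact one_ne_zero (H.u_inj h3).1
  refine sch_of_sylow hnc (hp.toSylow hidx) fun D hD hI => ?_
  exact tr_unip H hD hI

/-- The Schreier property for the groups recognised as Suzuki groups. -/
theorem schFor {G : Type*} [Group G] (h : Cfsg.Lie.IsoSuzuki G) : Sch G := by
  obtain ⟨K, i1, i2, m, hm, hK, ⟨e⟩⟩ := h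
  exact Sch.of_equiv e.symm (sch hm hK)

end Cfsg.Agent.Schreier.Sz

private theorem dce_2a446e4b27f9 : _root_.True := by
  try have : _root_.True := by simp only [_root_.Cfsg.Agent.LieRecognition.SzMatrix.theta.congr_simp]
  exact _root_.True.intro
end

-- part: Schreier/Tools3
section
set_option linter.all false
open scoped Cfsg.Agent.FastGrp

/-!
# The normaliser-quotient lemma
-/

set_option autoImplicit false

namespace Cfsg.Agent.Schreier.Tools3

open Cfsg.Agent.Schreier.Basic Cfsg.Agent.Schreier.Tools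

/-- The normaliser of a subgroup of odd index which is a 2-group is solvable. -/
theorem isSolvable_normalizer {A : Type*} [Group A] [Finite A] (S : Subgroup A) (hS : IsPGroup 2 S)
    (hodd : Odd S.index) : Group.IsSolvable (Subgroup.normalizer (S : Set A)) := by
  set N := Subgroup.normalizer (S : Set A) with hN
  have hSN : S ≤ N := Subgroup.le_normalizer
  have h1 : Group.IsSolvable (S.subgroupOf N) := by
    have h2 : IsPGroup 2 (S.subgroupOf N) := hS.comap_subtype
    have : Group.IsNilpotent (S.subgroupOf N) := h2.isNilpotent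
    infer_instance
  have hn : (S.subgroupOf N).Normal := Subgroup.normal_in_normalizer
  have h3 : Group.IsSolvable (N ⧸ S.subgroupOf N) := by
    apply Cfsg.Agent.S0205.result
    have h4 : Nat.card (N ⧸ S.subgroupOf N) = S.relIndex N := rfl
    rw [h4]
    exact Odd.of_dvd_nat hodd (Subgroup.relIndex_dvd_index_of_le hSN)
  exact Group.isSolvable_of_ker_le_range (S.subgroupOf N).subtype (QuotientGroup.mk' (S.subgroupOf N)) (by simp)

variable {K : Type*} [Group K]

/-- The conjugation action of the normaliser of `E` on `E`. -/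
def act (E : Subgroup K) : Subgroup.normalizer (E : Set K) →* MulAut E := E.normalizerMonoidHom

theorem act_apply (E : Subgroup K) (n : Subgroup.normalizer (E : Set K)) (e : E) :
    ((act E n e : E) : K) = n * e * (n : K)⁻¹ := rfl

/-- **Normaliser-quotient lemma**: `T` a Sylow 2-subgroup of `K` normalising `E`, both invariant under the perfect
group `D`; every perfect group of automorphisms of `E` normalising the group `Aut_K(E)` induced by `N_K(E)` lies in
it. Then `D` centralises `E`. -/
theorem tr_of_normalizer [Finite K] {D : Subgroup (MulAut K)} (hD : ⁅D, D⁆ = D) (T : Sylow 2 K)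
    {E : Subgroup K} (hT : Inv D (T : Subgroup K)) (hE : Inv D E)
    (hTE : (T : Subgroup K) ≤ Subgroup.normalizer (E : Set K))
    (hq : ∀ C : Subgroup (MulAut E), ⁅C, C⁆ = C →
      C ≤ Subgroup.normalizer ((act E).range : Set (MulAut E)) → C ≤ (act E).range) : Tr D E := by
  set N := Subgroup.normalizer (E : Set K) with hN
  set A := (act E).range with hA
  set C := hE.res.range with hC
  have hNinv : Inv D N := hE.normalizer
  -- `C` is perfect
  have hCp : ⁅C, C⁆ = C := by
    rw [hC, MonoidHom.range_eq_map, ← Subgroup.map_commutator, top_perfect hD]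
  -- commutation rule
  have hrule : ∀ (φ : D) (n : N), hE.res φ * act E n * (hE.res φ)⁻¹ =
      act E ⟨(φ : MulAut K) n, hNinv.apply_mem φ.2 n.2⟩ := by
    intro φ n
    rw [mul_inv_eq_iff_eq_mul]
    apply MulEquiv.ext
    intro e
    apply Subtype.ext
    show (φ : MulAut K) ((n : K) * (e : K) * (n : K)⁻¹) =
      (φ : MulAut K) n * (φ : MulAut K) e * ((φ : MulAut K) n)⁻¹
    rw [map_mul, map_mul, map_inv]
  have hCA : C ≤ A := by
    apply hq C hCp
    rintro _ ⟨φ, rfl⟩
    rw [Subgroup.mem_normalizer_iff]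
    intro a
    constructor
    · rintro ⟨n, rfl⟩
      rw [hrule]
      exact ⟨_, rfl⟩
    · rintro ⟨n, hn⟩
      have h1 : a = (hE.res φ)⁻¹ * act E n * hE.res φ := by
        rw [hn]; group
      have h2 := hrule φ⁻¹ n
      rw [map_inv, inv_inv] at h2
      rw [h1, h2]
      exact ⟨_, rfl⟩
  -- the Sylow subgroup of `A`
  let f : N →* A := (act E).rangeRestrict
  have hf : Function.Surjective f := MonoidHom.rangeRestrict_surjective _
  set S : Subgroup A := ((T : Subgroup K).subgroupOf N).map f with hS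
  have hSp : IsPGroup 2 S := (T.2.comap_subtype (K := N)).map f
  have hTi : Odd ((T : Subgroup K).subgroupOf N).index := by
    have h1 : (T : Subgroup K).relIndex N ∣ (T : Subgroup K).index := Subgroup.relIndex_dvd_index_of_le hTE
    have h2 : Odd (T : Subgroup K).index := by
      rw [← Nat.not_even_iff_odd, even_iff_two_dvd]
      exact T.not_dvd_index
    exact Odd.of_dvd_nat h2 h1
  have hSi : Odd S.index := Odd.of_dvd_nat hTi (Subgroup.index_map_dvd _ hf)
  have hNS := isSolvable_normalizer S hSp hSi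
  -- `C` normalises `S`
  have hCS : C.subgroupOf A ≤ Subgroup.normalizer (S : Set A) := by
    rintro c hc
    rw [Subgroup.mem_subgroupOf] at hc
    obtain ⟨φ, hφ⟩ := hc
    rw [Subgroup.mem_normalizer_iff]
    have key : ∀ (ψ : D) (d : A), (d : MulAut E) = hE.res ψ → ∀ s ∈ S, d * s * d⁻¹ ∈ S := by
      rintro ψ d hd _ ⟨t, ht, rfl⟩
      rw [SetLike.mem_coe, Subgroup.mem_subgroupOf] at ht
      refine ⟨⟨(ψ : MulAut K) t, hNinv.apply_mem ψ.2 t.2⟩, ?_, ?_⟩
      · rw [SetLike.mem_coe, Subgroup.mem_subgroupOf]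
        exact hT.apply_mem ψ.2 ht
      · apply Subtype.ext
        show act E ⟨(ψ : MulAut K) t, _⟩ = (d : MulAut E) * act E t * (d : MulAut E)⁻¹
        rw [hd, hrule]
    intro s
    constructor
    · exact key φ c hφ.symm s
    · intro hs
      have h1 := key φ⁻¹ c⁻¹ (by rw [map_inv]; show (c : MulAut E)⁻¹ = _; rw [← hφ]) _ hs
      have h2 : c⁻¹ * (c * s * c⁻¹) * c⁻¹⁻¹ = s := by group
      rwa [h2] at h1
  have hCs : Group.IsSolvable (C.subgroupOf A) :=
    Group.isSolvable_of_isSolvable_injective (Subgroup.inclusion_injective hCS)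
  have hCs' : Group.IsSolvable C := by
    refine Group.isSolvable_of_surjective (f := (Subgroup.subgroupOfEquivOfLe hCA).toMonoidHom) ?_
    exact (Subgroup.subgroupOfEquivOfLe hCA).surjective
  exact tr_of_solvable_range hD hE hCs'

/-- A perfect subgroup `C` normalising `A`, with `|N(A) : A|` having at most two prime divisors, lies in `A`. -/
theorem le_of_index_two_primes {G : Type*} [Group G] [Finite G] (A C : Subgroup G) (hC : ⁅C, C⁆ = C)
    (hCA : C ≤ Subgroup.normalizer (A : Set G)) {p q a b : ℕ} (hp : p.Prime) (hq : q.Prime)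
    (hdvd : A.index ∣ p ^ a * q ^ b) : C ≤ A := by
  set N := Subgroup.normalizer (A : Set G) with hN
  have hAN : A ≤ N := Subgroup.le_normalizer
  have hn : (A.subgroupOf N).Normal := Subgroup.normal_in_normalizer
  have hs : Group.IsSolvable (N ⧸ A.subgroupOf N) := by
    have h1 : Nat.card (N ⧸ A.subgroupOf N) ∣ p ^ a * q ^ b :=
      (Subgroup.relIndex_dvd_index_of_le hAN).trans hdvd
    obtain ⟨x, y, h2, h3, h4⟩ := (Nat.dvd_mul).1 h1
    obtain ⟨i, -, rfl⟩ := (Nat.dvd_prime_pow hp).1 h2
    obtain ⟨j, -, rfl⟩ := (Nat.dvd_prime_pow hq).1 h3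
    exact Cfsg.Agent.S0144.result p q i j hp hq h4.symm
  intro c hc
  have h5 := hom_eq_one hC ((QuotientGroup.mk' (A.subgroupOf N)).comp (Subgroup.inclusion hCA)) ⟨c, hc⟩
  have h6 : (⟨c, hCA hc⟩ : N) ∈ A.subgroupOf N := (QuotientGroup.eq_one_iff _).1 h5
  exact h6

/-- Normaliser-quotient lemma, numerical form: `|Aut E| / |N_K(E) : C_K(E)|` has at most two prime divisors. -/
theorem tr_of_card_mulAut [Finite K] {D : Subgroup (MulAut K)} (hD : ⁅D, D⁆ = D) (T : Sylow 2 K)
    {E : Subgroup K} (hT : Inv D (T : Subgroup K)) (hE : Inv D E)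
    (hTE : (T : Subgroup K) ≤ Subgroup.normalizer (E : Set K)) {p q a b : ℕ} (hp : p.Prime) (hq : q.Prime)
    (hdvd : (act E).range.index ∣ p ^ a * q ^ b) : Tr D E :=
  tr_of_normalizer hD T hT hE hTE fun C hC hCN => le_of_index_two_primes _ C hC hCN hp hq hdvd

end Cfsg.Agent.Schreier.Tools3
end

-- part: Schreier/SmallSylow
section
prune_inst 0x430104500140000000000001200002020200000000003000011800102080610210902260070300f02010200a0400a004003100009401000002000020040050000802360c213340d0430008780f803100000000000000000000000000000041000000000000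
set_option linter.all false
open scoped Cfsg.Agent.FastGrp

/-!
# Simple groups with small Sylow 2-subgroups have the Schreier property
-/

set_option autoImplicit false

namespace Cfsg.Agent.Schreier.SmallSylow

open Cfsg.Agent.Schreier.Basic Cfsg.Agent.Schreier.Tools Cfsg.Agent.Schreier.Tools2 Cfsg.Agent.Schreier.Tools3
open Cfsg.Agent.Schreier.Crit

variable {K : Type*} [Group K]

theorem card_mul_relIndex {G : Type*} [Group G] {A B : Subgroup G} (h : B ≤ A) :
    Nat.card B * B.relIndex A = Nat.card A := by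
  have h1 := (B.subgroupOf A).card_mul_index
  rwa [Nat.card_congr (Subgroup.subgroupOfEquivOfLe h).toEquiv] at h1

/-- A perfect group acts trivially on an invariant subgroup of order at most 4. -/
theorem tr_of_card_le_four {D : Subgroup (MulAut K)} (hD : ⁅D, D⁆ = D) {A : Subgroup K} [Finite A]
    (hA : Inv D A) (h : Nat.card A ≤ 4) : Tr D A := by
  rw [← trMod_bot]
  apply trMod_of_relIndex_le_four hD hA (inv_bot D)
  · rw [Subgroup.relIndex_bot_left]; exact Nat.card_pos.ne'
  · rw [Subgroup.relIndex_bot_left]; exact h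

/-- An invariant subgroup `B` of order at most 4 and index at most 4 in `A`. -/
theorem tr_of_card_index {D : Subgroup (MulAut K)} (hD : ⁅D, D⁆ = D) {A B : Subgroup K} [Finite K]
    (hA : Inv D A) (hB : Inv D B) (hBc : Nat.card B ≤ 4) (hi : B.relIndex A ≤ 4) : Tr D A := by
  have hBtr : Tr D B := tr_of_card_le_four hD hB hBc
  have hs : Group.IsSolvable B := by
    have h2 : Nat.card B = 0 ∨ Nat.card B = 1 ∨ Nat.card B = 2 ∨ Nat.card B = 3 ∨ Nat.card B = 4 := by omega
    have h0 : Nat.card B ≠ 0 := Nat.card_pos.ne'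
    have key : ∃ a b : ℕ, Nat.card B = 2 ^ a * 3 ^ b := by
      rcases h2 with h | h | h | h | h
      · exact absurd h h0
      · exact ⟨0, 0, by rw [h]; rfl⟩
      · exact ⟨1, 0, by rw [h]; rfl⟩
      · exact ⟨0, 1, by rw [h]; rfl⟩
      · exact ⟨2, 0, by rw [h]; rfl⟩
    obtain ⟨a, b, hab⟩ := key
    exact Cfsg.Agent.S0144.result 2 3 a b Nat.prime_two Nat.prime_three hab
  exact tr_of_trMod hD hs hBtr
    (trMod_of_relIndex_le_four hD hA hB (Subgroup.index_ne_zero_of_finite (H := B.subgroupOf A)) hi)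

/-- In a non-abelian simple group with abelian Sylow `p`-subgroup `T` no nontrivial element of `T` is central in
`N(T)`. -/
theorem eq_one_of_central_normalizer [Finite K] [IsSimpleGroup K] (hK : ¬ IsMulCommutative K) {p : ℕ}
    [hp : Fact p.Prime] (T : Sylow p K) (hab : ∀ a ∈ T, ∀ b ∈ T, a * b = b * a) {t : K} (ht : t ∈ T)
    (hc : ∀ n ∈ Subgroup.normalizer ((T : Subgroup K) : Set K), n * t = t * n) : t = 1 := by
  have hcomm : IsMulCommutative (T : Subgroup K) := ⟨⟨fun a b => Subtype.ext (hab a a.2 b b.2)⟩⟩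
  let _ : CommGroup (T : Subgroup K) := { (inferInstance : Group (T : Subgroup K)) with
    mul_comm := fun a b => Subtype.ext (hab a a.2 b b.2) }
  have hfi : (T : Subgroup K).FiniteIndex := inferInstance
  let ϕ : K →* (T : Subgroup K) := MonoidHom.transfer (MonoidHom.id (T : Subgroup K))
  have hker : ϕ.ker = ⊤ := by
    rcases (inferInstance : ϕ.ker.Normal).eq_bot_or_eq_top with h | h
    · exfalso
      apply hK
      refine ⟨⟨fun a b => ?_⟩⟩
      have hinj : Function.Injective ϕ := (MonoidHom.ker_eq_bot_iff ϕ).1 h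
      apply hinj
      rw [map_mul, map_mul, mul_comm]
    · exact h
  have key : ∀ (k : ℕ) (g₀ : K), g₀⁻¹ * t ^ k * g₀ ∈ (T : Subgroup K) → g₀⁻¹ * t ^ k * g₀ = t ^ k := by
    intro k g₀ hk
    obtain ⟨n, hn, h1⟩ := Sylow.conj_eq_normalizer_conj_of_mem T (t ^ k) g₀ (pow_mem ht k) hk
    rw [h1]
    have h2 : n * t ^ k = t ^ k * n := (show Commute n t from hc n hn).pow_right k
    rw [mul_assoc, ← h2]
    group
  have h1 := MonoidHom.transfer_eq_pow (MonoidHom.id (T : Subgroup K)) t key
  have h2 : ϕ t = 1 := by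
    rw [← MonoidHom.mem_ker, hker]; exact Subgroup.mem_top t
  have h3 : t ^ (T : Subgroup K).index = 1 := by
    have h4 : (⟨t ^ (T : Subgroup K).index, MonoidHom.transfer_eq_pow_aux t key⟩ : (T : Subgroup K)) = 1 := by
      rw [← h2]; exact h1.symm
    exact congrArg Subtype.val h4
  -- `t` has `p`-power order
  obtain ⟨m, hm⟩ := T.2 ⟨t, ht⟩
  have h5 : t ^ p ^ m = 1 := congrArg Subtype.val hm
  have h6 := Nat.dvd_gcd (orderOf_dvd_of_pow_eq_one h3) (orderOf_dvd_of_pow_eq_one h5)
  have h7 : Nat.Coprime (T : Subgroup K).index (p ^ m) :=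
    Nat.Coprime.pow_right m ((Nat.Prime.coprime_iff_not_dvd hp.out).2 T.not_dvd_index).symm
  rw [Nat.Coprime.gcd_eq_one h7, Nat.dvd_one, orderOf_eq_one_iff] at h6
  exact h6

/-- The automorphism group of an elementary abelian group of order 8 has order 168. -/
theorem card_mulAut_eight {V : Type*} [CommGroup V] (hpow : ∀ x : V, x ^ 2 = 1) (hc : Nat.card V = 8) :
    Nat.card (MulAut V) = 168 := by
  have : Fact (Nat.Prime 2) := ⟨Nat.prime_two⟩
  obtain ⟨e⟩ := Cfsg.Agent.Lib.ElemAbGL.mulAut_equiv_GL (V := V) 2 3 hpow (by rw [hc]; rfl)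
  rw [Nat.card_congr e.toEquiv, Matrix.card_GL_field]
  simp [Fin.prod_univ_succ]

/-- A simple group whose Sylow 2-subgroups have order 4. -/
theorem sch_of_card_four [Finite K] [IsSimpleGroup K] (hK : ¬ IsMulCommutative K) (T : Sylow 2 K)
    (h : Nat.card T ≤ 4) : Sch K :=
  sch_of_sylow hK T fun _ hD hT => tr_of_card_le_four hD hT h

/-- The subgroup generated by the squares of an invariant subgroup is invariant. -/
theorem inv_squares {D : Subgroup (MulAut K)} {A : Subgroup K} (hA : Inv D A) :
    Inv D (Subgroup.closure {x : K | ∃ a ∈ A, x = a * a}) := by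
  apply Inv.closure
  rintro φ hφ _ ⟨a, ha, rfl⟩
  exact ⟨φ a, hA.apply_mem hφ ha, map_mul φ a a⟩

/-- **Sylow 2-subgroups of order 8.** -/
theorem sch_of_card_eight [Finite K] [IsSimpleGroup K] (hK : ¬ IsMulCommutative K) (T : Sylow 2 K)
    (h8 : Nat.card T = 8) : Sch K := by
  refine sch_of_sylow hK T fun D hD hT => ?_
  have h8' : Nat.card (T : Subgroup K) = 8 := h8
  by_cases hab : ∀ a ∈ T, ∀ b ∈ T, a * b = b * a
  · by_cases hexp : ∀ a ∈ T, a * a = 1
    · -- elementary abelian
      let _ : CommGroup (T : Subgroup K) := { (inferInstance : Group (T : Subgroup K)) with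
        mul_comm := fun a b => Subtype.ext (hab a a.2 b b.2) }
      have hc168 : Nat.card (MulAut (T : Subgroup K)) = 168 :=
        card_mulAut_eight (V := (T : Subgroup K))
          (fun x => by rw [pow_two]; exact Subtype.ext (hexp x x.2)) h8'
      set A := (act (T : Subgroup K)).range with hA
      -- `|A|` is odd
      have hAodd : Odd (Nat.card A) := by
        have h1 : (T : Subgroup K).subgroupOf (Subgroup.normalizer ((T : Subgroup K) : Set K)) ≤
            (act (T : Subgroup K)).ker := by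
          intro n hn
          rw [MonoidHom.mem_ker]
          apply MulEquiv.ext
          intro e
          apply Subtype.ext
          have hnT : (n : K) ∈ (T : Subgroup K) := Subgroup.mem_subgroupOf.1 hn
          rw [act_apply, MulAut.one_apply, hab n hnT e e.2]
          group
        have h2 : Nat.card A = (act (T : Subgroup K)).ker.index := by
          rw [Subgroup.index_ker]
        rw [h2]
        have h3 : (act (T : Subgroup K)).ker.index ∣
            ((T : Subgroup K).subgroupOf (Subgroup.normalizer ((T : Subgroup K) : Set K))).index :=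
          Subgroup.index_dvd_of_le h1
        have h4 : Odd ((T : Subgroup K).subgroupOf (Subgroup.normalizer ((T : Subgroup K) : Set K))).index := by
          have h5 : (T : Subgroup K).relIndex (Subgroup.normalizer ((T : Subgroup K) : Set K)) ∣
              (T : Subgroup K).index := Subgroup.relIndex_dvd_index_of_le Subgroup.le_normalizer
          have h6 : Odd (T : Subgroup K).index := by
            rw [← Nat.not_even_iff_odd, even_iff_two_dvd]
            exact T.not_dvd_index
          exact Odd.of_dvd_nat h6 h5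
        exact Odd.of_dvd_nat h4 h3
      have hAdvd : Nat.card A ∣ 168 := hc168 ▸ A.card_subgroup_dvd_card
      -- `7 ∣ |A|`
      have h7 : 7 ∣ Nat.card A := by
        by_contra h7
        -- then `|A|` is 1 or 3
        have h3 : Nat.card A ∣ 3 := by
          have h1 : Nat.card A ∣ 168 := hAdvd
          have h2 : (Nat.card A).Coprime 56 := by
            rw [show (56 : ℕ) = 2 ^ 3 * 7 by norm_num]
            exact Nat.Coprime.mul_right (Nat.Coprime.pow_right 3 (Nat.coprime_two_right.mpr hAodd))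
              ((Nat.Prime.coprime_iff_not_dvd (by norm_num)).2 h7).symm
          rw [show (168 : ℕ) = 56 * 3 by norm_num] at h1
          exact h2.dvd_of_dvd_mul_left h1
        have hp3 : IsPGroup 3 A := by
          rcases (Nat.dvd_prime Nat.prime_three).1 h3 with h | h
          · exact IsPGroup.of_card (n := 0) (by rw [h]; rfl)
          · exact IsPGroup.of_card (n := 1) (by rw [h]; rfl)
        have : Fact (Nat.Prime 3) := ⟨Nat.prime_three⟩
        have hmod := hp3.card_modEq_card_fixedPoints (T : Subgroup K)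
        rw [h8'] at hmod
        -- a nontrivial fixed point
        have h1 : Nat.card (MulAction.fixedPoints A (T : Subgroup K)) ≠ 1 := by
          intro h
          rw [h] at hmod
          revert hmod
          decide
        have hone : (1 : (T : Subgroup K)) ∈ MulAction.fixedPoints A (T : Subgroup K) := by
          intro a
          exact map_one (a : MulAut (T : Subgroup K))
        obtain ⟨x, hx, hx1⟩ : ∃ x ∈ MulAction.fixedPoints A (T : Subgroup K), x ≠ 1 := by
          by_contra hcon
          push Not at hcon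
          apply h1
          rw [Nat.card_eq_one_iff_unique]
          refine ⟨⟨fun a b => Subtype.ext ((hcon a a.2).trans (hcon b b.2).symm)⟩, ⟨⟨1, hone⟩⟩⟩
        apply hx1
        apply Subtype.ext
        apply eq_one_of_central_normalizer hK T hab x.2
        intro n hn
        have h2 := hx ⟨act (T : Subgroup K) ⟨n, hn⟩, ⟨n, hn⟩, rfl⟩
        have h3 : n * (x : K) * n⁻¹ = x := congrArg Subtype.val h2
        rw [mul_inv_eq_iff_eq_mul] at h3
        exact h3
      -- index of `A`
      have hidx : A.index ∣ 2 ^ 3 * 3 ^ 1 := by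
        have h1 := A.card_mul_index
        rw [hc168] at h1
        obtain ⟨k, hk⟩ := h7
        rw [hk, show (168 : ℕ) = 7 * 24 by norm_num, mul_assoc] at h1
        have h2 := Nat.eq_of_mul_eq_mul_left (by norm_num : 0 < 7) h1
        exact ⟨k, by rw [show (2 : ℕ) ^ 3 * 3 ^ 1 = 24 by norm_num, ← h2, mul_comm]⟩
      exact tr_of_card_mulAut hD T hT hT Subgroup.le_normalizer Nat.prime_two Nat.prime_three hidx
    · -- abelian, not elementary: squares
      push Not at hexp
      obtain ⟨a, ha, ha2⟩ := hexp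
      set B : Subgroup K := Subgroup.closure {x : K | ∃ a ∈ (T : Subgroup K), x = a * a} with hB
      have hBinv : Inv D B := inv_squares hT
      have hBT : B ≤ (T : Subgroup K) := by
        rw [hB, Subgroup.closure_le]
        rintro _ ⟨b, hb, rfl⟩
        exact mul_mem hb hb
      have hdvd : Nat.card B ∣ 8 := h8' ▸ Subgroup.card_dvd_of_le hBT
      have h1 : Nat.card B ≠ 1 := by
        intro h
        rw [Subgroup.card_eq_one] at h
        apply ha2
        have : a * a ∈ B := Subgroup.subset_closure ⟨a, ha, rfl⟩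
        rwa [h, Subgroup.mem_bot] at this
      -- squaring is not injective, so `B ≠ T`
      have h2 : Nat.card B ≠ 8 := by
        intro h
        have hBeq : B = (T : Subgroup K) := Subgroup.eq_of_le_of_card_ge hBT (by rw [h, h8'])
        let _ : CommGroup (T : Subgroup K) := { (inferInstance : Group (T : Subgroup K)) with
          mul_comm := fun a b => Subtype.ext (hab a a.2 b b.2) }
        let f : (T : Subgroup K) →* (T : Subgroup K) := powMonoidHom 2
        have hsurj : Function.Surjective f := by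
          have h3 : (f.range).map (T : Subgroup K).subtype = (T : Subgroup K) := by
            apply le_antisymm (Subgroup.map_subtype_le _)
            conv_lhs => rw [← hBeq]
            rw [hB, Subgroup.closure_le]
            rintro _ ⟨b, hb, rfl⟩
            refine ⟨⟨b * b, mul_mem hb hb⟩, ⟨⟨b, hb⟩, ?_⟩, rfl⟩
            apply Subtype.ext
            show ((⟨b, hb⟩ : (T : Subgroup K)) ^ 2 : (T : Subgroup K)).1 = b * b
            rw [pow_two]
            rfl
          intro y
          have h4 : (y : K) ∈ (f.range).map (T : Subgroup K).subtype := by rw [h3]; exact y.2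
          obtain ⟨z, ⟨w, rfl⟩, hz⟩ := h4
          exact ⟨w, Subtype.ext hz⟩
        have hinj : Function.Injective f := Finite.injective_iff_surjective.2 hsurj
        -- but there is an involution
        have : Fact (Nat.Prime 2) := ⟨Nat.prime_two⟩
        obtain ⟨u, hu⟩ := exists_prime_orderOf_dvd_card' (G := (T : Subgroup K)) 2
          (by rw [h8']; norm_num)
        have h5 : f u = f 1 := by
          show u ^ 2 = 1 ^ 2
          have h7 := pow_orderOf_eq_one u
          rw [hu] at h7
          rw [one_pow]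
          exact h7
        have h6 := hinj h5
        rw [h6, orderOf_one] at hu
        norm_num at hu
      have h3 : Nat.card B = 2 ∨ Nat.card B = 4 := by
        have h4 : Nat.card B ∈ Nat.divisors 8 := Nat.mem_divisors.2 ⟨hdvd, by norm_num⟩
        have h5 : Nat.divisors 8 = {1, 2, 4, 8} := by decide
        rw [h5] at h4
        simp only [Finset.mem_insert, Finset.mem_singleton] at h4
        tauto
      have h4 : B.relIndex (T : Subgroup K) ≤ 4 := by
        have h5 := card_mul_relIndex hBT
        rw [h8'] at h5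
        rcases h3 with h | h <;> rw [h] at h5 <;> omega
      exact tr_of_card_index hD hT hBinv (by rcases h3 with h | h <;> omega) h4
  · -- non-abelian: the centre
    push Not at hab
    obtain ⟨a, ha, b, hb, hne⟩ := hab
    set B : Subgroup K := (T : Subgroup K) ⊓ Subgroup.centralizer ((T : Subgroup K) : Set K) with hB
    have hBinv : Inv D B := hT.center
    have hBT : B ≤ (T : Subgroup K) := inf_le_left
    have hdvd : Nat.card B ∣ 8 := h8' ▸ Subgroup.card_dvd_of_le hBT
    have h2 : Nat.card B ≠ 8 := by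
      intro h
      have hBeq : B = (T : Subgroup K) := Subgroup.eq_of_le_of_card_ge hBT (by rw [h, h8'])
      have h3 : a ∈ B := by rw [hBeq]; exact ha
      exact hne ((Subgroup.mem_centralizer_iff.1 h3.2 b hb).symm)
    have h1 : Nat.card B ≠ 1 := by
      intro h
      have : Fact (Nat.Prime 2) := ⟨Nat.prime_two⟩
      have hnt : Nontrivial (T : Subgroup K) := ⟨⟨⟨a, ha⟩, ⟨b, hb⟩, fun h => hne (by
        have h' : a = b := congrArg Subtype.val h
        rw [h'])⟩⟩
      have h3 := T.2.center_nontrivial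
      obtain ⟨z, hz⟩ := exists_ne (1 : Subgroup.center (T : Subgroup K))
      apply hz
      apply Subtype.ext
      apply Subtype.ext
      have h4 : ((z : (T : Subgroup K)) : K) ∈ B := by
        refine Subgroup.mem_inf.2 ⟨(z : (T : Subgroup K)).2, ?_⟩
        rw [Subgroup.mem_centralizer_iff]
        intro x hx
        exact congrArg Subtype.val (Subgroup.mem_center_iff.1 z.2 ⟨x, hx⟩)
      rw [Subgroup.card_eq_one] at h
      rw [h, Subgroup.mem_bot] at h4
      exact h4
    have h3 : Nat.card B = 2 ∨ Nat.card B = 4 := by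
      have h4 : Nat.card B ∈ Nat.divisors 8 := Nat.mem_divisors.2 ⟨hdvd, by norm_num⟩
      have h5 : Nat.divisors 8 = {1, 2, 4, 8} := by decide
      rw [h5] at h4
      simp only [Finset.mem_insert, Finset.mem_singleton] at h4
      tauto
    have h4 : B.relIndex (T : Subgroup K) ≤ 4 := by
      have h5 := card_mul_relIndex hBT
      rw [h8'] at h5
      rcases h3 with h | h <;> rw [h] at h5 <;> omega
    exact tr_of_card_index hD hT hBinv (by rcases h3 with h | h <;> omega) h4

end Cfsg.Agent.Schreier.SmallSylow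
end
end
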