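import Mathlib
import Cfsg.Prelude.Def_LieExceptional
import Cfsg.Agent.Schreier.BNSch
import Cfsg.Agent.Schreier.BNField
set_option linter.all false

/-!
# Convenient forms of the Schreier theorem for groups with a (B, N)-pair
-/

set_option autoImplicit false

namespace Cfsg.Agent.Schreier.BNUse

open Cfsg.Agent.Schreier.Basic Cfsg.Agent.Schreier.Tools Cfsg.Agent.Schreier.BNSch Cfsg.Agent.Schreier.BNField

variable {K : Type*} [Group K]

/-- A `p`-subgroup of index prime to `p` in its normaliser is a Sylow subgroup. -/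
theorem exists_sylow [Finite K] {p : ℕ} [hp : Fact p.Prime] (U : Subgroup K) (hU : IsPGroup p U)
    (h : ¬ p ∣ U.relIndex (Subgroup.normalizer (U : Set K))) : ∃ S : Sylow p K, (S : Subgroup K) = U := by
  obtain ⟨n, hn⟩ := hU.exists_card_eq
  have h1 : ¬ p ^ (n + 1) ∣ Nat.card K := fun h2 => h (Sylow.prime_dvd_card_quotient_normalizer h2 hn)
  have h2 : ¬ p ∣ U.index := by
    intro h3
    apply h1
    rw [← U.card_mul_index, hn, pow_succ]
    exact Nat.mul_dvd_mul_left _ h3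
  exact ⟨hU.toSylow h2, rfl⟩

/-- The core of `B` in a simple group. -/
theorem core_eq_bot [IsSimpleGroup K] (P : Cfsg.BNPair K) (hS : P.S.Nonempty) : P.B.normalCore = ⊥ := by
  rcases (Subgroup.normalCore_normal P.B).eq_bot_or_eq_top with h | h
  · exact h
  · exfalso
    obtain ⟨s, hs⟩ := hS
    apply not_mem_B P hs
    have h1 := P.B.normalCore_le
    rw [h] at h1
    exact h1 (Subgroup.mem_top s)

/-- **The Schreier property for groups with a (B, N)-pair**, `U` not assumed to be a Sylow subgroup. -/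
theorem sch_of_bn' [Finite K] (P : Cfsg.BNPair K) {p : ℕ} [hp : Fact p.Prime] (U : Subgroup K) (hUp : IsPGroup p U)
    (hcore : P.B.normalCore = ⊥)
    (hUB : U ≤ P.B) (hBU : ∀ b ∈ P.B, ∀ u ∈ U, b * u * b⁻¹ ∈ U)
    (hUN : ∀ b ∈ P.B, ∃ u ∈ U, u⁻¹ * b ∈ P.N)
    (m : ℕ) (hm : ¬ p ∣ m) (hH : ∀ h ∈ P.B, h ∈ P.N → h ^ m = 1)
    (hperm : ∀ D : Subgroup (MulAut K), ⁅D, D⁆ = D → Inv D P.B → ∀ s ∈ P.S, Inv D (P.parabolic {s}))
    (hloc : ∀ s ∈ P.S, ∃ V : Subgroup K, Node P U s V ∧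
      ∀ D : Subgroup (MulAut K), ⁅D, D⁆ = D → Inv D U → Inv D P.B → Inv D (P.parabolic {s}) →
        Inv D V → TrMod D U V) : Sch K := by
  have hB : Subgroup.normalizer (U : Set K) = P.B := by
    refine normalizer_eq P _ hUB hBU fun s hs => ?_
    obtain ⟨V, hV, -⟩ := hloc s hs
    obtain ⟨u, hu, huV⟩ := hV.ne
    exact ⟨u, hu, fun h => huV (hV.stab u hu h)⟩
  have hcop : ¬ p ∣ U.relIndex (Subgroup.normalizer (U : Set K)) := by
    rw [hB]
    intro h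
    have hn : (U.subgroupOf P.B).Normal := by
      constructor
      intro u hu b
      rw [Subgroup.mem_subgroupOf] at hu ⊢
      exact hBU b b.2 u hu
    have h1 : p ∣ Nat.card (P.B ⧸ U.subgroupOf P.B) := h
    obtain ⟨x, hx⟩ := exists_prime_orderOf_dvd_card' p h1
    induction x using QuotientGroup.induction_on with
    | H b =>
      obtain ⟨u, hu, hun⟩ := hUN b b.2
      have h2 : u⁻¹ * (b : K) ∈ P.B := mul_mem (inv_mem (hUB hu)) b.2
      have h3 : (QuotientGroup.mk b : P.B ⧸ U.subgroupOf P.B) = QuotientGroup.mk (⟨u⁻¹ * b, h2⟩ : P.B) := by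
        rw [QuotientGroup.eq, Subgroup.mem_subgroupOf]
        show (b : K)⁻¹ * (u⁻¹ * b) ∈ U
        have h4 := hBU (b : K)⁻¹ (inv_mem b.2) _ (inv_mem hu)
        rw [inv_inv] at h4
        rwa [← mul_assoc]
      have h4 : (QuotientGroup.mk b : P.B ⧸ U.subgroupOf P.B) ^ m = 1 := by
        rw [h3, ← QuotientGroup.mk_pow]
        have h5 : (⟨u⁻¹ * b, h2⟩ : P.B) ^ m = 1 := by
          apply Subtype.ext
          exact hH _ h2 hun
        rw [h5]
        rfl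
      exact hm (hx ▸ orderOf_dvd_of_pow_eq_one h4)
  obtain ⟨S, rfl⟩ := exists_sylow U hUp hcop
  exact sch_of_bn P S hcore hUB hBU hUN hperm hloc

/-- The nonzero squares of a finite field generate its additive group. -/
theorem closure_sq (F : Type*) [Field F] [Finite F] :
    AddSubgroup.closure {c : F | ∃ t : F, t ≠ 0 ∧ c = t ^ 2} = ⊤ := by
  rw [AddSubgroup.eq_top_iff']
  intro x
  have hsq : ∀ t : F, t ^ 2 ∈ AddSubgroup.closure {c : F | ∃ t : F, t ≠ 0 ∧ c = t ^ 2} := by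
    intro t
    by_cases ht : t = 0
    · rw [ht, zero_pow two_ne_zero]; exact zero_mem _
    · exact AddSubgroup.subset_closure ⟨t, ht, rfl⟩
  by_cases h2 : ringChar F = 2
  · have hc : CharP F 2 := by rw [← h2]; exact ringChar.charP F
    have : Function.Surjective (frobenius F 2) := by
      have := Fact.mk Nat.prime_two
      exact Finite.injective_iff_surjective.1 (frobenius F 2).injective
    obtain ⟨t, rfl⟩ := this x
    exact hsq t
  · have h2' : (2 : F) ≠ 0 := Ring.two_ne_zero h2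
    have h3 : x = ((x + 1) / 2) ^ 2 - ((x - 1) / 2) ^ 2 := by
      field_simp
      ring
    rw [h3]
    exact sub_mem (hsq _) (hsq _)

/-- Field lemma, with the scalars given by existence statements and the squares among them. -/
theorem trMod_of_field_sq {D : Subgroup (MulAut K)} (hD : ⁅D, D⁆ = D) {B X Y : Subgroup K} (hB : Inv D B)
    (hX : Inv D X) (hY : Inv D Y) (hYX : Y ≤ X) (hXY : ∀ u ∈ X, ∀ y ∈ Y, u * y * u⁻¹ ∈ Y)
    (hBY : ∀ b ∈ B, ∀ y ∈ Y, b * y * b⁻¹ ∈ Y)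
    {F : Type*} [Field F] [Finite F] (x : F → K) (hx : ∀ t, x t ∈ X)
    (hadd : ∀ t₁ t₂, (x (t₁ + t₂))⁻¹ * (x t₁ * x t₂) ∈ Y) (hinj : ∀ t, x t ∈ Y → t = 0)
    (hsurj : ∀ u ∈ X, ∃ t, (x t)⁻¹ * u ∈ Y)
    (hχ : ∀ b ∈ B, ∃ c : F, ∀ t, (x (c * t))⁻¹ * (b * x t * b⁻¹) ∈ Y)
    (hsq : ∀ c : F, c ≠ 0 → ∃ b ∈ B, (x (c ^ 2))⁻¹ * (b * x 1 * b⁻¹) ∈ Y) : TrMod D X Y := by
  classical
  choose! χ hχ' using hχ
  refine trMod_of_field hD hB hX hY hYX hXY hBY x hx hadd hinj hsurj χ hχ' ?_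
  rw [eq_top_iff, ← closure_sq F, AddSubgroup.closure_le]
  rintro _ ⟨c, hc, rfl⟩
  obtain ⟨b, hb, h⟩ := hsq c hc
  have h1 : χ b = c ^ 2 := by
    have h2 := hχ' b hb 1
    rw [mul_one] at h2
    -- `x (χ b) ≡ x (c²)`
    have h3 : (x (c ^ 2))⁻¹ * x (χ b) ∈ Y := by
      have h4 : (x (c ^ 2))⁻¹ * x (χ b) = (x (c ^ 2))⁻¹ * (b * x 1 * b⁻¹) * ((x (χ b))⁻¹ * (b * x 1 * b⁻¹))⁻¹ := by
        group
      rw [h4]
      exact mul_mem h (inv_mem h2)
    have h5 := hadd (c ^ 2) (χ b - c ^ 2)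
    rw [add_sub_cancel] at h5
    have h6 : x (χ b - c ^ 2) = ((x (c ^ 2))⁻¹ * x (χ b)) * ((x (χ b))⁻¹ * (x (c ^ 2) * x (χ b - c ^ 2))) := by group
    have h7 : x (χ b - c ^ 2) ∈ Y := by
      rw [h6]
      exact mul_mem h3 h5
    exact sub_eq_zero.1 (hinj _ h7)
  rw [← h1]
  exact AddSubgroup.subset_closure ⟨b, hb, rfl⟩

/-- **A node whose root group is the additive group of a finite field.** -/
theorem loc_of_field [Finite K] (P : Cfsg.BNPair K) (U H V : Subgroup K) (s : K)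
    (hB : ∀ b ∈ P.B, ∃ u ∈ U, ∃ h ∈ H, b = u * h) (hHB : H ≤ P.B)
    {F : Type*} [Field F] [Finite F] (x : F → K) (hx : ∀ t, x t ∈ U) (hadd : ∀ t t', x (t + t') = x t * x t')
    (hVU : V ≤ U) (hdec : ∀ u ∈ U, ∃ v ∈ V, ∃ t, u = v * x t)
    (hxV : ∀ t, ∀ v ∈ V, x t * v * (x t)⁻¹ ∈ V) (hHV : ∀ h ∈ H, ∀ v ∈ V, h * v * h⁻¹ ∈ V)
    (hsV : ∀ v ∈ V, s⁻¹ * v * s ∈ V) (hVB : V ≤ P.B) (hsx : ∀ t, s⁻¹ * x t * s ∈ P.B → t = 0)
    (hH : ∀ h ∈ H, ∃ c : F, ∀ t, h * x t * h⁻¹ = x (c * t))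
    (hsq : ∀ c : F, c ≠ 0 → ∃ h ∈ H, h * x 1 * h⁻¹ = x (c ^ 2)) :
    ∃ V : Subgroup K, Node P U s V ∧
      ∀ D : Subgroup (MulAut K), ⁅D, D⁆ = D → Inv D U → Inv D P.B → Inv D (P.parabolic {s}) →
        Inv D V → TrMod D U V := by
  have hx0 : x 0 = 1 := by
    have := hadd 0 0
    rw [add_zero] at this
    exact (mul_eq_left (a := x 0)).1 this.symm
  have hxn : ∀ t, x (-t) = (x t)⁻¹ := by
    intro t
    rw [eq_inv_iff_mul_eq_one, ← hadd, neg_add_cancel, hx0]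
  have hUV : ∀ u ∈ U, ∀ v ∈ V, u * v * u⁻¹ ∈ V := by
    intro u hu v hv
    obtain ⟨w, hw, t, rfl⟩ := hdec u hu
    have h1 : w * x t * v * (w * x t)⁻¹ = w * (x t * v * (x t)⁻¹) * w⁻¹ := by group
    rw [h1]
    exact mul_mem (mul_mem hw (hxV t v hv)) (inv_mem hw)
  have hBV : ∀ b ∈ P.B, ∀ v ∈ V, b * v * b⁻¹ ∈ V := by
    intro b hb v hv
    obtain ⟨u, hu, h, hh, rfl⟩ := hB b hb
    have h1 : u * h * v * (u * h)⁻¹ = u * (h * v * h⁻¹) * u⁻¹ := by group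
    rw [h1]
    exact hUV u hu _ (hHV h hh v hv)
  have hinj : ∀ t, x t ∈ V → t = 0 := fun t ht => hsx t (hVB (hsV _ ht))
  have hnode : Node P U s V := by
    refine ⟨hVU, ⟨x 1, hx 1, fun h => one_ne_zero (hinj 1 h)⟩, hBV, hsV, ?_⟩
    intro u hu hus
    obtain ⟨v, hv, t, rfl⟩ := hdec u hu
    have h1 : s⁻¹ * x t * s ∈ P.B := by
      have h2 : s⁻¹ * x t * s = (s⁻¹ * v * s)⁻¹ * (s⁻¹ * (v * x t) * s) := by group
      rw [h2]
      exact mul_mem (inv_mem (hVB (hsV v hv))) hus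
    rw [hsx t h1, hx0, mul_one]
    exact hv
  refine ⟨V, hnode, fun D hD hDU hDB hDP hDV => ?_⟩
  refine trMod_of_field_sq hD hDB hDU hDV hVU hUV hBV x hx ?_ hinj ?_ ?_ ?_
  · intro t t'
    rw [hadd, inv_mul_cancel]
    exact one_mem _
  · intro u hu
    obtain ⟨v, hv, t, h⟩ := hdec u⁻¹ (inv_mem hu)
    refine ⟨-t, ?_⟩
    have h1 : u = (x t)⁻¹ * v⁻¹ := by
      rw [← mul_inv_rev, ← h, inv_inv]
    rw [hxn, inv_inv, h1]
    have h2 : x t * ((x t)⁻¹ * v⁻¹) = v⁻¹ := by group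
    rw [h2]
    exact inv_mem hv
  · intro b hb
    obtain ⟨u, hu, h, hh, rfl⟩ := hB b hb
    obtain ⟨c, hc⟩ := hH h hh
    refine ⟨c, fun t => ?_⟩
    obtain ⟨v, hv, r, rfl⟩ := hdec u hu
    have h1 : v * x r * h * x t * (v * x r * h)⁻¹ = v * (x r * (h * x t * h⁻¹) * (x r)⁻¹) * v⁻¹ := by group
    have h2 : x r * x (c * t) * (x r)⁻¹ = x (c * t) := by
      rw [← hxn, ← hadd, ← hadd]
      congr 1
      ring
    rw [h1, hc, h2]
    have h3 : (x (c * t))⁻¹ * (v * x (c * t) * v⁻¹) = (x (-(c * t)) * v * (x (-(c * t)))⁻¹) * v⁻¹ := by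
      rw [hxn]; group
    rw [h3]
    exact mul_mem (hxV _ v hv) (inv_mem hv)
  · intro c hc
    obtain ⟨h, hh, h1⟩ := hsq c hc
    refine ⟨h, hHB hh, ?_⟩
    rw [h1, inv_mul_cancel]
    exact one_mem _

end Cfsg.Agent.Schreier.BNUse
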