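import Mathlib
import Cfsg.Prelude.Def_Spor_Conway
import Cfsg.Agent.S0400
import Cfsg.Agent.BabyM.CoTwoMod
set_option linter.all false

/-!
# The stabiliser of a minimal vector of the Leech lattice is `Spor.Co2`
-/

set_option autoImplicit false

namespace Cfsg.Agent.Schreier.CoTwoStab

open Cfsg Cfsg.Agent.SporadicStructure.Co2RankThree

/-- The stabiliser of `(4, 4, 0, …)` in `Co0` is `Spor.Co2`. -/
def equivU : MulAction.stabilizer Co0 Spor.leechU ≃* Spor.Co2 where
  toFun g := ⟨((g : Co0) : Equiv.Perm leechLattice), (g : Co0).2, g.2⟩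
  invFun g := ⟨⟨(g : Equiv.Perm leechLattice), g.2.1⟩, g.2.2⟩
  left_inv _ := rfl
  right_inv _ := rfl
  map_mul' _ _ := rfl

/-- The stabiliser of a minimal vector is isomorphic to `Spor.Co2`. -/
theorem exists_equiv (u : leechLattice) (hu : dt u u = 32) :
    Nonempty (MulAction.stabilizer Co0 u ≃* Spor.Co2) := by
  have h1 : sqNorm (u : GolayPt → ℤ) = 32 := by rw [norm_eq]; exact hu
  have h2 : sqNorm (Spor.leechU : GolayPt → ℤ) = 32 := by rw [norm_eq]; exact dt_a0_a0
  obtain ⟨g, hg⟩ := Cfsg.Agent.S0400.result u Spor.leechU h1 h2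
  exact ⟨(MulAction.stabilizerEquivStabilizer hg.symm).trans equivU⟩

/-- `Spor.Co2` is simple. -/
theorem isSimpleGroup : IsSimpleGroup Spor.Co2 := by
  have h1 := BabyM.CoTwoMod.isSimpleGroup_stab Spor.leechU dt_a0_a0
  exact equivU.symm.isSimpleGroup_congr.2 h1

theorem card : Nat.card Spor.Co2 = 42305421312000 := by
  rw [← Nat.card_congr equivU.toEquiv]
  exact BabyM.CoTwoMod.card_stab Spor.leechU dt_a0_a0

theorem finite : Finite Spor.Co2 := Nat.finite_of_card_ne_zero (by rw [card]; norm_num)

theorem not_comm : ¬ IsMulCommutative Spor.Co2 := by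
  intro h
  have hs := isSimpleGroup
  have hf := finite
  have h1 : Group.IsSolvable Spor.Co2 := Group.isSolvable_of_comm fun a b => h.is_comm.comm a b
  let _inst : CommGroup Spor.Co2 := { (inferInstance : Group Spor.Co2) with mul_comm := fun a b => h.is_comm.comm a b }
  have h2 : (Nat.card Spor.Co2).Prime := IsSimpleGroup.prime_card
  rw [card] at h2
  revert h2
  norm_num

end Cfsg.Agent.Schreier.CoTwoStab
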