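import Mathlib
import Cfsg.Agent.Lib.FrattiniBasic
import Cfsg.Agent.Schreier.Basic
import Cfsg.Agent.Schreier.Tools
import Cfsg.Agent.S0279
import Cfsg.Agent.FastGrp
import Cfsg.Agent.Prune
set_option linter.all false

section
prune_inst 0x7f00000000000000000000000000000000000000000000000000000000000000000000000000000000000000000000000000000000000000000000000000000000000000000000000000000000000000003fffffffffffffffffffffffffffbeffbdffffffff

-- part: Schreier/Flag
section
set_option linter.all false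
open scoped Cfsg.Agent.FastGrp

/-!
# Perfect groups of automorphisms acting on a 2-group modulo its Frattini subgroup

A perfect group `D` of automorphisms which leaves the finite 2-group `T` invariant and acts trivially on `T / Φ(T)`
acts trivially on `T`. So it is enough to have a chain of `D`-invariant subgroups between `T` and `Φ(T)` with all
indices at most 4.
-/

set_option autoImplicit false
set_option linter.unusedSectionVars false

namespace Cfsg.Agent.Schreier.Flag

open Cfsg.Agent.Schreier.Basic Cfsg.Agent.Schreier.Tools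

variable {K : Type*} [Group K]

/-- The Frattini subgroup of the subgroup `T`, as a subgroup of the whole group. -/
def phi (T : Subgroup K) : Subgroup K := (frattini T).map T.subtype

theorem phi_le (T : Subgroup K) : phi T ≤ T := Subgroup.map_subtype_le _

theorem mem_phi {T : Subgroup K} {x : K} : x ∈ phi T ↔ ∃ h : x ∈ T, (⟨x, h⟩ : T) ∈ frattini T := by
  constructor
  · rintro ⟨y, hy, rfl⟩
    exact ⟨y.2, hy⟩
  · rintro ⟨h, hx⟩
    exact ⟨⟨x, h⟩, hx, rfl⟩

theorem inv_phi {D : Subgroup (MulAut K)} {T : Subgroup K} (hT : Inv D T) : Inv D (phi T) :=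
  hT.of_characteristic (frattini T)

section TwoGroup

variable {T : Subgroup K} [Finite T]

theorem commutator_mem_phi (h2 : IsPGroup 2 T) {x y : K} (hx : x ∈ T) (hy : y ∈ T) :
    x * y * x⁻¹ * y⁻¹ ∈ phi T := by
  have h := Cfsg.Agent.Lib.FrattiniBasic.commutator_le_frattini h2
  have h1 : (⟨x, hx⟩ * ⟨y, hy⟩ * (⟨x, hx⟩)⁻¹ * (⟨y, hy⟩)⁻¹ : T) ∈ commutator T :=
    Subgroup.commutator_mem_commutator (Subgroup.mem_top _) (Subgroup.mem_top _)
  exact ⟨_, h h1, rfl⟩

theorem sq_mem_phi (h2 : IsPGroup 2 T) {x : K} (hx : x ∈ T) : x * x ∈ phi T := by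
  have h := Cfsg.Agent.Lib.FrattiniBasic.pow_mem_frattini h2 (⟨x, hx⟩ : T)
  refine ⟨_, h, ?_⟩
  simp [pow_two]

/-- A subgroup between `Φ(T)` and `T` is normal in `T`. -/
theorem conj_mem_of_phi_le (h2 : IsPGroup 2 T) {B : Subgroup K} (hΦ : phi T ≤ B) (hB : B ≤ T)
    {t b : K} (ht : t ∈ T) (hb : b ∈ B) : t * b * t⁻¹ ∈ B := by
  have h := mul_mem (hΦ (commutator_mem_phi h2 ht (hB hb))) hb
  simpa using h

/-- An automorphism of odd prime order of a finite 2-group which is trivial modulo the Frattini subgroup is trivial. -/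
theorem eq_one_of_odd_prime {P : Type*} [Group P] [Finite P] (h2 : IsPGroup 2 P) (ψ : MulAut P) {p : ℕ}
    (hp : p.Prime) (hp2 : p ≠ 2) (hψ : orderOf ψ = p) (h : ∀ t, t⁻¹ * ψ t ∈ frattini P) : ψ = 1 := by
  have : Fact p.Prime := ⟨hp⟩
  -- all powers of `ψ` are trivial modulo Frattini
  have hall : ∀ φ ∈ Subgroup.zpowers ψ, ∀ t, t⁻¹ * φ t ∈ frattini P := by
    have hcl : Subgroup.zpowers ψ ≤
        { carrier := {φ : MulAut P | ∀ t, t⁻¹ * φ t ∈ frattini P}
          one_mem' := fun t => by simp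
          mul_mem' := fun {a b} ha hb t => by
            have h1 := mul_mem (hb t) (ha (b t))
            simpa [MulAut.mul_apply, mul_assoc] using h1
          inv_mem' := fun {a} ha t => by
            have h1 := inv_mem (ha (a⁻¹ t))
            rw [MulAut.apply_inv_self] at h1
            simpa using h1 } := by
      rw [Subgroup.zpowers_le]
      exact h
    exact fun φ hφ => hcl hφ
  let C : Subgroup P := { carrier := {x | ψ x = x}
                          one_mem' := map_one _
                          mul_mem' := fun {a b} (ha : ψ a = a) (hb : ψ b = b) => by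
                            show ψ (a * b) = a * b
                            rw [map_mul, ha, hb]
                          inv_mem' := fun {a} (ha : ψ a = a) => by
                            show ψ a⁻¹ = a⁻¹
                            rw [map_inv, ha] }
  have hCtop : C ⊔ frattini P = ⊤ := by
    rw [eq_top_iff]
    intro t _
    -- the coset of `t`
    let S : Type _ := {x : P // t⁻¹ * x ∈ frattini P}
    let A : MulAction (Subgroup.zpowers ψ) S :=
      { smul := fun φ x => ⟨(φ : MulAut P) x.1, by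
          have h1 := mul_mem x.2 (hall φ φ.2 x.1)
          simpa [mul_assoc] using h1⟩
        one_smul := fun x => rfl
        mul_smul := fun a b x => rfl }
    have hpg : IsPGroup p (Subgroup.zpowers ψ) := by
      apply IsPGroup.of_card (n := 1)
      rw [Nat.card_zpowers, hψ, pow_one]
    have hcard : Nat.card S = Nat.card (frattini P) := by
      refine Nat.card_congr ⟨fun x => ⟨t⁻¹ * x.1, x.2⟩, fun y => ⟨t * y.1, ?_⟩, ?_, ?_⟩
      · rw [inv_mul_cancel_left]
        exact y.2
      · intro x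
        apply Subtype.ext
        simp
      · intro y
        apply Subtype.ext
        simp
    have hnd : ¬ p ∣ Nat.card S := by
      rw [hcard]
      obtain ⟨k, hk⟩ := IsPGroup.iff_card.1 (h2.to_subgroup (frattini P))
      rw [hk]
      intro hd
      have := hp.dvd_of_dvd_pow hd
      exact hp2 ((Nat.prime_dvd_prime_iff_eq hp Nat.prime_two).1 this)
    obtain ⟨x, hx⟩ := hpg.nonempty_fixed_point_of_prime_not_dvd_card S hnd
    have hx1 : ψ x.1 = x.1 := congrArg Subtype.val (hx ⟨ψ, Subgroup.mem_zpowers ψ⟩)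
    have hxt : t = x.1 * (t⁻¹ * x.1)⁻¹ := by group
    rw [hxt]
    exact mul_mem (Subgroup.mem_sup_left hx1) (Subgroup.mem_sup_right (inv_mem x.2))
  have hC := frattini_nongenerating hCtop
  ext x
  have : x ∈ C := by
    rw [hC]
    exact Subgroup.mem_top _
  exact this

/-- **Burnside**: a perfect group of automorphisms acting trivially on `T / Φ(T)` acts trivially on `T`. -/
theorem tr_of_trMod_phi {D : Subgroup (MulAut K)} (hD : ⁅D, D⁆ = D) (h2 : IsPGroup 2 T) (hT : Inv D T)
    (h : TrMod D T (phi T)) : Tr D T := by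
  apply tr_of_solvable_range hD hT
  have hfr : ∀ ψ ∈ hT.res.range, ∀ t : T, t⁻¹ * ψ t ∈ frattini T := by
    rintro _ ⟨φ, rfl⟩ t
    have h1 := h φ φ.2 t t.2
    obtain ⟨h3, h4⟩ := mem_phi.1 h1
    exact h4
  have hcard : ∃ k, Nat.card hT.res.range = 2 ^ k := by
    refine ⟨_, Nat.eq_prime_pow_of_unique_prime_dvd Nat.card_pos.ne' ?_⟩
    intro p hp hdvd
    by_contra hp2
    have : Fact p.Prime := ⟨hp⟩
    obtain ⟨ψ, hψ⟩ := exists_prime_orderOf_dvd_card' p hdvd
    have h1 : orderOf (ψ : MulAut T) = p := by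
      rw [← hψ]
      exact Subgroup.orderOf_coe ψ
    have h3 := eq_one_of_odd_prime h2 (ψ : MulAut T) hp hp2 h1 (hfr _ ψ.2)
    rw [h3, orderOf_one] at h1
    exact hp.one_lt.ne h1
  obtain ⟨k, hk⟩ := hcard
  have : Fact (Nat.Prime 2) := ⟨Nat.prime_two⟩
  have h5 : IsPGroup 2 hT.res.range := IsPGroup.of_card hk
  have h6 : Group.IsNilpotent hT.res.range := h5.isNilpotent
  infer_instance

theorem isSolvable_of_le (h2 : IsPGroup 2 T) {A : Subgroup K} (hA : A ≤ T) : Group.IsSolvable A := by
  have : Fact (Nat.Prime 2) := ⟨Nat.prime_two⟩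
  have h1 : IsPGroup 2 A := h2.to_le hA
  have : Finite A := Set.Finite.subset (Set.toFinite (T : Set K)) hA
  have h6 : Group.IsNilpotent A := h1.isNilpotent
  infer_instance

/-- One step of a flag between `T` and `Φ(T)`. -/
theorem trMod_step {D : Subgroup (MulAut K)} (hD : ⁅D, D⁆ = D) (h2 : IsPGroup 2 T) {A B : Subgroup K}
    (hA : Inv D A) (hB : Inv D B) (hAT : A ≤ T) (hBA : B ≤ A) (hΦ : phi T ≤ B) (h : TrMod D T A)
    (h0 : B.relIndex A ≠ 0) (h4 : B.relIndex A ≤ 4) : TrMod D T B :=
  TrMod.trans hD (fun _ ha _ hc => conj_mem_of_phi_le h2 hΦ (hBA.trans hAT) ha hc) hAT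
    (isSolvable_of_le h2 hAT) h (trMod_of_relIndex_le_four hD hA hB h0 h4)

/-- A flag with two intermediate subgroups. -/
theorem tr_of_flag_two {D : Subgroup (MulAut K)} (hD : ⁅D, D⁆ = D) (h2 : IsPGroup 2 T) (hT : Inv D T)
    {A B : Subgroup K} (hA : Inv D A) (hB : Inv D B) (hAT : A ≤ T) (hBA : B ≤ A) (hΦ : phi T ≤ B)
    (h0 : A.relIndex T ≠ 0) (h4 : A.relIndex T ≤ 4) (h0' : B.relIndex A ≠ 0) (h4' : B.relIndex A ≤ 4)
    (h0'' : (phi T).relIndex B ≠ 0) (h4'' : (phi T).relIndex B ≤ 4) : Tr D T :=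
  tr_of_trMod_phi hD h2 hT (trMod_step hD h2 hB (inv_phi hT) (hBA.trans hAT) hΦ le_rfl
    (trMod_step hD h2 hA hB hAT hBA hΦ (trMod_of_relIndex_le_four hD hT hA h0 h4) h0' h4') h0'' h4'')

end TwoGroup

/-! ### Indices -/

/-- Bound of an index by a function which separates the cosets. -/
theorem relIndex_le_of_fun {A B : Subgroup K} {α : Type*} [Finite α] (f : A → α)
    (h : ∀ x y : A, f x = f y → (x : K)⁻¹ * y ∈ B) :
    B.relIndex A ≠ 0 ∧ B.relIndex A ≤ Nat.card α := by
  have hinj : Function.Injective (fun q : A ⧸ B.subgroupOf A => f q.out) := by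
    intro q q' hq
    have h1 := h _ _ hq
    have h2 : (QuotientGroup.mk q.out : A ⧸ B.subgroupOf A) = QuotientGroup.mk q'.out := by
      rw [QuotientGroup.eq, Subgroup.mem_subgroupOf]
      exact h1
    rwa [QuotientGroup.out_eq', QuotientGroup.out_eq'] at h2
  have hfin : Finite (A ⧸ B.subgroupOf A) := Finite.of_injective _ hinj
  exact ⟨Nat.card_pos.ne', Nat.card_le_card_of_injective _ hinj⟩

/-- A set described canonically in terms of invariant subgroups is invariant. -/
theorem inv_of_mem_iff {D : Subgroup (MulAut K)} {X T A B : Subgroup K} (hT : Inv D T) (hA : Inv D A)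
    (hB : Inv D B) (h : ∀ x, x ∈ X ↔ x ∈ T ∧ ∀ a ∈ A, x * a * x⁻¹ * a⁻¹ ∈ B) : Inv D X := by
  refine inv_iff.2 fun φ hφ x hx => ?_
  rw [h] at hx ⊢
  refine ⟨hT.apply_mem hφ hx.1, fun a ha => ?_⟩
  have h1 : φ⁻¹ a ∈ A := hA.apply_mem (inv_mem hφ) ha
  have h2 := hB.apply_mem hφ (hx.2 _ h1)
  simpa [map_mul, map_inv, MulAut.apply_inv_self] using h2

end Cfsg.Agent.Schreier.Flag
end

-- part: Schreier/U6Eleven
section
set_option linter.all false
open scoped Cfsg.Agent.FastGrp

/-!
# An involution of `PSU(6, 2)` does not commute with an element of order 11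
-/

set_option autoImplicit false

namespace Cfsg.Agent.Schreier.U6Eleven

open Cfsg

section linear

variable {F : Type*} [Field F] [Fintype F]

/-- A linear map of order dividing 11 on a space of dimension at most 4 over `F₄` is the identity. -/
theorem eq_one_of_small (hF : Fintype.card F = 4) {W : Type*} [AddCommGroup W] [Module F W] [Module.Finite F W]
    (hW : Module.finrank F W ≤ 4) (B : Module.End F W) (hB : B ^ 11 = 1) : B = 1 := by
  classical
  let u : (Module.End F W)ˣ := Units.ofPowEqOne B 11 hB (by norm_num)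
  have hu11 : orderOf u ∣ 11 := by
    apply orderOf_dvd_of_pow_eq_one
    exact Units.pow_ofPowEqOne hB (by norm_num)
  let b := Module.finBasis F W
  let e : (Module.End F W)ˣ ≃* GL (Fin (Module.finrank F W)) F :=
    Units.mapEquiv (LinearMap.toMatrixAlgEquiv b).toMulEquiv
  have hfin : Finite (Module.End F W)ˣ := Finite.of_equiv _ e.symm.toEquiv
  have hcard : Nat.card (Module.End F W)ˣ =
      ∏ i : Fin (Module.finrank F W), (4 ^ (Module.finrank F W) - 4 ^ (i : ℕ)) := by
    rw [Nat.card_congr e.toEquiv, Matrix.card_GL_field, hF]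
  have hdvd : orderOf u ∣ Nat.card (Module.End F W)ˣ := orderOf_dvd_natCard u
  rcases (Nat.dvd_prime (by norm_num : Nat.Prime 11)).1 hu11 with h1 | h1
  · have h2 : u = 1 := orderOf_eq_one_iff.1 h1
    have h3 : (u : Module.End F W) = B := rfl
    rw [← h3, h2]; rfl
  · exfalso
    rw [h1, hcard] at hdvd
    generalize Module.finrank F W = k at hW hdvd
    interval_cases k <;> revert hdvd <;> decide

/-- The same on invariant subspaces. -/
theorem fix_of_small (hF : Fintype.card F = 4) {V : Type*} [AddCommGroup V] [Module F V] [Module.Finite F V]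
    {B : Module.End F V} (hB : B ^ 11 = 1) {S : Submodule F V} (hS : ∀ s ∈ S, B s ∈ S)
    (hd : Module.finrank F S ≤ 4) : ∀ s ∈ S, B s = s := by
  have h1 : (B.restrict hS) ^ 11 = 1 := by
    rw [Module.End.pow_restrict]
    ext s
    rw [LinearMap.restrict_apply]
    simp [hB]
  have h2 := eq_one_of_small hF hd _ h1
  intro s hs
  have h3 := congrArg (fun T : Module.End F S => ((T ⟨s, hs⟩ : S) : V)) h2
  simpa using h3

theorem two_eq_zero (hF : Fintype.card F = 4) : (2 : F) = 0 := by
  have h1 : ((Fintype.card F : ℕ) : F) = 0 := Nat.cast_card_eq_zero F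
  rw [hF] at h1
  have h2 : (2 : F) * 2 = 0 := by
    have : ((4 : ℕ) : F) = 2 * 2 := by norm_num
    rw [← this]; exact h1
  rcases mul_eq_zero.1 h2 with h | h <;> exact h

/-- A nonzero square-zero map on a 6-dimensional space over `F₄` does not commute with a map of order 11. -/
theorem comm_eleven (hF : Fintype.card F = 4) {V : Type*} [AddCommGroup V] [Module F V] [Module.Finite F V]
    (hV : Module.finrank F V = 6) {N B : Module.End F V} (hN : N * N = 0) (hN0 : N ≠ 0) (hNB : N * B = B * N)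
    (hB : B ^ 11 = 1) : B = 1 := by
  by_contra hB1
  have h2 := two_eq_zero hF
  have hdbl : ∀ v : V, v + v = 0 := by
    intro v
    rw [← two_smul F v, h2, zero_smul]
  have hNBv : ∀ v, N (B v) = B (N v) := fun v => congrArg (fun T : Module.End F V => T v) hNB
  have hNNv : ∀ v, N (N v) = 0 := fun v => congrArg (fun T : Module.End F V => T v) hN
  have hB11 : ∀ v, (B ^ 11) v = v := fun v => by rw [hB]; rfl
  set W : Submodule F V := LinearMap.range (B - 1) with hW
  have hWB : ∀ w ∈ W, B w ∈ W := by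
    rintro _ ⟨v, rfl⟩
    refine ⟨B v, ?_⟩
    simp [map_sub]
  -- (a) no fixed vectors in `W`
  have hfix : ∀ w ∈ W, B w = w → w = 0 := by
    rintro _ ⟨v, rfl⟩ hv
    have h3 : B (B v) = v := by
      have h4 : B (B v) - B v = B v - v := by simpa [map_sub] using hv
      have h5 : B (B v) = B v + B v - v := by
        rw [eq_add_of_sub_eq h4]; abel
      rw [h5, hdbl, zero_sub]
      exact neg_eq_of_add_eq_zero_left (hdbl v)
    have h6 : ∀ n : ℕ, (B ^ (2 * n)) v = v := by
      intro n
      induction n with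
      | zero => simp
      | succ n ih =>
        rw [show 2 * (n + 1) = 2 * n + 2 from by ring, pow_add, Module.End.mul_apply, pow_two,
          Module.End.mul_apply, h3, ih]
    have h7 : B v = v := by
      have h8 := hB11 v
      rw [show 11 = 1 + 2 * 5 from rfl, pow_add, Module.End.mul_apply, h6, pow_one] at h8
      exact h8
    show (B - 1) v = 0
    rw [LinearMap.sub_apply, h7, Module.End.one_apply, sub_self]
  -- (d) `dim W ≥ 5`
  have hW5 : 5 ≤ Module.finrank F W := by
    by_contra hlt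
    push Not at hlt
    have h3 := fix_of_small hF hB hWB (by omega)
    apply hB1
    have h4 : B - 1 = 0 := by
      ext v
      exact hfix _ ⟨v, rfl⟩ (h3 _ ⟨v, rfl⟩)
    exact sub_eq_zero.1 h4
  have hNW : ∀ w ∈ W, N w ∈ W := by
    rintro _ ⟨v, rfl⟩
    refine ⟨N v, ?_⟩
    simp [map_sub, hNBv]
  -- (c) `N` kills `W`
  set R : Submodule F V := LinearMap.range (N.domRestrict W) with hR
  have hRW : R ≤ W := by
    rintro _ ⟨w, rfl⟩
    exact hNW w w.2
  have hR3 : Module.finrank F R ≤ 3 := by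
    have h3 := LinearMap.finrank_range_add_finrank_ker (N.domRestrict W)
    have h4 : Module.finrank F R ≤ Module.finrank F (LinearMap.ker (N.domRestrict W)) := by
      let g : R →ₗ[F] LinearMap.ker (N.domRestrict W) :=
        { toFun := fun r => ⟨⟨r, hRW r.2⟩, by
            obtain ⟨w, hw⟩ := r.2
            rw [LinearMap.mem_ker]
            show N (r : V) = 0
            rw [← hw]
            exact hNNv w⟩
          map_add' := fun _ _ => rfl
          map_smul' := fun _ _ => rfl }
      apply LinearMap.finrank_le_finrank_of_injective (f := g)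
      intro r s hrs
      have := congrArg (fun t : LinearMap.ker (N.domRestrict W) => ((t : W) : V)) hrs
      exact Subtype.ext this
    have h5 : Module.finrank F W ≤ 6 := by
      rw [← hV]; exact Submodule.finrank_le W
    have h6 : Module.finrank F (LinearMap.range (N.domRestrict W)) = Module.finrank F R := rfl
    omega
  have hRB : ∀ r ∈ R, B r ∈ R := by
    rintro _ ⟨w, rfl⟩
    refine ⟨⟨B w, hWB w w.2⟩, ?_⟩
    exact hNBv w
  have hkill : ∀ w ∈ W, N w = 0 := by
    intro w hw
    have h3 : N w ∈ R := ⟨⟨w, hw⟩, rfl⟩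
    exact hfix _ (hRW h3) (fix_of_small hF hB hRB (by omega) _ h3)
  -- (e)
  have hfixN : ∀ v, B (N v) = N v := by
    intro v
    have h3 : N (B v - v) = 0 := hkill _ ⟨v, rfl⟩
    rw [map_sub, sub_eq_zero, hNBv] at h3
    exact h3
  have hker : W = LinearMap.ker N := by
    apply Submodule.eq_of_le_of_finrank_le (fun w hw => LinearMap.mem_ker.2 (hkill w hw))
    have h3 := LinearMap.finrank_range_add_finrank_ker N
    have h4 : Module.finrank F (LinearMap.range N) ≠ 0 := by
      intro h5
      rw [Submodule.finrank_eq_zero, LinearMap.range_eq_bot] at h5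
      exact hN0 h5
    omega
  apply hN0
  ext v
  refine hfix _ ?_ (hfixN v)
  rw [hker]
  exact LinearMap.mem_ker.2 (hNNv v)

end linear

variable {F : Type*} [Field F] [Fintype F]

/-- The linear map of an element of `SU(6, 2)`. -/
noncomputable def lin (F : Type*) [Field F] : Cfsg.SU 6 F 2 →* Module.End F (Fin 6 → F) :=
  (Matrix.toLinAlgEquiv' (R := F) (n := Fin 6)).toMulEquiv.toMonoidHom.comp
    ((Cfsg.slToMat 6 F).comp (Cfsg.SU 6 F 2).subtype)

omit [Fintype F] in
theorem lin_injective : Function.Injective (lin F) := by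
  intro x y h
  have h1 := (Matrix.toLinAlgEquiv' (R := F) (n := Fin 6)).injective h
  apply Subtype.ext
  apply Subtype.ext
  exact h1

theorem center_pow (hF : Fintype.card F = 4) {z : Cfsg.SU 6 F 2} (hz : z ∈ Subgroup.center (Cfsg.SU 6 F 2)) :
    z ^ 3 = 1 := by
  have h1 : Nat.card (Subgroup.center (Cfsg.SU 6 F 2)) = 3 := by
    rw [Cfsg.Agent.S0279.result (q := 2) (by rw [hF]; norm_num) 6 (by norm_num)]
    norm_num
  have h2 : (⟨z, hz⟩ : Subgroup.center (Cfsg.SU 6 F 2)) ^ Nat.card (Subgroup.center (Cfsg.SU 6 F 2)) = 1 :=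
    pow_card_eq_one'
  rw [h1] at h2
  exact congrArg Subtype.val h2

/-- **Main fact.** -/
theorem main (hF : Fintype.card F = 4) {x a : Cfsg.PSU 6 F 2} (hx : x * x = 1) (ha : a ^ 11 = 1) (ha1 : a ≠ 1)
    (hc : x * a = a * x) : x = 1 := by
  obtain ⟨X, rfl⟩ := QuotientGroup.mk_surjective x
  obtain ⟨A, rfl⟩ := QuotientGroup.mk_surjective a
  have hXX : X * X ∈ Subgroup.center (Cfsg.SU 6 F 2) := by
    rw [← QuotientGroup.eq_one_iff]; exact hx
  have hA11 : A ^ 11 ∈ Subgroup.center (Cfsg.SU 6 F 2) := by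
    rw [← QuotientGroup.eq_one_iff]; exact ha
  have hcm : X * A * X⁻¹ * A⁻¹ ∈ Subgroup.center (Cfsg.SU 6 F 2) := by
    rw [← QuotientGroup.eq_one_iff]
    rw [QuotientGroup.mk_mul, QuotientGroup.mk_mul, QuotientGroup.mk_mul, hc, QuotientGroup.mk_inv,
      QuotientGroup.mk_inv, mul_inv_cancel_right, mul_inv_cancel]
  set c := X * A * X⁻¹ * A⁻¹ with hcdef
  have hcc : ∀ y, y * c = c * y := fun y => (Subgroup.mem_center_iff.1 hcm y)
  have h1 : X * A * X⁻¹ = c * A := by rw [hcdef]; group
  have h2 : X * A ^ 3 * X⁻¹ = A ^ 3 := by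
    have h3 : X * A ^ 3 * X⁻¹ = (c * A) ^ 3 := by rw [← h1, conj_pow]
    have h4 : Commute c A := (hcc A).symm
    rw [h3, h4.mul_pow, center_pow hF hcm, one_mul]
  have hcomm : Commute X (A ^ 3) := by
    rw [mul_inv_eq_iff_eq_mul] at h2
    exact h2
  have hcomm2 : Commute (X ^ 3) ((A ^ 3) ^ 3) := hcomm.pow_pow 3 3
  have hX2 : X ^ 3 * X ^ 3 = 1 := by
    have : X ^ 3 * X ^ 3 = (X * X) ^ 3 := by
      rw [← pow_add, ← pow_two, ← pow_mul]
    rw [this, center_pow hF hXX]
  have hA2 : ((A ^ 3) ^ 3) ^ 11 = 1 := by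
    have : ((A ^ 3) ^ 3) ^ 11 = ((A ^ 11) ^ 3) ^ 3 := by
      rw [← pow_mul, ← pow_mul, ← pow_mul, ← pow_mul]
    rw [this, center_pow hF hA11, one_pow]
  have h2F := two_eq_zero hF
  -- the linear maps
  set T := lin F (X ^ 3) with hT
  set B := lin F ((A ^ 3) ^ 3) with hBdef
  have hTT : T * T = 1 := by rw [hT, ← map_mul, hX2, map_one]
  have hTB : T * B = B * T := by
    rw [hT, hBdef, ← map_mul, ← map_mul, hcomm2.eq]
  have hB11 : B ^ 11 = 1 := by rw [hBdef, ← map_pow, hA2, map_one]
  have hB1 : B ≠ 1 := by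
    intro hB
    have h5 : (A ^ 3) ^ 3 = 1 := lin_injective (by rw [← hBdef, hB, map_one])
    apply ha1
    have h6 : (QuotientGroup.mk A : Cfsg.PSU 6 F 2) ^ 9 = 1 := by
      have := congrArg (QuotientGroup.mk : Cfsg.SU 6 F 2 → Cfsg.PSU 6 F 2) h5
      rw [← pow_mul] at this
      exact this
    calc (QuotientGroup.mk A : Cfsg.PSU 6 F 2)
        = (QuotientGroup.mk A : Cfsg.PSU 6 F 2) ^ 1 := (pow_one _).symm
      _ = (QuotientGroup.mk A : Cfsg.PSU 6 F 2) ^ (9 * 5 - 11 * 4) := rfl
      _ = 1 := by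
        have h7 : (QuotientGroup.mk A : Cfsg.PSU 6 F 2) ^ (9 * 5) = 1 := by rw [pow_mul, h6, one_pow]
        have h8 : (QuotientGroup.mk A : Cfsg.PSU 6 F 2) ^ (11 * 4) = 1 := by rw [pow_mul, ha, one_pow]
        have h9 : (QuotientGroup.mk A : Cfsg.PSU 6 F 2) ^ (11 * 4) * (QuotientGroup.mk A : Cfsg.PSU 6 F 2) ^ 1 =
            (QuotientGroup.mk A : Cfsg.PSU 6 F 2) ^ (9 * 5) := by rw [← pow_add]
        rw [h8, one_mul, h7] at h9
        exact h9
  have hN : (T - 1) * (T - 1) = 0 := by
    have h5 : (T - 1) * (T - 1) = T * T - T - T + 1 := by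
      rw [sub_mul, mul_sub, one_mul, mul_one]; abel
    rw [h5, hTT]
    have h6 : (1 : Module.End F (Fin 6 → F)) - T - T + 1 = (2 : F) • (1 - T) := by
      rw [two_smul]; abel
    rw [h6, h2F, zero_smul]
  have hNB : (T - 1) * B = B * (T - 1) := by
    rw [sub_mul, mul_sub, one_mul, mul_one, hTB]
  have hT1 : T = 1 := by
    by_contra hT1
    exact hB1 (comm_eleven hF (by simp) hN (sub_ne_zero.2 hT1) hNB hB11)
  have hX3 : X ^ 3 = 1 := lin_injective (by rw [← hT, hT1, map_one])
  have h5 : (QuotientGroup.mk X : Cfsg.PSU 6 F 2) ^ 3 = 1 :=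
    congrArg (QuotientGroup.mk : Cfsg.SU 6 F 2 → Cfsg.PSU 6 F 2) hX3
  calc (QuotientGroup.mk X : Cfsg.PSU 6 F 2)
      = QuotientGroup.mk X * QuotientGroup.mk X * QuotientGroup.mk X := by rw [hx, one_mul]
    _ = (QuotientGroup.mk X : Cfsg.PSU 6 F 2) ^ 3 := by rw [pow_succ, pow_two]
    _ = 1 := h5

end Cfsg.Agent.Schreier.U6Eleven
end
end
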