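import Mathlib
import Cfsg.Prelude.Def_LieExceptional
import Cfsg.Agent.Schreier.BNSch
set_option linter.all false

/-!
# Perfect groups of automorphisms fix the nodes of the Dynkin diagram
-/

set_option autoImplicit false

namespace Cfsg.Agent.Schreier.BNGraph

open Cfsg.Agent.Schreier.Basic Cfsg.Agent.Schreier.Tools Cfsg.Agent.Schreier.BNSch

variable {K : Type*} [Group K]

/-- `A B ⊆ B A`. -/
def Pm (A B : Subgroup K) : Prop := ∀ a ∈ A, ∀ b ∈ B, ∃ b' ∈ B, ∃ a' ∈ A, a * b = b' * a'

theorem Pm.map {A B : Subgroup K} (h : Pm A B) (φ : MulAut K) : Pm (A.map φ.toMonoidHom) (B.map φ.toMonoidHom) := by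
  rintro _ ⟨a, ha, rfl⟩ _ ⟨b, hb, rfl⟩
  obtain ⟨b', hb', a', ha', h1⟩ := h a ha b hb
  refine ⟨φ b', ⟨b', hb', rfl⟩, φ a', ⟨a', ha', rfl⟩, ?_⟩
  show φ a * φ b = φ b' * φ a'
  rw [← map_mul, h1, map_mul]

theorem map_map_inv (A : Subgroup K) (φ : MulAut K) : (A.map φ.toMonoidHom).map (φ⁻¹).toMonoidHom = A := by
  rw [Subgroup.map_map]
  have : (φ⁻¹).toMonoidHom.comp φ.toMonoidHom = MonoidHom.id K := by
    ext x
    exact MulAut.inv_apply_self _ φ x
  rw [this, Subgroup.map_id]

theorem Pm.map_iff {A B : Subgroup K} (φ : MulAut K) :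
    Pm (A.map φ.toMonoidHom) (B.map φ.toMonoidHom) ↔ Pm A B := by
  refine ⟨fun h => ?_, fun h => h.map φ⟩
  have := h.map φ⁻¹
  rwa [map_map_inv, map_map_inv] at this

/-- Adjacency of the nodes `s ≠ t` in terms of the minimal parabolic subgroups. -/
theorem pm_iff (P : Cfsg.BNPair K) {s t : K} (hs : s ∈ P.S) (ht : t ∈ P.S) (hst : s ≠ t) :
    Pm (P.parabolic {s}) (P.parabolic {t}) ↔ s * t * s⁻¹ * t⁻¹ ∈ P.B := by
  have hsN := P.subset hs
  have htN := P.subset ht
  have hsB := not_mem_B P hs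
  have htB := not_mem_B P ht
  have hnn : ∀ {n : K}, n ∈ P.N → ∀ {h : K}, h ∈ P.B → h ∈ P.N → n * h * n⁻¹ ∈ P.B := fun hn _ hh hh' =>
    P.conj_mem _ hn _ (Subgroup.mem_inf.2 ⟨hh, hh'⟩)
  constructor
  · intro h
    obtain ⟨y, hy, x, hx, hyx⟩ := h s (mem_parabolic_self P s) t (mem_parabolic_self P t)
    -- `s t` lies in one of four double cosets
    have key : ∀ w ∈ P.N, s * t ∈ DoubleCoset.doubleCoset w (P.B : Set K) P.B → (s * t)⁻¹ * w ∈ P.B := by
      intro w hw hm
      rw [← Cfsg.Agent.S0309.result P (mul_mem hsN htN) hw]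
      exact (DoubleCoset.doubleCoset_eq_of_mem hm)
    have hcase : s * t ∈ DoubleCoset.doubleCoset 1 (P.B : Set K) P.B ∨
        s * t ∈ DoubleCoset.doubleCoset s (P.B : Set K) P.B ∨
        s * t ∈ DoubleCoset.doubleCoset t (P.B : Set K) P.B ∨
        s * t ∈ DoubleCoset.doubleCoset (t * s) (P.B : Set K) P.B := by
      rcases mem_parabolic_singleton P ht hy with hyB | ⟨b, hb, b', hb', rfl⟩
      · rcases mem_parabolic_singleton P hs hx with hxB | ⟨c, hc, c', hc', rfl⟩
        · left
          rw [hyx, DoubleCoset.mem_doubleCoset]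
          exact ⟨y, hyB, x, hxB, by group⟩
        · right; left
          rw [hyx, DoubleCoset.mem_doubleCoset]
          exact ⟨y * c, mul_mem hyB hc, c', hc', by group⟩
      · rcases mem_parabolic_singleton P hs hx with hxB | ⟨c, hc, c', hc', rfl⟩
        · right; right; left
          rw [hyx, DoubleCoset.mem_doubleCoset]
          exact ⟨b, hb, b' * x, mul_mem hb' hxB, by group⟩
        · have h1 := P.mul_mem_union t ht s hsN (b' * c) (mul_mem hb' hc)
          rcases h1 with h1 | h1
          · right; right; right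
            rw [DoubleCoset.mem_doubleCoset] at h1
            obtain ⟨u, hu, v, hv, huv⟩ := h1
            rw [hyx, DoubleCoset.mem_doubleCoset]
            refine ⟨b * u, mul_mem hb hu, v * c', mul_mem hv hc', ?_⟩
            have h2 : b * t * b' * (c * s * c') = b * (t * (b' * c) * s) * c' := by group
            rw [h2, huv]; group
          · right; left
            rw [DoubleCoset.mem_doubleCoset] at h1
            obtain ⟨u, hu, v, hv, huv⟩ := h1
            rw [hyx, DoubleCoset.mem_doubleCoset]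
            refine ⟨b * u, mul_mem hb hu, v * c', mul_mem hv hc', ?_⟩
            have h2 : b * t * b' * (c * s * c') = b * (t * (b' * c) * s) * c' := by group
            rw [h2, huv]; group
    rcases hcase with hc | hc | hc | hc
    · -- `s t ∈ B`
      exfalso
      have h1 := key 1 (one_mem _) hc
      rw [mul_one] at h1
      have h2 := inv_mem h1
      rw [inv_inv] at h2
      apply hst
      apply P.inj s hs t ht
      have h3 := mul_mem (inv_mem (P.sq_mem s hs)) h2
      have h4 : (s * s)⁻¹ * (s * t) = s⁻¹ * t := by group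
      rwa [h4] at h3
    · exfalso
      have h1 := key s hsN hc
      -- `t⁻¹ s⁻¹ s = t⁻¹`
      have h2 : (s * t)⁻¹ * s = t⁻¹ := by group
      rw [h2] at h1
      exact htB (by simpa using inv_mem h1)
    · exfalso
      have h1 := key t htN hc
      -- `t⁻¹ s⁻¹ t ∈ B`, conjugate by `t`
      have h2 := hnn htN h1 (mul_mem (inv_mem (mul_mem hsN htN)) htN)
      have h3 : t * ((s * t)⁻¹ * t) * t⁻¹ = s⁻¹ := by group
      rw [h3] at h2
      exact hsB (by simpa using inv_mem h2)
    · have h1 := key (t * s) (mul_mem htN hsN) hc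
      -- `t⁻¹ s⁻¹ t s ∈ B`
      have h2 := hnn (mul_mem hsN htN) (inv_mem h1)
        (inv_mem (mul_mem (inv_mem (mul_mem hsN htN)) (mul_mem htN hsN)))
      have h3 : s * t * ((s * t)⁻¹ * (t * s))⁻¹ * (s * t)⁻¹ = s * t * s⁻¹ * t⁻¹ := by group
      rwa [h3] at h2
  · intro h a ha b hb
    have hBt : ∀ g ∈ P.B, g ∈ P.parabolic {t} := fun g hg => B_le_parabolic P _ hg
    have hBs : ∀ g ∈ P.B, g ∈ P.parabolic {s} := fun g hg => B_le_parabolic P _ hg
    rcases mem_parabolic_singleton P hs ha with haB | ⟨c, hc, c', hc', rfl⟩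
    · exact ⟨a * b, mul_mem (hBt a haB) hb, 1, one_mem _, by rw [mul_one]⟩
    · rcases mem_parabolic_singleton P ht hb with hbB | ⟨d, hd, d', hd', rfl⟩
      · exact ⟨1, one_mem _, c * s * c' * b, mul_mem ha (hBs b hbB), by rw [one_mul]⟩
      · have h1 := P.mul_mem_union s hs t htN (c' * d) (mul_mem hc' hd)
        have h2 : c * s * c' * (d * t * d') = c * (s * (c' * d) * t) * d' := by group
        rcases h1 with h1 | h1
        · rw [DoubleCoset.mem_doubleCoset] at h1
          obtain ⟨u, hu, v, hv, huv⟩ := h1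
          refine ⟨c * (u * (s * t * s⁻¹ * t⁻¹) * t), ?_, s * v * d', ?_, ?_⟩
          · exact mul_mem (hBt _ hc) (mul_mem (mul_mem (hBt _ hu) (hBt _ h)) (mem_parabolic_self P t))
          · exact mul_mem (mul_mem (mem_parabolic_self P s) (hBs _ hv)) (hBs _ hd')
          · rw [h2, huv]; group
        · rw [DoubleCoset.mem_doubleCoset] at h1
          obtain ⟨u, hu, v, hv, huv⟩ := h1
          refine ⟨c * (u * t * v) * d', ?_, 1, one_mem _, ?_⟩
          · exact mul_mem (mul_mem (hBt _ hc) (mul_mem (mul_mem (hBt _ hu) (mem_parabolic_self P t)) (hBt _ hv)))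
              (hBt _ hd')
          · rw [h2, huv, mul_one]

/-- An automorphism preserving `B` induces a diagram automorphism. -/
theorem exists_perm [Finite K] (P : Cfsg.BNPair K) {ι : Type*} [Finite ι] (s : ι → K) (hs : Set.range s = P.S)
    (hinj : Function.Injective s) (adj : ι → ι → Prop) (hirr : ∀ i, ¬ adj i i)
    (hadj : ∀ i j, i ≠ j → (adj i j ↔ s i * s j * (s i)⁻¹ * (s j)⁻¹ ∉ P.B))
    (φ : MulAut K) (hφ : P.B.map φ.toMonoidHom = P.B) :
    ∃ σ : Equiv.Perm ι, (∀ i, (P.parabolic {s i}).map φ.toMonoidHom = P.parabolic {s (σ i)}) ∧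
      ∀ i j, adj (σ i) (σ j) ↔ adj i j := by
  have hsS : ∀ i, s i ∈ P.S := fun i => by rw [← hs]; exact ⟨i, rfl⟩
  have hex : ∀ i, ∃ j, (P.parabolic {s i}).map φ.toMonoidHom = P.parabolic {s j} := by
    intro i
    obtain ⟨t, ht, h⟩ := exists_map_eq P φ hφ (hsS i)
    rw [← hs] at ht
    obtain ⟨j, rfl⟩ := ht
    exact ⟨j, h⟩
  have hpinj : ∀ i j, P.parabolic {s i} = P.parabolic {s j} → i = j := by
    intro i j h
    have h1 := (parabolic_le_iff P (Set.singleton_subset_iff.2 (hsS i)) (Set.singleton_subset_iff.2 (hsS j))).1 h.le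
    exact hinj (Set.singleton_subset_singleton.1 h1)
  choose σ hσ using hex
  have hσi : Function.Injective σ := by
    intro i j hij
    apply hpinj
    have h1 : (P.parabolic {s i}).map φ.toMonoidHom = (P.parabolic {s j}).map φ.toMonoidHom := by
      rw [hσ, hσ, hij]
    exact Subgroup.map_injective φ.injective h1
  refine ⟨Equiv.ofBijective σ (Finite.injective_iff_bijective.1 hσi), hσ, fun i j => ?_⟩
  show adj (σ i) (σ j) ↔ adj i j
  by_cases hij : i = j
  · subst hij
    exact ⟨fun h => absurd h (hirr _), fun h => absurd h (hirr _)⟩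
  · have h1 : σ i ≠ σ j := fun h => hij (hσi h)
    rw [hadj _ _ h1, hadj _ _ hij, not_iff_not, ← pm_iff P (hsS _) (hsS _) (hinj.ne h1),
      ← pm_iff P (hsS _) (hsS _) (hinj.ne hij), ← hσ, ← hσ, Pm.map_iff]

/-- **Diagram lemma.**  Let the diagram have at most four nodes of valency `v`, all valencies at most four, and let
every node be joined to a node of valency `v` by a path (recorded by the rank function `rk`).  Then perfect groups of
automorphisms preserving `B` fix all minimal parabolic subgroups. -/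
theorem perm_of_graph [Finite K] (P : Cfsg.BNPair K) {ι : Type*} [Fintype ι] (s : ι → K) (hs : Set.range s = P.S)
    (hinj : Function.Injective s) (adj : ι → ι → Prop) [DecidableRel adj] (hirr : ∀ i, ¬ adj i i)
    (hadj : ∀ i j, i ≠ j → (adj i j ↔ s i * s j * (s i)⁻¹ * (s j)⁻¹ ∉ P.B))
    (v : ℕ) (hv : (Finset.univ.filter fun i => (Finset.univ.filter fun j => adj i j).card = v).card ≤ 4)
    (h4 : ∀ i, (Finset.univ.filter fun j => adj i j).card ≤ 4)
    (rk : ι → ℕ) (hrk : ∀ i, (Finset.univ.filter fun j => adj i j).card = v ∨ ∃ j, adj j i ∧ rk j < rk i) :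
    ∀ D : Subgroup (MulAut K), ⁅D, D⁆ = D → Inv D P.B → ∀ t ∈ P.S, Inv D (P.parabolic {t}) := by
  classical
  intro D hD hB
  have hval : ∀ (σ : Equiv.Perm ι), (∀ i j, adj (σ i) (σ j) ↔ adj i j) → ∀ i,
      (Finset.univ.filter fun j => adj (σ i) j).card = (Finset.univ.filter fun j => adj i j).card := by
    intro σ hσ i
    symm
    apply Finset.card_bij (fun j _ => σ j)
    · intro j hj
      rw [Finset.mem_filter] at hj ⊢
      exact ⟨Finset.mem_univ _, (hσ i j).2 hj.2⟩
    · intro a _ b _ h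
      exact σ.injective h
    · intro j hj
      rw [Finset.mem_filter] at hj
      refine ⟨σ.symm j, ?_, by simp⟩
      rw [Finset.mem_filter]
      refine ⟨Finset.mem_univ _, (hσ i _).1 ?_⟩
      rw [Equiv.apply_symm_apply]
      exact hj.2
  -- a `D`-invariant set of at most four nodes is fixed pointwise
  have hfam : ∀ T : Finset ι, T.card ≤ 4 → (∀ φ ∈ D, ∀ σ : Equiv.Perm ι,
      (∀ i, (P.parabolic {s i}).map φ.toMonoidHom = P.parabolic {s (σ i)}) →
      (∀ i j, adj (σ i) (σ j) ↔ adj i j) → ∀ i ∈ T, σ i ∈ T) → ∀ i ∈ T, Inv D (P.parabolic {s i}) := by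
    intro T hT h i hi
    refine inv_of_family hD ((fun j => P.parabolic {s j}) '' (T : Set ι)) (Set.toFinite _) ?_ ?_ ⟨i, hi, rfl⟩
    · refine (Set.ncard_image_le (Set.toFinite _)).trans ?_
      rw [Set.ncard_coe_finset]
      exact hT
    · rintro φ hφ _ ⟨j, hj, rfl⟩
      obtain ⟨σ, h1, h2⟩ := exists_perm P s hs hinj adj hirr hadj φ (hB φ hφ)
      exact ⟨σ j, h φ hφ σ h1 h2 j hj, (h1 j).symm⟩
  have hpinj : ∀ i j, P.parabolic {s i} = P.parabolic {s j} → i = j := by
    intro i j h
    have hsS : ∀ i, s i ∈ P.S := fun i => by rw [← hs]; exact ⟨i, rfl⟩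
    have h1 := (parabolic_le_iff P (Set.singleton_subset_iff.2 (hsS i)) (Set.singleton_subset_iff.2 (hsS j))).1 h.le
    exact hinj (Set.singleton_subset_singleton.1 h1)
  have hmain : ∀ n i, rk i = n → Inv D (P.parabolic {s i}) := by
    intro n
    induction n using Nat.strong_induction_on with
    | _ n ih =>
      intro i hi
      rcases hrk i with h | ⟨j, hj, hji⟩
      · refine hfam _ hv ?_ i (Finset.mem_filter.2 ⟨Finset.mem_univ _, h⟩)
        intro φ _ σ _ hσ k hk
        rw [Finset.mem_filter] at hk ⊢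
        refine ⟨Finset.mem_univ _, ?_⟩
        rw [hval σ hσ]
        exact hk.2
      · have hjD := ih (rk j) (hi ▸ hji) j rfl
        refine hfam _ (h4 j) ?_ i (Finset.mem_filter.2 ⟨Finset.mem_univ _, hj⟩)
        intro φ hφ σ h1 hσ k hk
        rw [Finset.mem_filter] at hk ⊢
        refine ⟨Finset.mem_univ _, ?_⟩
        have h2 : σ j = j := by
          apply hpinj
          rw [← h1]
          exact hjD φ hφ
        have := (hσ j k).2 hk.2
        rwa [h2] at this
  intro t ht
  rw [← hs] at ht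
  obtain ⟨i, rfl⟩ := ht
  exact hmain _ i rfl

end Cfsg.Agent.Schreier.BNGraph
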