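import Mathlib
import Cfsg.Agent.Lib.FrattiniPGroup
import Cfsg.Agent.Schreier.Basic
import Cfsg.Agent.Schreier.Tools
import Cfsg.Agent.Schreier.Tools2
set_option linter.all false

/-!
# The Schreier property from the lower central series of a Sylow 2-subgroup with four generators

`relIndex_le_two_pow`: index bound for a subgroup containing the commutator subgroup.
`tr_of_lower`: a perfect group of automorphisms normalising the `2`-group `T` centralises `T` if `T` is
generated by four elements `a b c d` with squares in `T'` such that `b`, `c` and `T'` centralise `[T', T]` and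
`a`, `d`, `a * d` do not.
-/

set_option autoImplicit false

namespace Cfsg.Agent.Schreier.LowerCrit

open Cfsg.Agent.Schreier.Basic Cfsg.Agent.Schreier.Tools Cfsg.Agent.Schreier.Tools2
open scoped commutatorElement

variable {K : Type*} [Group K]

/-- A family of elements of `T` meeting all cosets of `A` bounds the index. -/
theorem relIndex_le_card {T A : Subgroup K} {ι : Type*} [Finite ι] (f : ι → K) (hfT : ∀ i, f i ∈ T)
    (hf : ∀ t ∈ T, ∃ i, (f i)⁻¹ * t ∈ A) : A.relIndex T ≠ 0 ∧ A.relIndex T ≤ Nat.card ι := by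
  let g : ι → T ⧸ A.subgroupOf T := fun i => QuotientGroup.mk ⟨f i, hfT i⟩
  have hg : Function.Surjective g := by
    intro q
    induction q using QuotientGroup.induction_on with
    | H t =>
      obtain ⟨i, hi⟩ := hf t t.2
      refine ⟨i, ?_⟩
      rw [QuotientGroup.eq, Subgroup.mem_subgroupOf]
      exact hi
  have hfin : Finite (T ⧸ A.subgroupOf T) := Finite.of_surjective g hg
  refine ⟨?_, Nat.card_le_card_of_surjective g hg⟩
  show Nat.card (T ⧸ A.subgroupOf T) ≠ 0
  exact Nat.card_pos.ne'

theorem relIndex_sup_zpowers_le {A : Subgroup K} {x : K} (hx : x * x ∈ A)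
    (hn : ∀ a ∈ A, x * a * x⁻¹ ∈ A) (hn' : ∀ a ∈ A, x⁻¹ * a * x ∈ A) :
    A.relIndex (A ⊔ Subgroup.zpowers x) ≠ 0 ∧ A.relIndex (A ⊔ Subgroup.zpowers x) ≤ 2 := by
  have hmem : ∀ t ∈ A ⊔ Subgroup.zpowers x, t ∈ A ∨ x⁻¹ * t ∈ A := by
    let F : Subgroup K :=
      { carrier := {t | t ∈ A ∨ x⁻¹ * t ∈ A}
        one_mem' := Or.inl (one_mem A)
        mul_mem' := by
          intro a b ha hb
          rcases ha with ha | ha <;> rcases hb with hb | hb
          · exact Or.inl (mul_mem ha hb)
          · right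
            have h1 : x⁻¹ * (a * b) = (x⁻¹ * a * x) * (x⁻¹ * b) := by group
            rw [h1]; exact mul_mem (hn' a ha) hb
          · right
            have h1 : x⁻¹ * (a * b) = (x⁻¹ * a) * b := by group
            rw [h1]; exact mul_mem ha hb
          · left
            have h1 : a * b = (x * (x⁻¹ * a) * x⁻¹) * (x * x) * (x⁻¹ * b) := by group
            rw [h1]; exact mul_mem (mul_mem (hn _ ha) hx) hb
        inv_mem' := by
          intro a ha
          rcases ha with ha | ha
          · exact Or.inl (inv_mem ha)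
          · right
            have h1 : x⁻¹ * a⁻¹ = (x⁻¹ * (x⁻¹ * a)⁻¹ * x) * (x * x)⁻¹ := by group
            rw [h1]; exact mul_mem (hn' _ (inv_mem ha)) (inv_mem hx) }
    have h1 : A ⊔ Subgroup.zpowers x ≤ F := by
      refine sup_le (fun a ha => Or.inl ha) ?_
      rw [Subgroup.zpowers_le]
      right
      rw [inv_mul_cancel]
      exact one_mem A
    exact fun t ht => h1 ht
  have h2 := relIndex_le_card (T := A ⊔ Subgroup.zpowers x) (A := A) (ι := Bool)
    (fun b => if b then x else 1) (by
      intro b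
      cases b
      · exact one_mem _
      · exact Subgroup.mem_sup_right (Subgroup.mem_zpowers x)) (by
      intro t ht
      rcases hmem t ht with h | h
      · exact ⟨false, by simpa using h⟩
      · exact ⟨true, by simpa using h⟩)
  simpa using h2

/-- If `T` is generated by `A ⊇ T'` and `n` elements with squares in `A`, then `|T : A| ≤ 2 ^ n`. -/
theorem relIndex_le_two_pow {T : Subgroup K} (l : List K) : ∀ {A : Subgroup K}, A ≤ T → ⁅T, T⁆ ≤ A →
    (∀ x ∈ l, x ∈ T) → (∀ x ∈ l, x * x ∈ A) → T ≤ A ⊔ Subgroup.closure {x | x ∈ l} →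
    A.relIndex T ≠ 0 ∧ A.relIndex T ≤ 2 ^ l.length := by
  induction l with
  | nil =>
    intro A hAT _ _ _ hT
    have h1 : A = T := by
      apply le_antisymm hAT
      refine hT.trans (sup_le le_rfl ?_)
      simp
    rw [h1, Subgroup.relIndex_self]
    simp
  | cons x l ih =>
    intro A hAT hcA hlT hlA hT
    have hxT : x ∈ T := hlT x List.mem_cons_self
    have hxx : x * x ∈ A := hlA x List.mem_cons_self
    have hconj : ∀ y ∈ T, ∀ a ∈ A, y * a * y⁻¹ ∈ A := by
      intro y hy a ha
      have h1 : y * a * y⁻¹ = ⁅y, a⁆ * a := by rw [commutatorElement_def]; group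
      rw [h1]
      exact mul_mem (hcA (Subgroup.commutator_mem_commutator hy (hAT ha))) ha
    obtain ⟨h1, h2⟩ := relIndex_sup_zpowers_le hxx (hconj x hxT) (by
      intro a ha
      have := hconj x⁻¹ (inv_mem hxT) a ha
      simpa using this)
    set A' := A ⊔ Subgroup.zpowers x with hA'
    have hA'T : A' ≤ T := sup_le hAT (by rw [Subgroup.zpowers_le]; exact hxT)
    obtain ⟨h3, h4⟩ := ih (A := A') hA'T (hcA.trans le_sup_left)
      (fun y hy => hlT y (List.mem_cons_of_mem _ hy))
      (fun y hy => Subgroup.mem_sup_left (hlA y (List.mem_cons_of_mem _ hy))) (by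
        refine hT.trans (sup_le (le_sup_left.trans le_sup_left) ?_)
        rw [Subgroup.closure_le]
        intro y hy
        rcases List.mem_cons.1 hy with rfl | hy
        · exact Subgroup.mem_sup_left (Subgroup.mem_sup_right (Subgroup.mem_zpowers _))
        · exact Subgroup.mem_sup_right (Subgroup.subset_closure hy))
    have h5 := Subgroup.relIndex_mul_relIndex A A' T le_sup_left hA'T
    rw [← h5]
    refine ⟨mul_ne_zero h1 h3, ?_⟩
    rw [List.length_cons, pow_succ']
    exact Nat.mul_le_mul h2 h4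

/-- Four different cosets. -/
theorem four_le_relIndex {T A : Subgroup K} [Finite T] {a d : K} (ha : a ∈ T) (hd : d ∈ T)
    (haA : a ∉ A) (hdA : d ∉ A) (hadA : a⁻¹ * d ∉ A) (had' : a * d ∉ A)
    (hn : ∀ y ∈ T, ∀ c ∈ T, y * c ∉ A → c * y ∉ A) : 4 ≤ A.relIndex T := by
  -- the cosets of `1, a, d, d * a`
  let f : Fin 4 → T ⧸ A.subgroupOf T := fun i =>
    QuotientGroup.mk (![(1 : T), ⟨a, ha⟩, ⟨d, hd⟩, ⟨d * a, mul_mem hd ha⟩] i)
  have hne : ∀ u v : T, (u : K)⁻¹ * v ∉ A → (QuotientGroup.mk u : T ⧸ A.subgroupOf T) ≠ QuotientGroup.mk v := by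
    intro u v h e
    rw [QuotientGroup.eq, Subgroup.mem_subgroupOf] at e
    exact h e
  have key : ∀ i j : Fin 4, i < j → f i ≠ f j := by
    intro i j hij
    have hda : d * a ∉ A := hn a ha d hd had'
    have hd' : d⁻¹ ∉ A := fun h => hdA (by simpa using inv_mem h)
    fin_cases i <;> fin_cases j <;> simp at hij <;> apply hne
    · simpa using haA
    · simpa using hdA
    · simpa using hda
    · simpa using hadA
    · -- a⁻¹ d a
      intro h
      have h1 : (a⁻¹ : K) * (d * a) ∈ A := by simpa using h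
      have h2 := hn (a⁻¹ * d) (mul_mem (inv_mem ha) hd) a ha
      by_contra hcon
      have h3 : a * (a⁻¹ * d) ∉ A := by
        rw [mul_inv_cancel_left]; exact hdA
      have h4 := hn a ha (a⁻¹ * d) (mul_mem (inv_mem ha) hd) h3
      exact h4 (by rw [mul_assoc]; exact h1)
    · intro h
      exact haA (by simpa using h)
  have hinj : Function.Injective f := by
    intro i j hij
    rcases lt_trichotomy i j with h | h | h
    · exact absurd hij (key i j h)
    · exact h
    · exact absurd hij.symm (key j i h)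
  have h0 : Finite (T ⧸ A.subgroupOf T) := inferInstance
  have h1 := Nat.card_le_card_of_injective f hinj
  rw [Nat.card_eq_fintype_card, Fintype.card_fin] at h1
  exact h1

/-- Commutators of generators bound the commutator of closures. -/
theorem commutator_closure_le {S S' : Set K} {N : Subgroup K}
    (hS : Subgroup.closure S ≤ Subgroup.normalizer (N : Set K))
    (hS' : Subgroup.closure S' ≤ Subgroup.normalizer (N : Set K))
    (h : ∀ s ∈ S, ∀ s' ∈ S', ⁅s, s'⁆ ∈ N) : ⁅Subgroup.closure S, Subgroup.closure S'⁆ ≤ N := by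
  have hconj : ∀ y ∈ Subgroup.normalizer (N : Set K), ∀ n ∈ N, y * n * y⁻¹ ∈ N := fun y hy n hn =>
    (Subgroup.mem_normalizer_iff.1 hy n).1 hn
  -- first variable
  have h1 : ∀ x ∈ Subgroup.closure S, ∀ s' ∈ S', ⁅x, s'⁆ ∈ N := by
    intro x hx
    have : x ∈ Subgroup.normalizer (N : Set K) ∧ ∀ s' ∈ S', ⁅x, s'⁆ ∈ N := by
      induction hx using Subgroup.closure_induction with
      | mem x hx => exact ⟨hS (Subgroup.subset_closure hx), h x hx⟩
      | one => exact ⟨one_mem _, fun s' _ => by rw [commutatorElement_one_left]; exact one_mem N⟩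
      | mul x y _ _ hx hy =>
        refine ⟨mul_mem hx.1 hy.1, fun s' hs' => ?_⟩
        have e : ⁅x * y, s'⁆ = x * ⁅y, s'⁆ * x⁻¹ * ⁅x, s'⁆ := by
          simp only [commutatorElement_def]; group
        rw [e]
        exact mul_mem (hconj x hx.1 _ (hy.2 s' hs')) (hx.2 s' hs')
      | inv x _ hx =>
        refine ⟨inv_mem hx.1, fun s' hs' => ?_⟩
        have e : ⁅x⁻¹, s'⁆ = x⁻¹ * ⁅x, s'⁆⁻¹ * x⁻¹⁻¹ := by
          simp only [commutatorElement_def]; group
        rw [e]
        exact hconj x⁻¹ (inv_mem hx.1) _ (inv_mem (hx.2 s' hs'))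
    exact this.2
  rw [Subgroup.commutator_le]
  intro x hx y hy
  have : y ∈ Subgroup.normalizer (N : Set K) ∧ ⁅x, y⁆ ∈ N := by
    induction hy using Subgroup.closure_induction with
    | mem y hy => exact ⟨hS' (Subgroup.subset_closure hy), h1 x hx y hy⟩
    | one => exact ⟨one_mem _, by rw [commutatorElement_one_right]; exact one_mem N⟩
    | mul y z _ _ hy hz =>
      refine ⟨mul_mem hy.1 hz.1, ?_⟩
      have e : ⁅x, y * z⁆ = ⁅x, y⁆ * (y * ⁅x, z⁆ * y⁻¹) := by
        simp only [commutatorElement_def]; group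
      rw [e]
      exact mul_mem hy.2 (hconj y hy.1 _ hz.2)
    | inv y _ hy =>
      refine ⟨inv_mem hy.1, ?_⟩
      have e : ⁅x, y⁻¹⁆ = y⁻¹ * ⁅x, y⁆⁻¹ * y⁻¹⁻¹ := by
        simp only [commutatorElement_def]; group
      rw [e]
      exact hconj y⁻¹ (inv_mem hy.1) _ (inv_mem hy.2)
  exact this.2

/-- **The criterion.** -/
theorem tr_of_lower {D : Subgroup (MulAut K)} (hD : ⁅D, D⁆ = D) {T : Subgroup K} [Finite T]
    (hTp : IsPGroup 2 T) (hT : Inv D T) {a b c d : K} (ha : a ∈ T) (hb : b ∈ T) (hc : c ∈ T) (hd : d ∈ T)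
    (hgen : T ≤ Subgroup.closure {x | x ∈ [a, b, c, d]})
    (hsq : ∀ x ∈ [a, b, c, d], x * x ∈ ⁅T, T⁆)
    (hB : ⁅T, T⁆ ≤ Subgroup.centralizer (⁅⁅T, T⁆, T⁆ : Subgroup K))
    (hbC : b ∈ Subgroup.centralizer (⁅⁅T, T⁆, T⁆ : Subgroup K))
    (hcC : c ∈ Subgroup.centralizer (⁅⁅T, T⁆, T⁆ : Subgroup K))
    (haC : a ∉ Subgroup.centralizer (⁅⁅T, T⁆, T⁆ : Subgroup K))
    (hdC : d ∉ Subgroup.centralizer (⁅⁅T, T⁆, T⁆ : Subgroup K))
    (hadC : a * d ∉ Subgroup.centralizer (⁅⁅T, T⁆, T⁆ : Subgroup K)) : Tr D T := by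
  set B : Subgroup K := ⁅T, T⁆ with hBdef
  set C : Subgroup K := Subgroup.centralizer (⁅B, T⁆ : Subgroup K) with hCdef
  have hBT : B ≤ T := by
    rw [hBdef, Subgroup.commutator_le]
    intro x hx y hy
    rw [commutatorElement_def]
    exact mul_mem (mul_mem (mul_mem hx hy) (inv_mem hx)) (inv_mem hy)
  have hBinv : Inv D B := hT.commutator hT
  have hCinv : Inv D C := (hBinv.commutator hT).centralizer
  set A : Subgroup K := T ⊓ C with hA
  have hAinv : Inv D A := hT.inf hCinv
  have hAT : A ≤ T := inf_le_left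
  have hBA : B ≤ A := le_inf hBT hB
  have hconjB : ∀ y ∈ T, ∀ x ∈ B, y * x * y⁻¹ ∈ B := by
    intro y hy x hx
    have h1 : y * x * y⁻¹ = ⁅y, x⁆ * x := by rw [commutatorElement_def]; group
    rw [h1]
    exact mul_mem (Subgroup.commutator_mem_commutator hy (hBT hx)) hx
  have hlT : ∀ x ∈ [a, b, c, d], x ∈ T := by
    intro x hx
    simp only [List.mem_cons, List.not_mem_nil, or_false] at hx
    rcases hx with rfl | rfl | rfl | rfl <;> assumption
  -- index of `A`
  obtain ⟨h1, h2⟩ := relIndex_le_two_pow (T := T) [a, d] (A := A) hAT hBA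
    (by
      intro x hx
      simp only [List.mem_cons, List.not_mem_nil, or_false] at hx
      rcases hx with rfl | rfl <;> assumption)
    (by
      intro x hx
      apply hBA
      apply hsq
      simp only [List.mem_cons, List.not_mem_nil, or_false] at hx ⊢
      tauto)
    (by
      refine hgen.trans ?_
      rw [Subgroup.closure_le]
      intro x hx
      simp only [List.mem_cons, List.not_mem_nil, or_false, Set.mem_ofPred_eq] at hx
      rcases hx with rfl | rfl | rfl | rfl
      · exact Subgroup.mem_sup_right (Subgroup.subset_closure (by simp))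
      · exact Subgroup.mem_sup_left ⟨hb, hbC⟩
      · exact Subgroup.mem_sup_left ⟨hc, hcC⟩
      · exact Subgroup.mem_sup_right (Subgroup.subset_closure (by simp)))
  -- index of `B`
  obtain ⟨h3, h4⟩ := relIndex_le_two_pow (T := T) [a, b, c, d] (A := B) hBT le_rfl hlT hsq
    (hgen.trans le_sup_right)
  have hcomm : ∀ y ∈ T, ∀ x ∈ T, y * x ∉ A → x * y ∉ A := by
    intro y hy x hx h hcon
    apply h
    have e : y * x = ⁅y, x⁆ * (x * y) := by rw [commutatorElement_def]; group
    rw [e]
    exact mul_mem (hBA (Subgroup.commutator_mem_commutator hy hx)) hcon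
  have h5 : 4 ≤ A.relIndex T := by
    refine four_le_relIndex ha hd (fun h : a ∈ A => haC h.2) (fun h : d ∈ A => hdC h.2) ?_
      (fun h : a * d ∈ A => hadC h.2) hcomm
    intro h
    apply hadC
    have e : a * d = (a * a) * (a⁻¹ * d) := by group
    rw [e]
    exact mul_mem (hB (hsq a (by simp))) h.2
  have h6 := Subgroup.relIndex_mul_relIndex B A T hBA hAT
  have h7 : B.relIndex A ≠ 0 := by
    intro h
    rw [h, zero_mul] at h6
    exact h3 h6.symm
  have h8 : B.relIndex A ≤ 4 := by
    have h9 : B.relIndex A * 4 ≤ 16 := by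
      calc B.relIndex A * 4 ≤ B.relIndex A * A.relIndex T := Nat.mul_le_mul_left _ h5
        _ = B.relIndex T := h6
        _ ≤ 16 := h4
    omega
  have hs : ∀ X : Subgroup K, X ≤ T → Group.IsSolvable X := by
    intro X hX
    have : Finite X := Finite.of_injective _ (Subgroup.inclusion_injective hX)
    have hp : IsPGroup 2 X := hTp.of_injective (Subgroup.inclusion hX) (Subgroup.inclusion_injective hX)
    have : Group.IsNilpotent X := hp.isNilpotent
    infer_instance
  have t1 : TrMod D T A := trMod_of_relIndex_le_four hD hT hAinv h1 h2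
  have t2 : TrMod D A B := trMod_of_relIndex_le_four hD hAinv hBinv h7 h8
  have t3 : TrMod D T B := TrMod.trans hD hconjB hAT (hs A hAT) t1 t2
  refine tr_of_frattini hD hTp hT ?_ t3
  have h10 : B = (commutator T).map T.subtype := by
    rw [commutator_def, Subgroup.map_commutator, ← MonoidHom.range_eq_map, Subgroup.range_subtype]
  rw [h10]
  exact Subgroup.map_mono (Cfsg.Agent.Lib.FrattiniPGroup.commutator_le_frattini hTp)

end Cfsg.Agent.Schreier.LowerCrit
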