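import Mathlib
import Cfsg.Agent.Schreier.Basic
import Cfsg.Agent.LieRecognition.FieldSemilinear
import Cfsg.Agent.ClassicalGeometry.PSUAutMain
import Cfsg.Agent.ClassicalGeometry.PSUAutCount
set_option linter.all false

/-!
# The Schreier property of `PSU n F q`
-/

set_option autoImplicit false

namespace Cfsg.Agent.Schreier.PSU

open Cfsg Cfsg.Agent.Schreier.Basic Matrix Cfsg.Agent.LieClassical.HermSiegel
  Cfsg.Agent.ClassicalGeometry.PSUAutCount
open Cfsg.Agent.ClassicalGeometry.UnitAutBasic (pr pr_surjective)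

section General

/-- If `MulAut K` is generated by two homomorphic images `f₁(A)`, `f₂(B)` with `B` commutative normalising `f₁(A)` and
the commutator subgroup of `A` acting by inner automorphisms, then `K` has the Schreier property. -/
theorem sch_of_two {K A B : Type*} [Group K] [Group A] [Group B] (f₁ : A →* MulAut K) (f₂ : B →* MulAut K)
    (hB : ∀ b b' : B, b * b' = b' * b) (h : ∀ α : MulAut K, ∃ a b, α = f₁ a * f₂ b)
    (hn : ∀ a b, ∃ a', f₂ b * f₁ a * (f₂ b)⁻¹ = f₁ a')
    (hi : ∀ a a' : A, f₁ (a * a' * a⁻¹ * a'⁻¹) ∈ (MulAut.conj : K →* MulAut K).range) : Sch K := by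
  intro C hC
  have hN : (f₁.range).Normal := by
    constructor
    rintro _ ⟨a, rfl⟩ α
    obtain ⟨a₁, b, rfl⟩ := h α
    obtain ⟨a', ha'⟩ := hn a b
    refine ⟨a₁ * a' * a₁⁻¹, ?_⟩
    rw [map_mul, map_mul, map_inv, ← ha']
    group
  -- the quotient is commutative
  have hcomm : ∀ x y : MulAut K ⧸ f₁.range, x * y = y * x := by
    intro x y
    obtain ⟨α, rfl⟩ := QuotientGroup.mk_surjective x
    obtain ⟨β, rfl⟩ := QuotientGroup.mk_surjective y
    obtain ⟨a, b, rfl⟩ := h α
    obtain ⟨a', b', rfl⟩ := h β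
    have h1 : ∀ a, (QuotientGroup.mk (f₁ a) : MulAut K ⧸ f₁.range) = 1 := fun a =>
      (QuotientGroup.eq_one_iff _).2 ⟨a, rfl⟩
    rw [QuotientGroup.mk_mul, QuotientGroup.mk_mul, h1, h1, one_mul, one_mul, ← QuotientGroup.mk_mul,
      ← QuotientGroup.mk_mul, ← map_mul, ← map_mul, hB]
  have h1 : C ≤ f₁.range := by
    have h2 : C.map (QuotientGroup.mk' f₁.range) = ⊥ := by
      apply eq_bot_of_perfect_of_solvable (map_perfect _ hC)
      exact Group.isSolvable_of_comm fun a b => Subtype.ext (hcomm _ _)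
    rw [Subgroup.map_eq_bot_iff, QuotientGroup.ker_mk'] at h2
    exact h2
  rw [← hC]
  refine (Subgroup.commutator_mono h1 h1).trans ?_
  rw [Subgroup.commutator_le]
  rintro _ ⟨a, rfl⟩ _ ⟨a', rfl⟩
  have := hi a a'
  rw [map_mul, map_mul, map_mul, map_inv, map_inv] at this
  exact this

end General

variable {F : Type*} [Field F] {q n : ℕ}

theorem act_semiConj_one (A : GU n F q) (g : SU n F q) (x : Fin n → F) :
    act (semiConj A 1 g) (gm A *ᵥ x) = gm A *ᵥ act g x := act_semiConj A 1 g x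

theorem act_semiConj_field (ρ : F ≃+* F) (g : SU n F q) (x : Fin n → F) :
    act (semiConj 1 ρ g) (fun i => ρ (x i)) = fun i => ρ (act g x i) := by
  have := act_semiConj 1 ρ g x
  rwa [gm_one, one_mulVec, one_mulVec] at this

theorem act_semiConj_one' (A : GU n F q) (g : SU n F q) (x : Fin n → F) :
    act (semiConj A 1 g) x = gm A *ᵥ act g (gm A⁻¹ *ᵥ x) := by
  rw [← act_semiConj_one, gm_mulVec_inv]

theorem act_semiConj_field' (ρ : F ≃+* F) (g : SU n F q) (x : Fin n → F) :
    act (semiConj 1 ρ g) x = fun i => ρ (act g (fun j => ρ.symm (x j)) i) := by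
  rw [← act_semiConj_field]
  congr 1
  funext i
  simp

theorem toAut_pr' (A : GU n F q) (ρ : F ≃+* F) (g : SU n F q) :
    toAut A ρ (pr n F q g) = pr n F q (semiConj A ρ g) := rfl

/-- Linear automorphisms. -/
def f₁ : GU n F q →* MulAut (PSU n F q) where
  toFun A := toAut A 1
  map_one' := by
    ext x
    obtain ⟨g, rfl⟩ := pr_surjective x
    rw [toAut_pr', MulAut.one_apply]
    congr 1
    apply ext_act
    intro x
    rw [act_semiConj_one', inv_one, gm_one, one_mulVec, one_mulVec]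
  map_mul' A B := by
    ext x
    obtain ⟨g, rfl⟩ := pr_surjective x
    rw [MulAut.mul_apply, toAut_pr', toAut_pr', toAut_pr']
    congr 1
    apply ext_act
    intro x
    rw [act_semiConj_one', act_semiConj_one', act_semiConj_one', _root_.mul_inv_rev, gm_mul, gm_mul, mulVec_mulVec,
      mulVec_mulVec]

/-- Field automorphisms. -/
def f₂ : (F ≃+* F) →* MulAut (PSU n F q) where
  toFun ρ := toAut 1 ρ
  map_one' := by
    ext x
    obtain ⟨g, rfl⟩ := pr_surjective x
    rw [toAut_pr', MulAut.one_apply]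
    congr 1
    apply ext_act
    intro x
    exact act_semiConj_field 1 g x
  map_mul' ρ σ := by
    ext x
    obtain ⟨g, rfl⟩ := pr_surjective x
    rw [MulAut.mul_apply, toAut_pr', toAut_pr', toAut_pr']
    congr 1
    apply ext_act
    intro x
    rw [act_semiConj_field', act_semiConj_field', act_semiConj_field']
    rfl

theorem toAut_eq (A : GU n F q) (ρ : F ≃+* F) : toAut A ρ = f₁ A * f₂ ρ := by
  ext x
  obtain ⟨g, rfl⟩ := pr_surjective x
  show _ = toAut A 1 (toAut 1 ρ (pr n F q g))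
  rw [toAut_pr', toAut_pr', toAut_pr']
  congr 1
  apply ext_act
  intro x
  have hx : x = gm A *ᵥ fun i => ρ ((fun j => ρ.symm ((gm A⁻¹ *ᵥ x) j)) i) := by
    simp only [RingEquiv.apply_symm_apply]
    rw [gm_mulVec_inv]
  rw [hx, act_semiConj, act_semiConj_one, act_semiConj_field]

/-- Applying a field automorphism to an element of `GU`. -/
def mapGU (ρ : F ≃+* F) (A : GU n F q) : GU n F q :=
  ⟨Matrix.GeneralLinearGroup.map (ρ : F →+* F) (A : GL (Fin n) F), by
    intro u v
    have key : ∀ w : Fin n → F, ((Matrix.GeneralLinearGroup.map (ρ : F →+* F) (A : GL (Fin n) F) :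
        GL (Fin n) F) : Matrix (Fin n) (Fin n) F) *ᵥ w = fun i => ρ ((gm A *ᵥ fun j => ρ.symm (w j)) i) := by
      intro w
      funext i
      simp [Matrix.mulVec, dotProduct, gm, Matrix.GeneralLinearGroup.map]
    show hermForm n F q (((Matrix.GeneralLinearGroup.map (ρ : F →+* F) (A : GL (Fin n) F) :
        GL (Fin n) F) : Matrix (Fin n) (Fin n) F) *ᵥ u) (((Matrix.GeneralLinearGroup.map (ρ : F →+* F)
        (A : GL (Fin n) F) : GL (Fin n) F) : Matrix (Fin n) (Fin n) F) *ᵥ v) = hermForm n F q u v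
    rw [key, key, herm_map, herm_gm, ← herm_map]
    simp⟩

theorem gm_mapGU (ρ : F ≃+* F) (A : GU n F q) (w : Fin n → F) :
    gm (mapGU ρ A) *ᵥ (fun i => ρ (w i)) = fun i => ρ ((gm A *ᵥ w) i) := by
  funext i
  simp [Matrix.mulVec, dotProduct, gm, mapGU, Matrix.GeneralLinearGroup.map]

theorem conj_field (ρ : F ≃+* F) (A : GU n F q) : (f₂ ρ : MulAut (PSU n F q)) * f₁ A * (f₂ ρ)⁻¹ = f₁ (mapGU ρ A) := by
  rw [mul_inv_eq_iff_eq_mul]
  ext x
  obtain ⟨g, rfl⟩ := pr_surjective x
  show toAut 1 ρ (toAut A 1 (pr n F q g)) = toAut (mapGU ρ A) 1 (toAut 1 ρ (pr n F q g))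
  rw [toAut_pr', toAut_pr', toAut_pr', toAut_pr']
  congr 1
  apply ext_act
  intro x
  have hx : x = gm (mapGU ρ A) *ᵥ fun i => ρ ((fun j => ρ.symm ((gm (mapGU ρ A)⁻¹ *ᵥ x) j)) i) := by
    simp only [RingEquiv.apply_symm_apply]
    rw [gm_mulVec_inv]
  generalize (fun j => ρ.symm ((gm (mapGU ρ A)⁻¹ *ᵥ x) j)) = y at hx
  rw [hx, act_semiConj_one, act_semiConj_field, gm_mapGU, act_semiConj_field, act_semiConj_one, gm_mapGU]

/-- The linear automorphism induced by an element of determinant one is inner. -/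
theorem f₁_eq_conj (A : GU n F q) (g : SU n F q) (h : gm A = mat g) :
    f₁ A = MulAut.conj (pr n F q g) := by
  ext x
  obtain ⟨y, rfl⟩ := pr_surjective x
  show toAut A 1 (pr n F q y) = _
  rw [MulAut.conj_apply, ← map_inv, ← map_mul, ← map_mul, toAut_pr']
  congr 1
  apply ext_act
  intro x
  have hx : x = gm A *ᵥ (gm A⁻¹ *ᵥ x) := by rw [gm_mulVec_inv]
  rw [hx, act_semiConj_one, act_mul, act_mul, h, ← act_def, ← act_def, act_inv_act]

theorem f₁_commutator (A B : GU n F q) : f₁ (A * B * A⁻¹ * B⁻¹) ∈ (MulAut.conj : PSU n F q →* MulAut (PSU n F q)).range := by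
  have hdet : (gm (A * B * A⁻¹ * B⁻¹)).det = 1 := by
    have h1 : (gm A).det * (gm A⁻¹).det = 1 := by rw [← det_mul, gm_mul_inv, det_one]
    have h2 : (gm B).det * (gm B⁻¹).det = 1 := by rw [← det_mul, gm_mul_inv, det_one]
    rw [gm_mul, gm_mul, gm_mul, det_mul, det_mul, det_mul]
    linear_combination (gm B).det * (gm B⁻¹).det * h1 + h2
  let g : SU n F q := mkSU (gm (A * B * A⁻¹ * B⁻¹)) hdet (fun u v => herm_gm _ u v)
  exact ⟨pr n F q g, (f₁_eq_conj (A * B * A⁻¹ * B⁻¹) g rfl).symm⟩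

/-- **The Schreier property of `PSU n F q`.** -/
theorem sch [Fintype F] (hF : Fintype.card F = q ^ 2) (hn : 3 ≤ n) (h32 : ¬ (n = 3 ∧ q = 2)) :
    Sch (PSU n F q) := by
  have hc : IsCyclic (F ≃+* F) := LieRecognition.FieldSemilinear.isCyclic_ringAut F
  let _ : CommGroup (F ≃+* F) := IsCyclic.commGroup
  refine sch_of_two (f₁ (F := F) (q := q) (n := n)) f₂ (fun b b' => mul_comm b b') ?_
    (fun a b => ⟨_, conj_field b a⟩) f₁_commutator
  intro α
  obtain ⟨A, ρ, h⟩ := ClassicalGeometry.PSUAutMain.exists_toAut hF hn h32 α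
  exact ⟨A, ρ, h.trans (toAut_eq A ρ)⟩

/-- Every simple group in the unitary family has the Schreier property. -/
theorem sch_of_isPSU {G : Type*} [Group G] (h : IsPSU G) : Sch G := by
  obtain ⟨F, iF, iF', n, q, hF, hn, h32, ⟨e⟩⟩ := h
  exact Sch.of_equiv e.symm (sch hF hn h32)

end Cfsg.Agent.Schreier.PSU
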