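import Mathlib
import Cfsg.Agent.Schreier.ClassBase
import Cfsg.Agent.ClassicalGeometry.SympAutTwo
import Cfsg.Agent.ClassicalGeometry.SympAutExists
set_option linter.all false

/-!
# The Schreier property of `PSp m F`
-/

set_option autoImplicit false

namespace Cfsg.Agent.Schreier.ClassPSp

open Cfsg Cfsg.Agent.Schreier.Basic Cfsg.Agent.Schreier.ClassBase
open Cfsg.Agent.ClassicalGeometry.SympAutSemi

open scoped commutatorElement

section general

variable {m : ℕ} {F : Type*} [Field F]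

theorem IsSemi.comm [Finite F] {g h : Equiv.Perm (Fin m ⊕ Fin m → F)} {φ ψ : F ≃+* F} {l k : F} (hl : l ≠ 0)
    (hk : k ≠ 0) (hg : IsSemi g φ l) (hh : IsSemi h ψ k) :
    IsSemi (g * h * g⁻¹ * h⁻¹) (RingEquiv.refl F) (l * φ k * ψ l⁻¹ * k⁻¹) := by
  have h1 := ((hg.mul hh).mul (hg.inv hl)).mul (hh.inv hk)
  have hc : ∀ x, φ (ψ x) = ψ (φ x) := fun x => DFunLike.congr_fun (ringAut_comm φ ψ) x
  have h2 : ψ.symm.trans (φ.symm.trans (ψ.trans φ)) = RingEquiv.refl F := by
    ext x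
    change φ (ψ (φ.symm (ψ.symm x))) = x
    rw [hc, RingEquiv.apply_symm_apply, RingEquiv.apply_symm_apply]
  rw [h2] at h1
  have h3 : l * φ k * (ψ.trans φ) (φ.symm l⁻¹) * (φ.symm.trans (ψ.trans φ)) (ψ.symm k⁻¹) =
      l * φ k * ψ l⁻¹ * k⁻¹ := by
    change l * φ k * φ (ψ (φ.symm l⁻¹)) * φ (ψ (φ.symm (ψ.symm k⁻¹))) = l * φ k * ψ l⁻¹ * k⁻¹
    rw [hc, hc, RingEquiv.apply_symm_apply, RingEquiv.apply_symm_apply, RingEquiv.apply_symm_apply]
  rwa [h3] at h1

/-- Similitudes. -/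
def sim (m : ℕ) (F : Type*) [Field F] : Subgroup (semiSim m F) where
  carrier := {g | ∃ l : F, l ≠ 0 ∧ IsSemi g.1 (RingEquiv.refl F) l}
  mul_mem' := by
    rintro g h ⟨l, hl, hg⟩ ⟨k, hk, hh⟩
    exact ⟨l * k, mul_ne_zero hl hk, hg.mul hh⟩
  one_mem' := ⟨1, one_ne_zero, fun _ _ => rfl, fun _ _ => rfl, fun _ _ => by
    rw [one_mul]; rfl⟩
  inv_mem' := by
    rintro g ⟨l, hl, hg⟩
    exact ⟨l⁻¹, inv_ne_zero hl, hg.inv hl⟩

/-- Isometries. -/
def isom (m : ℕ) (F : Type*) [Field F] : Subgroup (semiSim m F) where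
  carrier := {g | IsSemi g.1 (RingEquiv.refl F) 1}
  mul_mem' := by
    intro g h hg hh
    have := hg.mul hh
    change IsSemi (g.1 * h.1) (RingEquiv.refl F) (1 * 1) at this
    rwa [mul_one] at this
  one_mem' := ⟨fun _ _ => rfl, fun _ _ => rfl, fun _ _ => by
    rw [one_mul]; rfl⟩
  inv_mem' := by
    intro g hg
    have := IsSemi.inv one_ne_zero hg
    change IsSemi (g.1)⁻¹ (RingEquiv.refl F) (1⁻¹) at this
    rwa [inv_one] at this

theorem derived_one [Finite F] : derivedSeries (semiSim m F) 1 ≤ sim m F := by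
  rw [derivedSeries_succ, Subgroup.commutator_le]
  rintro ⟨g, φ, l, hl, hg⟩ _ ⟨h, ψ, k, hk, hh⟩ _
  refine ⟨l * φ k * ψ l⁻¹ * k⁻¹, ?_, IsSemi.comm hl hk hg hh⟩
  have h1 : φ k ≠ 0 := by simpa using hk
  have h2 : ψ l⁻¹ ≠ 0 := by simpa using hl
  exact mul_ne_zero (mul_ne_zero (mul_ne_zero hl h1) h2) (inv_ne_zero hk)

theorem derived_two [Finite F] : derivedSeries (semiSim m F) 2 ≤ isom m F := by
  rw [derivedSeries_succ]
  refine (Subgroup.commutator_mono derived_one derived_one).trans ?_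
  rw [Subgroup.commutator_le]
  rintro ⟨g, hg0⟩ ⟨l, hl, hg⟩ ⟨h, hh0⟩ ⟨k, hk, hh⟩
  have h1 := IsSemi.comm hl hk hg hh
  have h2 : l * (RingEquiv.refl F) k * (RingEquiv.refl F) l⁻¹ * k⁻¹ = 1 := by
    change l * k * l⁻¹ * k⁻¹ = 1
    field_simp
  rw [h2] at h1
  exact h1

theorem Psi_isom {g : semiSim m F} (hg : g ∈ isom m F) :
    Psi m F g ∈ (MulAut.conj : PSp m F →* MulAut (PSp m F)).range := by
  obtain ⟨h1, h2, h3⟩ := hg
  obtain ⟨A, hA⟩ := exists_rho_eq g.1 h1 h2 (fun u v => by rw [h3, one_mul]; rfl)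
  refine ⟨QuotientGroup.mk A, ?_⟩
  apply MulEquiv.ext
  intro x
  obtain ⟨B, rfl⟩ := QuotientGroup.mk_surjective x
  rw [Psi_mk, MulAut.conj_apply, ← QuotientGroup.mk_inv, ← QuotientGroup.mk_mul, ← QuotientGroup.mk_mul]
  congr 1
  apply rho_injective
  rw [rho_conjHom, map_mul, map_mul, map_inv, hA]

end general

variable {m : ℕ} {F : Type*} [Field F] [Finite F]

/-- `PSp m F` has the Schreier property. -/
theorem sch (hm : 2 ≤ m) (h22 : m = 2 → 3 ≤ Nat.card F) : Sch (PSp m F) := by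
  have := Fintype.ofFinite F
  have hB : ∀ α : MulAut (PSp m F), Cfsg.Agent.ClassicalGeometry.AutPSpCount.Pres α →
      α ∈ (Psi m F).range := by
    intro α hα
    obtain ⟨g, hg⟩ := Cfsg.Agent.ClassicalGeometry.SympAutExists.exists_semi hm α hα
    exact ⟨g, hg⟩
  have hidx : (Psi m F).range.index ≠ 0 ∧ (Psi m F).range.index ≤ 4 := by
    by_cases hcase : m = 2 ∧ (2 : F) = 0
    · obtain ⟨rfl, h2⟩ := hcase
      have hchar : CharP F 2 := by
        obtain ⟨p, hp⟩ := CharP.exists F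
        have h3 : p ∣ 2 := (CharP.cast_eq_zero_iff F p 2).1 (by exact_mod_cast h2)
        have h4 : p.Prime := CharP.char_is_prime F p
        rwa [(Nat.prime_dvd_prime_iff_eq h4 Nat.prime_two).1 h3] at hp
      have ht : ∃ t : F, t ≠ 0 ∧ t ≠ 1 := by
        by_contra hcon
        push Not at hcon
        have h3 : Fintype.card F ≤ 2 := by
          classical
          have : (Finset.univ : Finset F) ⊆ {0, 1} := by
            intro t _
            by_cases h0 : t = 0
            · simp [h0]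
            · simp [hcon t h0]
          exact (Finset.card_le_card this).trans (Finset.card_le_two)
        have h4 := h22 rfl
        rw [Nat.card_eq_fintype_card] at h4
        omega
      rw [Cfsg.Agent.ClassicalGeometry.SympAutTwo.index_two ht hB]
      exact ⟨by norm_num, by norm_num⟩
    · have htop : (Psi m F).range = ⊤ := by
        rw [eq_top_iff]
        intro α _
        apply hB
        refine Cfsg.Agent.ClassicalGeometry.SympAutOddA.recog hm ?_ α
        by_cases hm2 : m = 2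
        · right
          intro h2
          exact hcase ⟨hm2, h2⟩
        · left; omega
      rw [htop, Subgroup.index_top]
      exact ⟨by norm_num, by norm_num⟩
  refine sch_of_derived (Psi m F) hidx.1 hidx.2 2 ?_
  rw [Subgroup.map_le_iff_le_comap]
  exact fun g hg => Psi_isom (derived_two hg)

end Cfsg.Agent.Schreier.ClassPSp
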