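import Mathlib
import Cfsg.Agent.Lib.FrattiniPGroup
import Cfsg.Agent.Schreier.Basic
import Cfsg.Agent.Schreier.Tools
import Cfsg.Agent.FastGrp
import Cfsg.Agent.Prune
set_option linter.all false
prune_inst 0x7f00000000000000000000000000000000000000000000000000000000000000000000000000000000000000000000000000000000000000000000000000000000000000000000000000000000000000003fffffffffffffffffffffffffffbeffbdffffffff
open scoped Cfsg.Agent.FastGrp

/-!
# Perfect groups of automorphisms of `p`-groups

`tr_of_trMod_nongen`: a perfect group of automorphisms normalising the `p`-subgroup `T` and trivial modulo a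
subgroup of nongenerators of `T` centralises `T`.

`isSolvable_mulAut_of_flag`: a finite 2-group `T` with a chain of subgroups, invariant under all automorphisms, with
steps of index at most 4, from `T` to a subgroup of the Frattini subgroup, has a solvable automorphism group.
-/

set_option autoImplicit false

namespace Cfsg.Agent.Schreier.FlagTool

open Cfsg.Agent.Schreier.Basic Cfsg.Agent.Schreier.Tools

section aut

variable {T : Type*} [Group T]

/-- An automorphism of prime power order `q`, `q ≠ p`, of a finite `p`-group `T` that is trivial modulo a subgroup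
of nongenerators is trivial. -/
theorem eq_one_of_trMod [Finite T] {p : ℕ} [Fact p.Prime] (hT : IsPGroup p T) (B : Subgroup T)
    (hgen : ∀ X : Subgroup T, X ⊔ B = ⊤ → X = ⊤) (ψ : MulAut T) (h : ∀ a, a⁻¹ * ψ a ∈ B)
    {q : ℕ} [Fact q.Prime] (hq : q ≠ p) (hψ : orderOf ψ = q) : ψ = 1 := by
  -- fixed points of `ψ`
  let X : Subgroup T :=
    { carrier := {x | ψ x = x}
      one_mem' := map_one ψ
      mul_mem' := fun {a b} ha hb => by
        show ψ (a * b) = a * b
        rw [map_mul, show ψ a = a from ha, show ψ b = b from hb]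
      inv_mem' := fun {a} ha => by
        show ψ a⁻¹ = a⁻¹
        rw [map_inv, show ψ a = a from ha] }
  have hX : X = ⊤ := by
    apply hgen
    rw [eq_top_iff]
    intro a _
    -- the coset `a B`
    let M := Subgroup.zpowers ψ
    have hpow : ∀ n : ℕ, ∀ y : T, a⁻¹ * y ∈ B → a⁻¹ * (ψ ^ n) y ∈ B := by
      intro n
      induction n with
      | zero => intro y hy; simpa using hy
      | succ n ih =>
        intro y hy
        have h1 : (ψ ^ (n + 1)) y = (ψ ^ n) (ψ y) := by rw [pow_succ]; rfl
        rw [h1]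
        apply ih
        have h2 : a⁻¹ * ψ y = (a⁻¹ * y) * (y⁻¹ * ψ y) := by group
        rw [h2]
        exact mul_mem hy (h y)
    have hfin : IsOfFinOrder ψ := orderOf_pos_iff.1 (by rw [hψ]; exact (Fact.out : q.Prime).pos)
    have hM : ∀ m ∈ M, ∀ y : T, a⁻¹ * y ∈ B → a⁻¹ * m y ∈ B := by
      intro m hm y hy
      obtain ⟨n, rfl⟩ := hfin.mem_powers_iff_mem_zpowers.2 hm
      exact hpow n y hy
    let Y : Type _ := {y : T // a⁻¹ * y ∈ B}
    let act : MulAction M Y :=
      { smul := fun m y => ⟨(m : MulAut T) y, hM m m.2 y y.2⟩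
        one_smul := fun y => Subtype.ext rfl
        mul_smul := fun m n y => Subtype.ext rfl }
    have hMq : IsPGroup q M := by
      apply IsPGroup.of_card (n := 1)
      rw [Nat.card_zpowers, hψ, pow_one]
    have hY : ¬ q ∣ Nat.card Y := by
      have h1 : Nat.card Y = Nat.card B := by
        refine Nat.card_congr
          { toFun := fun y => ⟨a⁻¹ * y, y.2⟩
            invFun := fun b => ⟨a * b, by simp⟩
            left_inv := fun y => Subtype.ext (by simp)
            right_inv := fun b => Subtype.ext (by simp) }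
      rw [h1]
      obtain ⟨k, hk⟩ := (hT.to_subgroup B).exists_card_eq
      rw [hk]
      intro h2
      have h3 := (Fact.out : q.Prime).dvd_of_dvd_pow h2
      exact hq ((Nat.prime_dvd_prime_iff_eq Fact.out Fact.out).1 h3)
    obtain ⟨y, hy⟩ := hMq.nonempty_fixed_point_of_prime_not_dvd_card Y hY
    have h3 : ψ (y : T) = y := congrArg Subtype.val (hy ⟨ψ, Subgroup.mem_zpowers ψ⟩)
    have h4 : a = (y : T) * (a⁻¹ * (y : T))⁻¹ := by group
    rw [h4]
    exact mul_mem (Subgroup.mem_sup_left h3) (Subgroup.mem_sup_right (inv_mem y.2))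
  ext x
  have : x ∈ X := by rw [hX]; trivial
  exact this

/-- A group of automorphisms of a finite `p`-group trivial modulo a subgroup of nongenerators is a `p`-group. -/
theorem isPGroup_of_trMod [Finite T] {p : ℕ} [hp : Fact p.Prime] (hT : IsPGroup p T) (D : Subgroup (MulAut T))
    (B : Subgroup T) (hgen : ∀ X : Subgroup T, X ⊔ B = ⊤ → X = ⊤) (h : ∀ φ ∈ D, ∀ a, a⁻¹ * φ a ∈ B) :
    IsPGroup p D := by
  rw [IsPGroup.iff_orderOf]
  by_contra hcon
  push Not at hcon
  obtain ⟨d, hd⟩ := hcon
  -- a prime `q ≠ p` dividing the order of `d`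
  have hd0 : orderOf d ≠ 0 := (orderOf_pos d).ne'
  have : ∃ q : ℕ, q.Prime ∧ q ∣ orderOf d ∧ q ≠ p := by
    by_contra h2
    push Not at h2
    exact hd _ (Nat.eq_prime_pow_of_unique_prime_dvd hd0 (fun {q} hq hqd => h2 q hq hqd))
  obtain ⟨q, hq, hqd, hqp⟩ := this
  have hqf : Fact q.Prime := ⟨hq⟩
  set e := d ^ (orderOf d / q) with he
  have he1 : orderOf e = q := by
    rw [he, orderOf_pow_orderOf_div hd0 hqd]
  have he2 : orderOf (e : MulAut T) = q := by rw [Subgroup.orderOf_coe, he1]
  have hone := eq_one_of_trMod hT B hgen (e : MulAut T) (fun a => h _ e.2 a) hqp he2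
  rw [hone, orderOf_one] at he2
  exact hq.one_lt.ne he2

/-- A perfect group of automorphisms of a finite `p`-group trivial modulo a subgroup of nongenerators is trivial. -/
theorem eq_bot_of_trMod [Finite T] {p : ℕ} [hp : Fact p.Prime] (hT : IsPGroup p T) {D : Subgroup (MulAut T)}
    (hD : ⁅D, D⁆ = D) (B : Subgroup T) (hgen : ∀ X : Subgroup T, X ⊔ B = ⊤ → X = ⊤)
    (h : ∀ φ ∈ D, ∀ a, a⁻¹ * φ a ∈ B) : D = ⊥ := by
  have h1 : IsPGroup p D := isPGroup_of_trMod hT D B hgen h
  have h2 : Group.IsNilpotent D := h1.isNilpotent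
  exact eq_bot_of_perfect_of_solvable hD inferInstance

/-- Subgroups of the Frattini subgroup consist of nongenerators. -/
theorem nongen_of_le_frattini [Finite T] {B : Subgroup T} (hB : B ≤ frattini T) (X : Subgroup T)
    (hX : X ⊔ B = ⊤) : X = ⊤ := by
  apply frattini_nongenerating
  rw [eq_top_iff, ← hX]
  exact sup_le_sup_left hB X

/-- The automorphism group of a finite `p`-group is solvable if every perfect group of automorphisms acts trivially
modulo the Frattini subgroup. -/
theorem isSolvable_mulAut [Finite T] {p : ℕ} [hp : Fact p.Prime] (hT : IsPGroup p T)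
    (B : Subgroup T) (hgen : ∀ X : Subgroup T, X ⊔ B = ⊤ → X = ⊤)
    (h : ∀ D : Subgroup (MulAut T), ⁅D, D⁆ = D → TrMod D ⊤ B) : Group.IsSolvable (MulAut T) := by
  have h1 : Group.IsSolvable (⊤ : Subgroup (MulAut T)) := by
    apply isSolvable_of_perfect_eq_bot
    intro D _ hD
    exact eq_bot_of_trMod hT hD B hgen fun φ hφ a => h D hD φ hφ a (Subgroup.mem_top a)
  exact Group.isSolvable_of_surjective (f := (⊤ : Subgroup (MulAut T)).subtype)
    (fun x => ⟨⟨x, Subgroup.mem_top x⟩, rfl⟩)

/-- A finite 2-group with a chain `T ≥ A ≥ B`, `B ≤ Φ(T)`, `A`, `B` invariant under all automorphisms, with steps of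
index at most 4. -/
theorem isSolvable_mulAut_of_two_steps [Finite T] (hT : IsPGroup 2 T) (A B : Subgroup T)
    (hA : ∀ φ : MulAut T, ∀ a ∈ A, φ a ∈ A) (hB : ∀ φ : MulAut T, ∀ b ∈ B, φ b ∈ B)
    (hBf : B ≤ frattini T) (h1 : A.index ≤ 4) (h2 : B.relIndex A ≤ 4) : Group.IsSolvable (MulAut T) := by
  have : Fact (Nat.Prime 2) := ⟨Nat.prime_two⟩
  refine isSolvable_mulAut hT B (nongen_of_le_frattini hBf) ?_
  intro D hD
  have hAi : Inv D A := inv_iff.2 fun φ _ a ha => hA φ a ha
  have hBi : Inv D B := inv_iff.2 fun φ _ b hb => hB φ b hb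
  have h3 : TrMod D ⊤ A := trMod_of_relIndex_le_four hD (inv_top D) hAi
    (by rw [Subgroup.relIndex_top_right]; exact Subgroup.index_ne_zero_of_finite)
    (by rw [Subgroup.relIndex_top_right]; exact h1)
  have h4 : TrMod D A B := trMod_of_relIndex_le_four hD hAi hBi
    (Subgroup.index_ne_zero_of_finite) h2
  have hBn : ∀ a b, b ∈ B → a * b * a⁻¹ ∈ B := fun a b hb => hB (MulAut.conj a) b hb
  have hsol : Group.IsSolvable A := by
    have := (hT.to_subgroup A).isNilpotent
    infer_instance
  exact TrMod.trans hD (fun a _ b hb => hBn a b hb) le_top hsol h3 h4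

end aut

section sub

variable {K : Type*} [Group K]

/-- The subgroup generated by the squares of `T`. -/
def sq (T : Subgroup K) : Subgroup K := Subgroup.closure {x | ∃ t ∈ T, x = t * t}

end sub

end Cfsg.Agent.Schreier.FlagTool

private theorem dce_ccd513598feb : _root_.True := by
  try have : _root_.True := by simp only [_root_.Cfsg.Agent.Schreier.FlagTool.sq.eq_1]
  exact _root_.True.intro
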